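import Mathlib.GroupTheory.Sylow
import Mathlib.GroupTheory.Complement
import Mathlib.GroupTheory.Nilpotent
import Mathlib.GroupTheory.Focal
import Cfsg.Prelude.Def_Transfer

/-!
# `O^p(G)` and normal `p`-complements
-/

set_option linter.style.haveILetI false
set_option linter.deprecated false

namespace Cfsg.Lib.Fusion

open Subgroup

variable {G : Type*} [Group G] {p : ℕ}

theorem mem_pResidual_of_coprime {g : G} (h : (orderOf g).Coprime p) : g ∈ pResidual p G :=
  subset_closure h

theorem map_pResidual_le {H : Type*} [Group H] (f : G →* H) :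
    (pResidual p G).map f ≤ pResidual p H := by
  unfold pResidual
  rw [MonoidHom.map_closure, closure_le]
  rintro _ ⟨g, hg, rfl⟩
  exact mem_pResidual_of_coprime (Nat.Coprime.coprime_dvd_left (orderOf_map_dvd f g) hg)

instance pResidual_normal (p : ℕ) (G : Type*) [Group G] : (pResidual p G).Normal :=
  ⟨fun n hn g => map_pResidual_le (MulAut.conj g).toMonoidHom ⟨n, hn, rfl⟩⟩

theorem map_subtype_pResidual_le (H : Subgroup G) :
    (pResidual p H).map H.subtype ≤ pResidual p G :=
  map_pResidual_le _

theorem map_subtype_pResidual_le_self (H : Subgroup G) :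
    (pResidual p H).map H.subtype ≤ H :=
  map_subtype_le _

/-- `O^p(G)` is killed by every homomorphism to a `p`-group. -/
theorem pResidual_le_ker [hp : Fact p.Prime] {A : Type*} [Group A] (hA : IsPGroup p A) (f : G →* A) :
    pResidual p G ≤ f.ker := by
  rw [pResidual, closure_le]
  intro g hg
  obtain ⟨k, hk⟩ := IsPGroup.iff_orderOf.mp hA (f g)
  have h1 : (p ^ k).Coprime p := hk ▸ Nat.Coprime.coprime_dvd_left (orderOf_map_dvd f g) hg
  rcases Nat.eq_zero_or_pos k with rfl | hk0
  · simpa using hk
  · exact absurd ((Nat.coprime_pow_left_iff hk0 p p).mp h1)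
      (by simpa using hp.out.ne_one)

theorem pResidual_le_of_isPGroup_quotient [Fact p.Prime] (N : Subgroup G) [N.Normal]
    (h : IsPGroup p (G ⧸ N)) : pResidual p G ≤ N :=
  (pResidual_le_ker h (QuotientGroup.mk' N)).trans (QuotientGroup.ker_mk' N).le

/-- Every element has a `p`-power power of order prime to `p`. -/
theorem exists_pow_mem_pResidual [Finite G] [hp : Fact p.Prime] (g : G) :
    ∃ k : ℕ, g ^ p ^ k ∈ pResidual p G := by
  obtain ⟨k, m, hm, he⟩ :=
    Nat.exists_eq_pow_mul_and_not_dvd (orderOf_pos g).ne' p hp.out.ne_one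
  refine ⟨k, mem_pResidual_of_coprime ?_⟩
  rw [orderOf_pow_of_dvd (pow_pos hp.out.pos k).ne' (he ▸ dvd_mul_right _ _), he,
    Nat.mul_div_cancel_left _ (pow_pos hp.out.pos k)]
  exact Nat.Coprime.symm ((Nat.Prime.coprime_iff_not_dvd hp.out).2 hm)

theorem isPGroup_quotient_pResidual [Finite G] [Fact p.Prime] :
    IsPGroup p (G ⧸ pResidual p G) := by
  intro x
  obtain ⟨g, rfl⟩ := QuotientGroup.mk_surjective x
  obtain ⟨k, hk⟩ := exists_pow_mem_pResidual (p := p) g
  exact ⟨k, by rw [← QuotientGroup.mk_pow, QuotientGroup.eq_one_iff]; exact hk⟩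

theorem index_pResidual_eq_pow [Finite G] [Fact p.Prime] :
    ∃ k : ℕ, (pResidual p G).index = p ^ k :=
  IsPGroup.iff_card.mp isPGroup_quotient_pResidual

/-- A Sylow `p`-subgroup supplements every subgroup of `p`-power index. -/
theorem sylow_sup_eq_top [Finite G] [hp : Fact p.Prime] (P : Sylow p G) (N : Subgroup G)
    (h : ∃ k : ℕ, N.index = p ^ k) : (P : Subgroup G) ⊔ N = ⊤ := by
  obtain ⟨k, hk⟩ := h
  have h1 : ((P : Subgroup G) ⊔ N).index ∣ p ^ k := hk ▸ index_dvd_of_le le_sup_right
  have h2 : ((P : Subgroup G) ⊔ N).index ∣ (P : Subgroup G).index := index_dvd_of_le le_sup_left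
  refine index_eq_one.mp (Nat.eq_one_of_dvd_coprimes ?_ h1 h2)
  exact Nat.Coprime.pow_left _ ((Nat.Prime.coprime_iff_not_dvd hp.out).2 P.not_dvd_index)

theorem sylow_sup_pResidual [Finite G] [Fact p.Prime] (P : Sylow p G) :
    (P : Subgroup G) ⊔ pResidual p G = ⊤ :=
  sylow_sup_eq_top P _ index_pResidual_eq_pow

theorem exists_mul_of_sylow [Finite G] [Fact p.Prime] (P : Sylow p G) (g : G) :
    ∃ x ∈ (P : Subgroup G), ∃ m ∈ pResidual p G, g = x * m := by
  have h : g ∈ (P : Subgroup G) ⊔ pResidual p G := by rw [sylow_sup_pResidual]; trivial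
  obtain ⟨x, hx, m, hm, he⟩ := mem_sup_of_normal_right.mp h
  exact ⟨x, hx, m, hm, he.symm⟩

theorem pResidual_pResidual (p : ℕ) (G : Type*) [Group G] :
    pResidual p ↥(pResidual p G) = ⊤ := by
  apply Subgroup.map_injective (pResidual p G).subtype_injective
  rw [← MonoidHom.range_eq_map, range_subtype]
  refine le_antisymm (map_subtype_pResidual_le_self _) ?_
  nth_rw 1 [pResidual]
  rw [closure_le]
  intro g hg
  exact ⟨⟨g, mem_pResidual_of_coprime hg⟩,
    mem_pResidual_of_coprime (by rw [← Subgroup.orderOf_coe]; exact hg), rfl⟩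

theorem map_pResidual_of_surjective [Finite G] [Fact p.Prime] {H : Type*} [Group H] (f : G →* H)
    (hf : Function.Surjective f) : (pResidual p G).map f = pResidual p H := by
  haveI : Finite H := Finite.of_surjective f hf
  haveI : ((pResidual p G).map f).Normal := (pResidual_normal p G).map f hf
  refine le_antisymm (map_pResidual_le f) (pResidual_le_of_isPGroup_quotient _ ?_)
  refine (isPGroup_quotient_pResidual (p := p) (G := G)).of_surjective
    (QuotientGroup.map (pResidual p G) ((pResidual p G).map f) f (le_comap_map f _)) ?_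
  intro y
  obtain ⟨h, rfl⟩ := QuotientGroup.mk_surjective y
  obtain ⟨g, rfl⟩ := hf h
  exact ⟨(g : G ⧸ pResidual p G), rfl⟩

theorem map_pResidual_equiv {H : Type*} [Group H] (e : G ≃* H) :
    (pResidual p G).map e.toMonoidHom = pResidual p H := by
  refine le_antisymm (map_pResidual_le _) fun h hh => ?_
  exact ⟨e.symm h, map_pResidual_le e.symm.toMonoidHom ⟨h, hh, rfl⟩, e.apply_symm_apply h⟩

/-! ### normal `p`-complements -/

theorem coprime_card_of_complement [Finite G] [hp : Fact p.Prime] {P : Sylow p G} {N : Subgroup G}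
    (hN : N.IsComplement' (P : Subgroup G)) : (Nat.card N).Coprime p := by
  have h := hN.index_eq_card
  rw [← h]
  exact Nat.Coprime.symm ((Nat.Prime.coprime_iff_not_dvd hp.out).2 P.not_dvd_index)

theorem le_pResidual_of_coprime_card {N : Subgroup G}
    (h : (Nat.card N).Coprime p) : N ≤ pResidual p G := fun n hn =>
  mem_pResidual_of_coprime (Nat.Coprime.coprime_dvd_left
    (by rw [← Subgroup.orderOf_mk n hn]; exact orderOf_dvd_natCard _) h)

theorem eq_pResidual_of_complement [Finite G] [hp : Fact p.Prime] {P : Sylow p G} {N : Subgroup G}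
    [N.Normal] (hN : N.IsComplement' (P : Subgroup G)) : N = pResidual p G := by
  refine le_antisymm (le_pResidual_of_coprime_card (coprime_card_of_complement hN))
    (pResidual_le_of_isPGroup_quotient N ?_)
  obtain ⟨k, hk⟩ := IsPGroup.iff_card.mp P.2
  refine IsPGroup.of_card (n := k) ?_
  rw [← hk, ← hN.symm.index_eq_card]; rfl

theorem hasNormalPComplement_iff_coprime [Finite G] [hp : Fact p.Prime] :
    HasNormalPComplement p G ↔ (Nat.card (pResidual p G)).Coprime p := by
  constructor
  · rintro ⟨P, N, hn, hN⟩
    rw [← eq_pResidual_of_complement hN]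
    exact coprime_card_of_complement hN
  · intro h
    let P : Sylow p G := Classical.arbitrary _
    obtain ⟨k, hk⟩ := IsPGroup.iff_card.mp P.2
    refine ⟨P, pResidual p G, inferInstance, isComplement'_of_coprime ?_ ?_⟩
    · have hd : Disjoint (pResidual p G) (P : Subgroup G) := by
        rw [disjoint_iff]
        refine inf_eq_bot_of_coprime ?_
        rw [hk]; exact h.pow_right k
      haveI := pResidual_normal p G
      have hs := sylow_sup_pResidual P
      exact (isComplement'_of_disjoint_and_mul_eq_univ hd
        (by rw [← normal_mul, sup_comm, hs, coe_top])).card_mul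
    · rw [hk]; exact h.pow_right k

theorem hasNormalPComplement_iff_inf [Finite G] [hp : Fact p.Prime] (P : Sylow p G) :
    HasNormalPComplement p G ↔ pResidual p G ⊓ (P : Subgroup G) = ⊥ := by
  obtain ⟨k, hk⟩ := IsPGroup.iff_card.mp P.2
  rw [hasNormalPComplement_iff_coprime]
  constructor
  · intro h
    exact inf_eq_bot_of_coprime (by rw [hk]; exact h.pow_right k)
  · intro h
    have hc : (pResidual p G).IsComplement' (P : Subgroup G) :=
      isComplement'_of_disjoint_and_mul_eq_univ (disjoint_iff.2 h)
        (by rw [← normal_mul, sup_comm, sylow_sup_pResidual P, coe_top])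
    exact coprime_card_of_complement hc

theorem isComplement'_pResidual [Finite G] [hp : Fact p.Prime] (h : HasNormalPComplement p G)
    (P : Sylow p G) : (pResidual p G).IsComplement' (P : Subgroup G) :=
  isComplement'_of_disjoint_and_mul_eq_univ
    (disjoint_iff.2 ((hasNormalPComplement_iff_inf P).mp h))
    (by rw [← normal_mul, sup_comm, sylow_sup_pResidual P, coe_top])

theorem hasNormalPComplement_iff_exists [Finite G] [hp : Fact p.Prime] (P : Sylow p G) :
    HasNormalPComplement p G ↔ ∃ N : Subgroup G, N.Normal ∧ N.IsComplement' (P : Subgroup G) :=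
  ⟨fun h => ⟨_, inferInstance, isComplement'_pResidual h P⟩, fun ⟨N, h1, h2⟩ => ⟨P, N, h1, h2⟩⟩

theorem mem_pResidual_iff_coprime [Finite G] [hp : Fact p.Prime] (h : HasNormalPComplement p G)
    (g : G) : g ∈ pResidual p G ↔ (orderOf g).Coprime p := by
  refine ⟨fun hg => ?_, mem_pResidual_of_coprime⟩
  refine Nat.Coprime.coprime_dvd_left ?_ (hasNormalPComplement_iff_coprime.mp h)
  rw [← Subgroup.orderOf_mk g hg]; exact orderOf_dvd_natCard _

theorem hasNormalPComplement_of_normal [Finite G] [hp : Fact p.Prime] (N : Subgroup G) [N.Normal]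
    (h1 : (Nat.card N).Coprime p) (h2 : IsPGroup p (G ⧸ N)) : HasNormalPComplement p G :=
  hasNormalPComplement_iff_coprime.mpr
    (Nat.Coprime.coprime_dvd_left (card_dvd_of_le (pResidual_le_of_isPGroup_quotient N h2)) h1)

theorem hasNormalPComplement_of_injective [Finite G] [hp : Fact p.Prime] {H : Type*} [Group H]
    [Finite H] (f : H →* G) (hf : Function.Injective f) (h : HasNormalPComplement p G) :
    HasNormalPComplement p H := by
  rw [hasNormalPComplement_iff_coprime] at h ⊢
  refine Nat.Coprime.coprime_dvd_left ?_ h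
  rw [← Subgroup.card_map_of_injective hf]
  exact card_dvd_of_le (map_pResidual_le f)

theorem hasNormalPComplement_subgroup [Finite G] [hp : Fact p.Prime]
    (h : HasNormalPComplement p G) (H : Subgroup G) : HasNormalPComplement p H :=
  hasNormalPComplement_of_injective H.subtype H.subtype_injective h

theorem hasNormalPComplement_of_le [Finite G] [hp : Fact p.Prime] {H K : Subgroup G} (hle : H ≤ K)
    (h : HasNormalPComplement p K) : HasNormalPComplement p H :=
  hasNormalPComplement_of_injective (inclusion hle) (inclusion_injective hle) h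

theorem hasNormalPComplement_of_surjective [Finite G] [hp : Fact p.Prime] {H : Type*} [Group H]
    (f : G →* H) (hf : Function.Surjective f) (h : HasNormalPComplement p G) :
    HasNormalPComplement p H := by
  haveI : Finite H := Finite.of_surjective f hf
  rw [hasNormalPComplement_iff_coprime] at h ⊢
  refine Nat.Coprime.coprime_dvd_left ?_ h
  rw [← map_pResidual_of_surjective f hf]
  exact card_map_dvd (pResidual p G) f

theorem hasNormalPComplement_congr [Finite G] [hp : Fact p.Prime] {H : Type*} [Group H]
    (e : G ≃* H) : HasNormalPComplement p G ↔ HasNormalPComplement p H := by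
  haveI : Finite H := Finite.of_equiv G e.toEquiv
  exact ⟨hasNormalPComplement_of_surjective e.toMonoidHom e.surjective,
    hasNormalPComplement_of_surjective e.symm.toMonoidHom e.symm.surjective⟩

theorem hasNormalPComplement_of_isPGroup [Finite G] [hp : Fact p.Prime] (h : IsPGroup p G) :
    HasNormalPComplement p G := by
  haveI : (⊥ : Subgroup G).Normal := inferInstance
  exact hasNormalPComplement_of_normal ⊥ (by simp) (h.to_quotient _)

theorem hasNormalPComplement_of_coprime [Finite G] [hp : Fact p.Prime]
    (h : (Nat.card G).Coprime p) : HasNormalPComplement p G :=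
  hasNormalPComplement_iff_coprime.mpr (Nat.Coprime.coprime_dvd_left (card_subgroup_dvd_card _) h)

end Cfsg.Lib.Fusion
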