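import Cfsg.Agent.Lib.Fusion.Tate

/-!
# Burnside fusion and abelian Sylow subgroups
-/

set_option linter.style.haveILetI false

namespace Cfsg.Lib.Fusion

open Subgroup
open scoped commutatorElement IsMulCommutative

variable {G : Type*} [Group G] {p : ℕ}

theorem le_normalizer_of_conj_mem [Finite G] {H : Subgroup G} {g : G}
    (h : ∀ x ∈ H, g * x * g⁻¹ ∈ H) : g ∈ normalizer (H : Set G) := by
  have he : (fun x => g * x * g⁻¹) '' (H : Set G) = (H : Set G) :=
    Set.eq_of_subset_of_ncard_le (by rintro _ ⟨x, hx, rfl⟩; exact h x hx)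
      (Set.ncard_image_of_injective _ (f := fun x => g * x * g⁻¹) (MulAut.conj g).injective).ge
      (Set.toFinite _)
  rw [mem_normalizer_iff]
  intro x
  refine ⟨h x, fun hx => ?_⟩
  obtain ⟨y, hy, hye⟩ := he.symm ▸ (show g * x * g⁻¹ ∈ (H : Set G) from hx)
  rwa [← mul_left_cancel (mul_right_cancel hye)]

/-- For `x` commuting elementwise-abelian `P`, conjugation inside `P` is induced by `N(P)`. -/
theorem exists_normalizer_conj_of_abelian [Finite G] [hp : Fact p.Prime] (P : Sylow p G)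
    [hP : IsMulCommutative (P : Subgroup G)] {x g : G} (hx : x ∈ (P : Subgroup G))
    (hg : g * x * g⁻¹ ∈ (P : Subgroup G)) :
    ∃ n ∈ normalizer ((P : Subgroup G) : Set G), n * x * n⁻¹ = g * x * g⁻¹ := by
  obtain ⟨n, hn, he⟩ := P.conj_eq_normalizer_conj_of_mem x g⁻¹ hx
    (show g⁻¹⁻¹ * x * g⁻¹ ∈ _ by rw [inv_inv]; exact hg)
  refine ⟨n⁻¹, inv_mem hn, ?_⟩
  rw [inv_inv] at *
  exact he.symm

/-- The focal subgroup of an abelian Sylow subgroup is `⁅P, N(P)⁆`. -/
theorem focal_eq_commutator_normalizer [Finite G] [hp : Fact p.Prime] (P : Sylow p G)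
    [hP : IsMulCommutative (P : Subgroup G)] :
    (P : Subgroup G).focalSubgroup =
      ⁅(P : Subgroup G), normalizer ((P : Subgroup G) : Set G)⁆ := by
  refine le_antisymm ?_ ?_
  · rw [focalSubgroup_def, closure_le]
    rintro z ⟨hz, x, hx, u, rfl⟩
    have hm : u * x⁻¹ * u⁻¹ ∈ (P : Subgroup G) := by
      have : u * x⁻¹ * u⁻¹ = x⁻¹ * ⁅x, u⁆ := by rw [commutatorElement_def]; group
      rw [this]; exact mul_mem (inv_mem hx) hz
    obtain ⟨h, hh, he⟩ := exists_normalizer_conj_of_abelian P (inv_mem hx) hm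
    have : ⁅x, u⁆ = ⁅x, h⁆ := by
      rw [commutatorElement_def, commutatorElement_def, mul_assoc, mul_assoc, ← mul_assoc u, ← he]
      group
    rw [this]
    exact commutator_mem_commutator hx hh
  · rw [commutator_le]
    intro x hx n hn
    refine subset_closure ⟨?_, x, hx, n, rfl⟩
    rw [commutatorElement_def, mul_assoc, mul_assoc]
    refine mul_mem hx ?_
    rw [← mul_assoc]
    exact (mem_normalizer_iff.mp hn _).mp (inv_mem hx)

theorem commutator_le_pResidual_of_abelian [Finite G] [hp : Fact p.Prime] (P : Sylow p G)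
    [hP : IsMulCommutative (P : Subgroup G)] : commutator G ≤ pResidual p G := by
  refine Normal.quotient_commutative_iff_commutator_le.mp ⟨⟨fun a b => ?_⟩⟩
  obtain ⟨g, rfl⟩ := QuotientGroup.mk_surjective a
  obtain ⟨h, rfl⟩ := QuotientGroup.mk_surjective b
  obtain ⟨x, hx, m, hm, rfl⟩ := exists_mul_of_sylow P g
  obtain ⟨y, hy, l, hl, rfl⟩ := exists_mul_of_sylow P h
  simp only [QuotientGroup.mk_mul, (QuotientGroup.eq_one_iff m).mpr hm,
    (QuotientGroup.eq_one_iff l).mpr hl, mul_one]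
  rw [← QuotientGroup.mk_mul, ← QuotientGroup.mk_mul]
  exact congrArg _ (congrArg Subtype.val (hP.is_comm.comm ⟨x, hx⟩ ⟨y, hy⟩))

/-- For an abelian Sylow subgroup `P`: `P ∩ O^p(G) = ⁅P, N(P)⁆`. -/
theorem pResidual_inf_eq_of_abelian [Finite G] [hp : Fact p.Prime] (P : Sylow p G)
    [hP : IsMulCommutative (P : Subgroup G)] :
    pResidual p G ⊓ (P : Subgroup G) =
      ⁅(P : Subgroup G), normalizer ((P : Subgroup G) : Set G)⁆ := by
  rw [← focal_eq_commutator_normalizer, ← commutator_inf_eq_focalSubgroup]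
  exact le_antisymm (pResidual_inf_le_commutator P)
    (inf_le_inf_right _ (commutator_le_pResidual_of_abelian P))

theorem hasNormalPComplement_of_normalizer_le_centralizer [Finite G] [hp : Fact p.Prime]
    (P : Sylow p G)
    (h : normalizer ((P : Subgroup G) : Set G) ≤ centralizer ((P : Subgroup G) : Set G)) :
    HasNormalPComplement p G :=
  ⟨P, _, inferInstance, MonoidHom.ker_transferSylow_isComplement' P h⟩

/-- The transfer to an abelian Hall subgroup separates its central elements. -/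
theorem inf_commutator_inf_center_eq_bot [Finite G] (H : Subgroup G) [hc : IsMulCommutative H]
    (hH : (Nat.card H).Coprime H.index) : H ⊓ commutator G ⊓ center G = ⊥ := by
  rw [eq_bot_iff]
  rintro z ⟨⟨hzH, hzc⟩, hzz⟩
  rw [mem_bot]
  have h1 : MonoidHom.transfer (MonoidHom.id H) z = 1 :=
    Abelianization.commutator_subset_ker _ hzc
  rw [MonoidHom.transfer_eq_pow _ z (fun k g₀ _ => by
    rw [mul_assoc, ← mem_center_iff.mp (pow_mem hzz k) g₀, inv_mul_cancel_left])] at h1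
  have h2 : z ^ H.index = 1 := congrArg Subtype.val h1
  have h3 : orderOf z ∣ Nat.card H := by
    rw [← Subgroup.orderOf_mk z hzH]; exact orderOf_dvd_natCard _
  exact orderOf_eq_one_iff.mp
    (Nat.eq_one_of_dvd_coprimes hH h3 (orderOf_dvd_iff_pow_eq_one.mpr h2))

theorem inf_commutator_inf_center_eq_bot_sylow [Finite G] [hp : Fact p.Prime] (P : Sylow p G)
    [hP : IsMulCommutative (P : Subgroup G)] :
    (P : Subgroup G) ⊓ commutator G ⊓ center G = ⊥ :=
  inf_commutator_inf_center_eq_bot _ P.card_coprime_index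

/-- An abelian normal Hall subgroup `A` is the product of `⁅A, G⁆` and `A ∩ Z(G)`. -/
theorem abelian_normal_hall_decomp [Finite G] (A : Subgroup G) [hn : A.Normal]
    [hc : IsMulCommutative A] (hA : (Nat.card A).Coprime A.index) :
    ⁅A, (⊤ : Subgroup G)⁆ = commutator G ⊓ A ∧
      (commutator G ⊓ A) ⊓ (center G ⊓ A) = ⊥ ∧
      (commutator G ⊓ A) ⊔ (center G ⊓ A) = A := by
  classical
  let V : G →* A := MonoidHom.transfer (MonoidHom.id A)
  have hcm : ∀ a ∈ A, ∀ b ∈ A, a * b = b * a := fun a ha b hb =>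
    congrArg Subtype.val (hc.is_comm.comm ⟨a, ha⟩ ⟨b, hb⟩)
  haveI : Fintype (G ⧸ A) := Fintype.ofFinite _
  -- the norm map
  let ν : A → A := fun a => ∏ t : G ⧸ A,
    (⟨(t.out)⁻¹ * a * t.out, hn.conj_mem' _ a.2 _⟩ : A)
  have hmod : ∀ a : A, (a : G)⁻¹ ^ A.index * ν a ∈ ⁅A, (⊤ : Subgroup G)⁆ := by
    intro a
    let K : Subgroup A := (⁅A, (⊤ : Subgroup G)⁆).subgroupOf A
    have h1 : ((ν a : A) : A ⧸ K) = (a : A ⧸ K) ^ A.index := by
      show (QuotientGroup.mk' K) (∏ t : G ⧸ A, _) = _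
      rw [map_prod, Finset.prod_eq_pow_card, Finset.card_univ, ← Nat.card_eq_fintype_card]
      · rfl
      intro t _
      rw [QuotientGroup.mk'_apply, QuotientGroup.eq, mem_subgroupOf]
      have := commutator_mem_commutator (hn.conj_mem' _ (A.inv_mem a.2) t.out) (mem_top t.out)
      rw [commutatorElement_def] at this
      convert this using 1
      simp [mul_assoc]
    rw [← QuotientGroup.mk_pow, eq_comm, QuotientGroup.eq, mem_subgroupOf] at h1
    simpa using h1
  have hfix : ∀ a : A, (ν a : G) ∈ center G := by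
    intro a
    rw [mem_center_iff]
    intro g
    let e : G ⧸ A ≃ G ⧸ A := Equiv.mulRight ((g : G ⧸ A)⁻¹)
    let c : A →* A := (MulAut.conjNormal g : MulAut A).toMonoidHom
    have h2 : c (ν a) = ν a := by
      show c (∏ t : G ⧸ A, _) = _
      rw [map_prod]
      refine Fintype.prod_equiv e _ _ fun t => Subtype.ext ?_
      show g * ((t.out)⁻¹ * a * t.out) * g⁻¹ = ((e t).out)⁻¹ * a * (e t).out
      have h3 : ((t.out * g⁻¹ : G) : G ⧸ A) = e t := by
        rw [QuotientGroup.mk_mul, QuotientGroup.out_eq', QuotientGroup.mk_inv]; rfl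
      obtain ⟨b, hb⟩ := QuotientGroup.mk_out_eq_mul A (t.out * g⁻¹)
      rw [h3] at hb
      rw [hb]
      have h4 := hcm b b.2 _ (hn.conj_mem' _ a.2 (t.out * g⁻¹))
      calc g * ((t.out)⁻¹ * a * t.out) * g⁻¹
          = (b : G)⁻¹ * ((b : G) * ((t.out * g⁻¹)⁻¹ * a * (t.out * g⁻¹))) := by group
        _ = (b : G)⁻¹ * (((t.out * g⁻¹)⁻¹ * a * (t.out * g⁻¹)) * b) := by rw [h4]
        _ = (t.out * g⁻¹ * b)⁻¹ * a * (t.out * g⁻¹ * b) := by group
    have := congrArg Subtype.val h2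
    exact eq_mul_of_mul_inv_eq this
  have hsup : A ≤ ⁅A, (⊤ : Subgroup G)⁆ ⊔ (center G ⊓ A) := by
    intro a ha
    obtain ⟨b, hb⟩ := (powCoprime (n := A.index) (G := A) hA).surjective ⟨a, ha⟩
    have h1 : (b : G) ^ A.index = a := congrArg Subtype.val hb
    have h2 := hmod b
    rw [inv_pow, h1] at h2
    have h3 : a⁻¹ * (ν b : G) ∈ ⁅A, (⊤ : Subgroup G)⁆ ⊔ (center G ⊓ A) := mem_sup_left h2
    have := mul_mem (mem_sup_right (S := ⁅A, (⊤ : Subgroup G)⁆) (⟨hfix b, (ν b).2⟩ :
      (ν b : G) ∈ center G ⊓ A)) (inv_mem h3)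
    rwa [mul_inv_rev, inv_inv, mul_inv_cancel_left] at this
  have hle : ⁅A, (⊤ : Subgroup G)⁆ ≤ commutator G ⊓ A :=
    le_inf (commutator_mono le_top le_rfl) (commutator_le_left A ⊤)
  have hbot : (commutator G ⊓ A) ⊓ (center G ⊓ A) = ⊥ := by
    rw [eq_bot_iff, ← inf_commutator_inf_center_eq_bot A hA]
    exact fun x hx => ⟨⟨hx.1.2, hx.1.1⟩, hx.2.1⟩
  refine ⟨le_antisymm hle fun a ha => ?_, hbot,
    le_antisymm (sup_le inf_le_right inf_le_right) (hsup.trans (sup_le_sup_right hle _))⟩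
  obtain ⟨c, hc', z, hz, rfl⟩ := mem_sup_of_normal_left.mp (hsup ha.2)
  have h1 : z ∈ commutator G ⊓ A ⊓ (center G ⊓ A) :=
    ⟨(mul_mem_cancel_left (hle hc')).mp ha, hz⟩
  rw [hbot, mem_bot] at h1
  rw [h1, mul_one]
  exact hc'

end Cfsg.Lib.Fusion
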