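import Cfsg.Agent.Lib.Fusion.Abelian

/-!
# Alperin's fusion theorem and Frobenius' normal `p`-complement criterion
-/

set_option linter.style.haveILetI false

namespace Cfsg.Lib.Fusion

open Subgroup

variable {G : Type*} [Group G] {p : ℕ}

/-- `D^g = g⁻¹ D g`. -/
def conjR (g : G) (D : Subgroup G) : Subgroup G := D.map (MulAut.conj g⁻¹).toMonoidHom

theorem mem_conjR {g x : G} {D : Subgroup G} : x ∈ conjR g D ↔ g * x * g⁻¹ ∈ D := by
  constructor
  · rintro ⟨y, hy, rfl⟩
    simpa [mul_assoc] using hy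
  · intro h
    exact ⟨_, h, by simp [mul_assoc]⟩

theorem conj_mem_conjR {g x : G} {D : Subgroup G} (h : x ∈ D) : g⁻¹ * x * g ∈ conjR g D :=
  mem_conjR.mpr (by simpa [mul_assoc] using h)

theorem conjR_one (D : Subgroup G) : conjR 1 D = D := by ext x; simp [mem_conjR]

theorem conjR_conjR (g h : G) (D : Subgroup G) : conjR h (conjR g D) = conjR (g * h) D := by
  ext x; simp [mem_conjR, mul_assoc]

theorem conjR_mono (g : G) {D E : Subgroup G} (h : D ≤ E) : conjR g D ≤ conjR g E :=
  map_mono h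

theorem card_conjR (g : G) (D : Subgroup G) : Nat.card (conjR g D) = Nat.card D :=
  card_map_of_injective (MulAut.conj g⁻¹).injective

theorem conjR_le_iff {g : G} {D E : Subgroup G} :
    conjR g D ≤ E ↔ ∀ x ∈ D, g⁻¹ * x * g ∈ E := by
  refine ⟨fun h x hx => h (conj_mem_conjR hx), fun h x hx => ?_⟩
  have := h _ (mem_conjR.mp hx)
  simpa [mul_assoc] using this

theorem conjR_eq_of_mem_normalizer {g : G} {D : Subgroup G} (h : g ∈ normalizer (D : Set G)) :
    conjR g D = D := by
  ext x; rw [mem_conjR]; exact (mem_normalizer_iff.mp h x).symm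

theorem normalizer_conjR (g : G) (D : Subgroup G) :
    normalizer (conjR g D : Set G) = conjR g (normalizer (D : Set G)) := by
  exact (map_equiv_normalizer_eq D (MulAut.conj g⁻¹)).symm

theorem isPGroup_conjR {g : G} {D : Subgroup G} (h : IsPGroup p D) : IsPGroup p (conjR g D) :=
  h.map _

/-- `P ∩ Q` is a tame intersection: both `P ∩ N(P ∩ Q)` and `Q ∩ N(P ∩ Q)` have index prime to `p`
in `N(P ∩ Q)`. -/
def IsTame (P Q : Sylow p G) : Prop :=
  ¬ p ∣ ((P : Subgroup G) ⊓ normalizer (((P : Subgroup G) ⊓ (Q : Subgroup G) : Subgroup G) : Set G)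
      ).relIndex (normalizer (((P : Subgroup G) ⊓ (Q : Subgroup G) : Subgroup G) : Set G)) ∧
    ¬ p ∣ ((Q : Subgroup G) ⊓ normalizer (((P : Subgroup G) ⊓ (Q : Subgroup G) : Subgroup G) : Set G)
      ).relIndex (normalizer (((P : Subgroup G) ⊓ (Q : Subgroup G) : Subgroup G) : Set G))

/-- A chain of conjugations in normalizers of tame intersections, starting from `D`. -/
def Chain (P : Sylow p G) : List (Sylow p G × G) → Subgroup G → Prop
  | [], _ => True
  | (Q, x) :: l, D => IsTame P Q ∧
      x ∈ normalizer (((P : Subgroup G) ⊓ (Q : Subgroup G) : Subgroup G) : Set G) ∧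
      D ≤ (P : Subgroup G) ⊓ (Q : Subgroup G) ∧ Chain P l (conjR x D)

/-- The product of a chain. -/
def chainProd (l : List (Sylow p G × G)) : G := (l.map Prod.snd).prod

/-- `g` is obtained from a chain starting at `D`. -/
def Linked (P : Sylow p G) (D : Subgroup G) (g : G) : Prop :=
  ∃ l, Chain P l D ∧ chainProd l = g

theorem Chain.mono {P : Sylow p G} {l : List (Sylow p G × G)} {D E : Subgroup G}
    (h : Chain P l E) (hle : D ≤ E) : Chain P l D := by
  induction l generalizing D E with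
  | nil => trivial
  | cons a l ih =>
    obtain ⟨h1, h2, h3, h4⟩ := h
    exact ⟨h1, h2, hle.trans h3, ih h4 (conjR_mono _ hle)⟩

theorem Linked.mono {P : Sylow p G} {D E : Subgroup G} {g : G}
    (h : Linked P E g) (hle : D ≤ E) : Linked P D g := by
  obtain ⟨l, h1, h2⟩ := h
  exact ⟨l, h1.mono hle, h2⟩

theorem Linked.one (P : Sylow p G) (D : Subgroup G) : Linked P D 1 := ⟨[], trivial, rfl⟩

theorem Chain.append {P : Sylow p G} {l l' : List (Sylow p G × G)} {D : Subgroup G}
    (h : Chain P l D) (h' : Chain P l' (conjR (chainProd l) D)) : Chain P (l ++ l') D := by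
  induction l generalizing D with
  | nil => simpa [chainProd, conjR_one] using h'
  | cons a l ih =>
    obtain ⟨h1, h2, h3, h4⟩ := h
    refine ⟨h1, h2, h3, ih h4 ?_⟩
    simpa [chainProd, conjR_conjR] using h'

theorem Linked.mul {P : Sylow p G} {D : Subgroup G} {g h : G}
    (hg : Linked P D g) (hh : Linked P (conjR g D) h) : Linked P D (g * h) := by
  obtain ⟨l, h1, rfl⟩ := hg
  obtain ⟨l', h3, rfl⟩ := hh
  exact ⟨l ++ l', h1.append h3, by simp [chainProd]⟩

theorem Linked.step {P Q : Sylow p G} {D : Subgroup G} {x : G} (h1 : IsTame P Q)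
    (h2 : x ∈ normalizer (((P : Subgroup G) ⊓ (Q : Subgroup G) : Subgroup G) : Set G))
    (h3 : D ≤ (P : Subgroup G) ⊓ (Q : Subgroup G)) : Linked P D x :=
  ⟨[(Q, x)], ⟨h1, h2, h3, trivial⟩, by simp [chainProd]⟩

theorem Linked.inv {P : Sylow p G} {D : Subgroup G} {g : G} (h : Linked P D g) :
    Linked P (conjR g D) g⁻¹ := by
  obtain ⟨l, h1, rfl⟩ := h
  induction l generalizing D with
  | nil => simpa [chainProd] using Linked.one P (conjR 1 D)
  | cons a l ih =>
    obtain ⟨ht, hn, hle, hc⟩ := h1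
    have h2 := ih hc
    rw [conjR_conjR] at h2
    have h3 : Linked P (conjR a.2 D) a.2⁻¹ := by
      refine Linked.step ht (inv_mem hn) ?_
      exact (conjR_mono a.2 hle).trans (conjR_eq_of_mem_normalizer hn).le
    have h4 : chainProd (a :: l) = a.2 * chainProd l := by simp [chainProd]
    rw [h4, mul_inv_rev]
    refine h2.mul ?_
    rw [conjR_conjR, mul_inv_cancel_right]
    exact h3

theorem isPGroup_le_sylow {P : Sylow p G} {D : Subgroup G} (h : D ≤ (P : Subgroup G)) :
    IsPGroup p D := P.2.to_le h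

theorem sylow_isTame_self [Finite G] [Fact p.Prime] (P : Sylow p G) : IsTame P P := by
  have hle : (P : Subgroup G) ≤ normalizer ((P : Subgroup G) : Set G) := le_normalizer
  refine and_self_iff.mpr ?_
  rw [inf_idem, inf_eq_left.mpr hle]
  exact fun h => P.not_dvd_index (h.trans (relIndex_dvd_index_of_le hle))

/-- The intersection of a proper subgroup of a Sylow subgroup with ambient normalizer grows. -/
theorem lt_inf_normalizer [Finite G] [Fact p.Prime] {R D : Subgroup G} (hR : IsPGroup p R)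
    (h : D < R) : D < R ⊓ normalizer (D : Set G) := by
  haveI := hR.isNilpotent
  have h1 : D.subgroupOf R < ⊤ := lt_of_le_of_ne le_top fun he =>
    h.not_ge (subgroupOf_eq_top.mp he)
  have h2 := Group.normalizerCondition_of_isNilpotent (D.subgroupOf R) h1
  obtain ⟨x, hx, hxD⟩ := SetLike.exists_of_lt h2
  refine SetLike.lt_iff_le_and_exists.mpr ⟨le_inf h.le le_normalizer, (x : G), mem_inf.mpr ⟨x.2, ?_⟩,
    fun hd => hxD (mem_subgroupOf.mpr hd)⟩
  refine le_normalizer_of_conj_mem fun y hy => ?_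
  exact mem_subgroupOf.mp ((mem_normalizer_iff.mp hx ⟨y, h.le hy⟩).mp (mem_subgroupOf.mpr hy))

theorem card_lt_card_of_lt [Finite G] {A B : Subgroup G} (h : A < B) :
    Nat.card A < Nat.card B :=
  lt_of_le_of_ne (Nat.le_of_dvd Nat.card_pos (card_dvd_of_le h.le)) fun he =>
    h.ne (eq_of_le_of_card_ge h.le he.ge)

theorem sylow_of_normalizer [Finite G] [Fact p.Prime] {D : Subgroup G} (hD : IsPGroup p D) :
    ∀ S : Sylow p ↥(normalizer (D : Set G)),
      D ≤ (S : Subgroup ↥(normalizer (D : Set G))).map (normalizer (D : Set G)).subtype := by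
  intro S x hx
  have hn : (D.subgroupOf (normalizer (D : Set G))).Normal := normal_in_normalizer
  have hp : IsPGroup p (D.subgroupOf (normalizer (D : Set G))) :=
    hD.of_equiv (subgroupOfEquivOfLe le_normalizer).symm
  exact ⟨⟨x, le_normalizer hx⟩, hp.le_sylow_of_normal S (mem_subgroupOf.mpr hx), rfl⟩

/-- Alperin's fusion theorem. -/
theorem alperin [Finite G] [hp : Fact p.Prime] (P : Sylow p G) (D : Subgroup G) (g : G)
    (hD : D ≤ (P : Subgroup G)) (hDg : conjR g D ≤ (P : Subgroup G)) : Linked P D g := by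
  classical
  induction hn : Nat.card G - Nat.card D using Nat.strong_induction_on generalizing D g with
  | _ m ih =>
  subst hn
  have big : ∀ (D' : Subgroup G) (g' : G), Nat.card D < Nat.card D' → D' ≤ (P : Subgroup G) →
      conjR g' D' ≤ (P : Subgroup G) → Linked P D' g' := by
    intro D' g' hlt h1 h2
    exact ih _ (by have := card_le_card_group D'; omega) D' g' h1 h2 rfl
  rcases eq_or_lt_of_le hD with hDP | hDP
  · subst hDP
    have hg : g ∈ normalizer ((P : Subgroup G) : Set G) := by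
      rw [← inv_mem_iff]
      refine le_normalizer_of_conj_mem fun x hx => ?_
      rw [inv_inv]
      exact hDg (conj_mem_conjR hx)
    exact Linked.step (sylow_isTame_self P) (by rw [inf_idem]; exact hg) (by rw [inf_idem])
  -- every conjugate of `D` inside `P` can be moved to a fully normalized one
  have key : ∀ E : Subgroup G, E < (P : Subgroup G) → Nat.card E = Nat.card D →
      ∃ h : G, Linked P E h ∧ conjR h E ≤ (P : Subgroup G) ∧
        ¬ p ∣ ((P : Subgroup G) ⊓ normalizer (conjR h E : Set G)).relIndex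
          (normalizer (conjR h E : Set G)) := by
    intro E hE hcard
    set N := normalizer (E : Set G) with hN
    obtain ⟨S, hS⟩ := ((isPGroup_le_sylow (P := P) inf_le_left :
      IsPGroup p ((P : Subgroup G) ⊓ N : Subgroup G)).of_equiv
        (subgroupOfEquivOfLe inf_le_right).symm).exists_le_sylow
    let S₀ : Subgroup G := (S : Subgroup N).map N.subtype
    obtain ⟨S', hS'⟩ := (S.2.map N.subtype : IsPGroup p S₀).exists_le_sylow
    obtain ⟨c, rfl⟩ := MulAction.exists_smul_eq G P S'
    have h1 : conjR c S₀ ≤ (P : Subgroup G) := conjR_le_iff.mpr fun x hx => by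
      obtain ⟨y, hy, he⟩ := hS' hx
      have he' : c * y * c⁻¹ = x := he
      rw [← he']
      have e : c⁻¹ * (c * y * c⁻¹) * c = y := by group
      rw [e]; exact hy
    have hES : E ≤ S₀ := sylow_of_normalizer (isPGroup_le_sylow hE.le) S
    have hTS : (P : Subgroup G) ⊓ N ≤ S₀ := fun x hx => ⟨⟨x, hx.2⟩, hS (mem_subgroupOf.mpr hx), rfl⟩
    refine ⟨c, (big _ c ?_ inf_le_left ((conjR_mono c hTS).trans h1)).mono
      (le_inf hE.le le_normalizer), (conjR_mono c hES).trans h1, ?_⟩
    · rw [← hcard]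
      have := lt_inf_normalizer (P.2 : IsPGroup p (P : Subgroup G)) hE
      exact card_lt_card_of_lt this
    · rw [normalizer_conjR, ← hN]
      intro hd
      refine S.not_dvd_index (hd.trans ?_)
      have h2 : (conjR c S₀).relIndex (conjR c N) = (S : Subgroup N).index := by
        rw [conjR, conjR, relIndex_map_map_of_injective _ _ (MulAut.conj c⁻¹).injective]
        show (((S : Subgroup N).map N.subtype).subgroupOf N).index = _
        rw [subgroupOf, comap_map_eq_self_of_injective N.subtype_injective]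
      rw [← h2]
      exact relIndex_dvd_of_le_left _ (le_inf h1 (conjR_mono c (map_subtype_le _)))
  obtain ⟨h, hh1, hh2, hh3⟩ := key D hDP rfl
  have hEP : conjR g D < (P : Subgroup G) := lt_of_le_of_ne hDg fun he => by
    have h1 := congrArg (fun K : Subgroup G => Nat.card K) he
    simp only [card_conjR] at h1
    exact hDP.ne (eq_of_le_of_card_ge hDP.le h1.ge)
  obtain ⟨h', hh1', hh2', hh3'⟩ := key _ hEP (card_conjR g D)
  -- reduce to fully normalized `E₀`, `E₁`
  set E₀ := conjR h D with hE₀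
  set E₁ := conjR h' (conjR g D) with hE₁
  suffices hmid : Linked P E₀ (h⁻¹ * g * h') by
    have h5 := hh1.mul hmid
    have h6 : Linked P (conjR g D) h' := hh1'
    have h7 : Linked P (conjR h' (conjR g D)) h'⁻¹ := h6.inv
    have h8 := h5.mul (h := h'⁻¹) (by
      rw [conjR_conjR] at h7
      convert h7 using 2
      group)
    convert h8 using 1
    group
  have hE₀lt : E₀ < (P : Subgroup G) := lt_of_le_of_ne hh2 fun he => by
    have h1 := congrArg (fun K : Subgroup G => Nat.card K) he
    simp only [hE₀, card_conjR] at h1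
    exact hDP.ne (eq_of_le_of_card_ge hDP.le h1.ge)
  have hE₁lt : E₁ < (P : Subgroup G) := lt_of_le_of_ne hh2' fun he => by
    have h1 := congrArg (fun K : Subgroup G => Nat.card K) he
    simp only [hE₁, card_conjR] at h1
    exact hDP.ne (eq_of_le_of_card_ge hDP.le h1.ge)
  have hc₀ : Nat.card E₀ = Nat.card D := card_conjR _ _
  have hc₁ : Nat.card E₁ = Nat.card D := by rw [hE₁, card_conjR, card_conjR]
  set u := h⁻¹ * g * h' with hu
  have hE01 : conjR u E₀ = E₁ := by
    rw [hE₀, hE₁, conjR_conjR, conjR_conjR, hu]; congr 1; group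
  set N₁ := normalizer (E₁ : Set G) with hN₁
  set T₁ := (P : Subgroup G) ⊓ N₁ with hT₁
  have hT₁lt : E₁ < T₁ := lt_inf_normalizer (P.2 : IsPGroup p (P : Subgroup G)) hE₁lt
  have hT₀lt : E₀ < (P : Subgroup G) ⊓ normalizer (E₀ : Set G) :=
    lt_inf_normalizer (P.2 : IsPGroup p (P : Subgroup G)) hE₀lt
  -- a Sylow subgroup of `N₁` coming from `E₁`
  have hT₁p : IsPGroup p (T₁.subgroupOf N₁) :=
    (isPGroup_le_sylow (P := P) inf_le_left : IsPGroup p T₁).of_equiv
      (subgroupOfEquivOfLe inf_le_right).symm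
  let T₁' : Sylow p N₁ := hT₁p.toSylow hh3'
  set T₀ := (P : Subgroup G) ⊓ normalizer (E₀ : Set G) with hT₀
  have hT₀N : conjR u T₀ ≤ N₁ := by
    rw [hN₁, ← hE01, normalizer_conjR]
    exact conjR_mono u inf_le_right
  obtain ⟨S, hS⟩ := ((isPGroup_conjR (g := u) (isPGroup_le_sylow (P := P) inf_le_left :
    IsPGroup p T₀)).of_equiv (subgroupOfEquivOfLe hT₀N).symm).exists_le_sylow
  obtain ⟨n, hn⟩ := MulAction.exists_smul_eq N₁ T₁' S
  have hun : conjR (u * n) T₀ ≤ T₁ := by
    rw [← conjR_conjR]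
    refine conjR_le_iff.mpr fun x hx => ?_
    have hxS : (⟨x, hT₀N hx⟩ : N₁) ∈ S := hS (mem_subgroupOf.mpr hx)
    rw [← hn] at hxS
    obtain ⟨y, hy, he⟩ := hxS
    have he' : (n : G) * y * (n : G)⁻¹ = x := congrArg Subtype.val he
    rw [← he']
    have hy' : (y : G) ∈ T₁ := mem_subgroupOf.mp hy
    simpa [mul_assoc] using hy'
  have h9 : Linked P E₀ (u * n) :=
    (big _ _ (hc₀ ▸ card_lt_card_of_lt hT₀lt) inf_le_left (hun.trans inf_le_left)).mono hT₀lt.le
  -- elements of `N₁`
  have hgood : ∀ x : N₁, Linked P E₁ x := by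
    intro x
    let S' : Sylow p N₁ := x • T₁'
    let S₀ : Subgroup G := (S' : Subgroup N₁).map N₁.subtype
    have hE₁S : E₁ ≤ S₀ := sylow_of_normalizer (isPGroup_le_sylow hE₁lt.le) S'
    have hxc : ∀ y ∈ S₀, (x : G)⁻¹ * y * x ∈ T₁ := by
      rintro _ ⟨y, hy, rfl⟩
      obtain ⟨t, ht, he⟩ := hy
      have he' : (x : G) * t * (x : G)⁻¹ = (y : G) := congrArg Subtype.val he
      show (x : G)⁻¹ * (y : G) * x ∈ T₁
      rw [← he']
      have ht' : (t : G) ∈ T₁ := mem_subgroupOf.mp ht
      simpa [mul_assoc] using ht'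
    rcases eq_or_lt_of_le (le_inf hT₁lt.le hE₁S) with hint | hint
    · obtain ⟨Q, hQ⟩ := (S'.2.map N₁.subtype : IsPGroup p S₀).exists_le_sylow
      have hQN : (Q : Subgroup G) ⊓ N₁ = S₀ := by
        refine le_antisymm (fun y hy => ?_) (le_inf hQ (map_subtype_le _))
        have h1 : ((Q : Subgroup G) ⊓ N₁).subgroupOf N₁ = (S' : Subgroup N₁) := by
          refine S'.3 ((Q.2.to_inf_left).of_equiv (subgroupOfEquivOfLe inf_le_right).symm) ?_
          intro z hz
          exact mem_subgroupOf.mpr ⟨hQ ⟨z, hz, rfl⟩, z.2⟩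
        exact ⟨⟨y, hy.2⟩, h1 ▸ mem_subgroupOf.mpr hy, rfl⟩
      have hPQ : (P : Subgroup G) ⊓ (Q : Subgroup G) = E₁ := by
        by_contra hne
        have hlt : E₁ < (P : Subgroup G) ⊓ (Q : Subgroup G) :=
          lt_of_le_of_ne (le_inf hE₁lt.le (hE₁S.trans hQ)) (Ne.symm hne)
        have h1 := lt_inf_normalizer ((P.2 : IsPGroup p (P : Subgroup G)).to_inf_left) hlt
        refine (h1.trans_le (le_of_le_of_eq ?_ hint.symm)).false
        exact le_inf (le_inf (inf_le_left.trans inf_le_left) inf_le_right)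
          (by rw [← hQN]; exact le_inf (inf_le_left.trans inf_le_right) inf_le_right)
      refine Linked.step (Q := Q) ?_ (by rw [hPQ]; exact x.2) (by rw [hPQ])
      refine ⟨by rw [hPQ]; exact hh3', ?_⟩
      rw [hPQ, ← hN₁, hQN]
      show ¬ p ∣ (((S' : Subgroup N₁).map N₁.subtype).subgroupOf N₁).index
      rw [subgroupOf, comap_map_eq_self_of_injective N₁.subtype_injective]
      exact S'.not_dvd_index
    · refine (big _ _ (hc₁ ▸ card_lt_card_of_lt hint) (inf_le_left.trans inf_le_left) ?_).mono hint.le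
      exact (conjR_mono _ inf_le_right).trans
        ((conjR_le_iff.mpr hxc).trans inf_le_left)
  have h10 : conjR (u * n) E₀ = E₁ := by
    rw [← conjR_conjR, hE01, conjR_eq_of_mem_normalizer n.2]
  have h11 := h9.mul (h := ((n⁻¹ : N₁) : G)) (h10.symm ▸ hgood n⁻¹)
  simpa using h11

/-- If `x ↦ g⁻¹xg` on `D ≤ P` is induced by `P` for all tame steps, then `P` controls fusion. -/
theorem exists_conj_in_sylow_of_chain {P : Sylow p G} {l : List (Sylow p G × G)} {D : Subgroup G}
    (hl : Chain P l D)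
    (hloc : ∀ (Q : Sylow p G) (x : G), IsTame P Q →
      x ∈ normalizer (((P : Subgroup G) ⊓ (Q : Subgroup G) : Subgroup G) : Set G) →
      ∃ u ∈ (P : Subgroup G), ∀ a ∈ (P : Subgroup G) ⊓ (Q : Subgroup G),
        x⁻¹ * a * x = u⁻¹ * a * u) :
    ∃ u ∈ (P : Subgroup G), ∀ a ∈ D, (chainProd l)⁻¹ * a * chainProd l = u⁻¹ * a * u := by
  induction l generalizing D with
  | nil => exact ⟨1, one_mem _, by simp [chainProd]⟩
  | cons b l ih =>
    obtain ⟨ht, hn, hle, hc⟩ := hl
    obtain ⟨u, hu, hu2⟩ := ih hc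
    obtain ⟨v, hv, hv2⟩ := hloc b.1 b.2 ht hn
    refine ⟨v * u, mul_mem hv hu, fun a ha => ?_⟩
    have h1 := hu2 _ (conj_mem_conjR ha)
    have h4 : chainProd (b :: l) = b.2 * chainProd l := by simp [chainProd]
    rw [h4, mul_inv_rev]
    calc (chainProd l)⁻¹ * b.2⁻¹ * a * (b.2 * chainProd l)
        = (chainProd l)⁻¹ * (b.2⁻¹ * a * b.2) * chainProd l := by group
      _ = u⁻¹ * (b.2⁻¹ * a * b.2) * u := h1
      _ = u⁻¹ * (v⁻¹ * a * v) * u := by rw [hv2 a (hle ha)]
      _ = (v * u)⁻¹ * a * (v * u) := by group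

/-- A Sylow subgroup controlling its own fusion has a normal complement. -/
theorem hasNormalPComplement_of_controls [Finite G] [hp : Fact p.Prime] (P : Sylow p G)
    (h : ∀ x ∈ (P : Subgroup G), ∀ g : G, g * x * g⁻¹ ∈ (P : Subgroup G) →
      ∃ u ∈ (P : Subgroup G), u * x * u⁻¹ = g * x * g⁻¹) :
    HasNormalPComplement p G := by
  rw [hasNormalPComplement_iff_inf P]
  rw [tate_of_commutator P _ le_rfl (commutator_inf_eq_of_controls P _ le_rfl h)]
  have : pResidual p (P : Subgroup G) = ⊥ := by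
    rw [eq_bot_iff]
    exact (pResidual_le_ker P.2 (MonoidHom.id _)).trans (by simp)
  rw [this, Subgroup.map_bot, bot_inf_eq]

/-- Frobenius' criterion, restricted to tame intersections. -/
theorem hasNormalPComplement_of_tame [Finite G] [hp : Fact p.Prime] (P : Sylow p G)
    (h : ∀ Q : Sylow p G, IsTame P Q → ∀ x ∈ normalizer
      (((P : Subgroup G) ⊓ (Q : Subgroup G) : Subgroup G) : Set G),
      (orderOf x).Coprime p →
      x ∈ centralizer (((P : Subgroup G) ⊓ (Q : Subgroup G) : Subgroup G) : Set G)) :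
    HasNormalPComplement p G := by
  classical
  refine hasNormalPComplement_of_controls P fun x hx g hg => ?_
  have hl := alperin P (zpowers x) g⁻¹ (zpowers_le.mpr hx) (conjR_le_iff.mpr fun y hy => by
    obtain ⟨i, rfl⟩ := mem_zpowers_iff.mp hy
    rw [inv_inv, ← conj_zpow]
    exact zpow_mem hg i)
  obtain ⟨l, hl1, hl2⟩ := hl
  obtain ⟨u, hu, hu2⟩ := exists_conj_in_sylow_of_chain hl1 (fun Q y hQ hy => by
    set D := (P : Subgroup G) ⊓ (Q : Subgroup G) with hD
    set N := normalizer (D : Set G) with hN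
    have hTp : IsPGroup p (((P : Subgroup G) ⊓ N).subgroupOf N) :=
      ((P.2 : IsPGroup p (P : Subgroup G)).to_inf_left).of_equiv
        (subgroupOfEquivOfLe inf_le_right).symm
    let T : Sylow p N := hTp.toSylow hQ.1
    obtain ⟨t, ht, m, hm, he⟩ := exists_mul_of_sylow T ⟨y⁻¹, inv_mem hy⟩
    have hmc : (m : G) ∈ centralizer (D : Set G) := by
      have hle : (pResidual p N).map N.subtype ≤ centralizer (D : Set G) := by
        rw [pResidual, MonoidHom.map_closure, closure_le]
        rintro _ ⟨z, hz, rfl⟩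
        exact h Q hQ z z.2 (by rw [Subgroup.orderOf_coe]; exact hz)
      exact hle ⟨m, hm, rfl⟩
    have ht' : (t : G) ∈ (P : Subgroup G) := (mem_subgroupOf.mp ht).1
    refine ⟨(t : G)⁻¹, inv_mem ht', fun a ha => ?_⟩
    have hy' : y⁻¹ = (t : G) * m := congrArg Subtype.val he
    have hy2 : y = ((t : G) * m)⁻¹ := by rw [← hy', inv_inv]
    have hcm : a * (m : G) = m * a := hmc a ha
    rw [hy2, inv_inv, inv_inv, mul_inv_rev]
    calc (t : G) * m * a * ((m : G)⁻¹ * (t : G)⁻¹)
        = t * (m * a * (m : G)⁻¹) * (t : G)⁻¹ := by group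
      _ = t * a * (t : G)⁻¹ := by rw [← hcm, mul_inv_cancel_right])
  refine ⟨u⁻¹, inv_mem hu, ?_⟩
  have := hu2 x (mem_zpowers x)
  rw [hl2, inv_inv] at this
  rw [inv_inv]
  exact this.symm

/-- If `G` has a normal `p`-complement, `p'`-elements normalizing a `p`-subgroup centralize it. -/
theorem mem_centralizer_of_hasNormalPComplement [Finite G] [hp : Fact p.Prime]
    (hG : HasNormalPComplement p G) {Q : Subgroup G} (hQ : IsPGroup p Q) {g : G}
    (hg : g ∈ normalizer (Q : Set G)) (hco : (orderOf g).Coprime p) :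
    g ∈ centralizer (Q : Set G) := by
  intro q hq
  have h1 : g * q * g⁻¹ * q⁻¹ ∈ pResidual p G := by
    have hgm := mem_pResidual_of_coprime hco
    have : g * q * g⁻¹ * q⁻¹ = g * (q * g⁻¹ * q⁻¹) := by group
    rw [this]
    exact mul_mem hgm ((pResidual_normal p G).conj_mem _ (inv_mem hgm) q)
  have h2 : g * q * g⁻¹ * q⁻¹ ∈ Q :=
    mul_mem ((mem_normalizer_iff.mp hg q).mp hq) (inv_mem hq)
  obtain ⟨S, hS⟩ := hQ.exists_le_sylow
  have h3 : g * q * g⁻¹ * q⁻¹ ∈ pResidual p G ⊓ (S : Subgroup G) := ⟨h1, hS h2⟩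
  rw [(hasNormalPComplement_iff_inf S).mp hG, mem_bot] at h3
  calc q * g = 1 * (q * g) := (one_mul _).symm
    _ = g * q * g⁻¹ * q⁻¹ * (q * g) := by rw [h3]
    _ = g * q := by group

theorem frobenius [Finite G] [hp : Fact p.Prime] (P : Sylow p G) :
    HasNormalPComplement p G ↔ ∀ Q : Subgroup G, Q ≤ (P : Subgroup G) →
      ∀ g ∈ normalizer (Q : Set G), (orderOf g).Coprime p → g ∈ centralizer (Q : Set G) :=
  ⟨fun h _ hQ _ hg hco => mem_centralizer_of_hasNormalPComplement h (isPGroup_le_sylow hQ) hg hco,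
    fun h => hasNormalPComplement_of_tame P fun Q _ x hx hco => h _ inf_le_left x hx hco⟩

theorem frobenius_local [Finite G] [hp : Fact p.Prime]
    (h : ∀ Q : Subgroup G, IsPGroup p Q → Q ≠ ⊥ →
      HasNormalPComplement p (normalizer (Q : Set G))) :
    HasNormalPComplement p G := by
  let P : Sylow p G := Classical.arbitrary _
  refine (frobenius P).mpr fun Q hQ g hg hco => ?_
  rcases eq_or_ne Q ⊥ with rfl | hne
  · exact fun x hx => by rw [(mem_bot.mp hx : x = 1), one_mul, mul_one]
  set N := normalizer (Q : Set G) with hN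
  have hQp : IsPGroup p Q := isPGroup_le_sylow hQ
  have hg' : (⟨g, hg⟩ : N) ∈ centralizer ((Q.subgroupOf N : Subgroup N) : Set N) := by
    refine mem_centralizer_of_hasNormalPComplement (h Q hQp hne)
      (hQp.of_equiv (subgroupOfEquivOfLe le_normalizer).symm) ?_ (by rwa [Subgroup.orderOf_mk])
    exact le_normalizer_of_conj_mem fun x hx => mem_subgroupOf.mpr
      ((mem_normalizer_iff.mp hg x).mp (mem_subgroupOf.mp hx))
  intro x hx
  exact congrArg Subtype.val (hg' ⟨x, le_normalizer hx⟩ (mem_subgroupOf.mpr hx))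

end Cfsg.Lib.Fusion
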