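import Cfsg.Agent.Lib.Fusion.Basic
import Mathlib.GroupTheory.Frattini

/-!
# Focal subgroup consequences and Tate's theorem
-/

set_option linter.style.haveILetI false

namespace Cfsg.Lib.Fusion

open Subgroup
open scoped commutatorElement

variable {G : Type*} [Group G] {p : ℕ}

theorem pResidual_le_ker_transferFocal [Finite G] [hp : Fact p.Prime] (P : Sylow p G) :
    pResidual p G ≤ (P : Subgroup G).transferFocal.ker :=
  pResidual_le_ker (P.2.to_quotient _) _

theorem pResidual_inf_le_focal [Finite G] [hp : Fact p.Prime] (P : Sylow p G) :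
    pResidual p G ⊓ (P : Subgroup G) ≤ (P : Subgroup G).focalSubgroup :=
  (inf_le_inf_right _ (pResidual_le_ker_transferFocal P)).trans
    (ker_transferFocal_inf_eq_focalSubgroup P).le

theorem pResidual_inf_le_commutator [Finite G] [hp : Fact p.Prime] (P : Sylow p G) :
    pResidual p G ⊓ (P : Subgroup G) ≤ commutator G ⊓ (P : Subgroup G) :=
  (pResidual_inf_le_focal P).trans (commutator_inf_eq_focalSubgroup P).ge

/-- If `H` controls fusion of elements of `P`, then `P ∩ G' = P ∩ H'`. -/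
theorem commutator_inf_eq_of_controls [Finite G] [hp : Fact p.Prime] (P : Sylow p G)
    (H : Subgroup G) (hPH : (P : Subgroup G) ≤ H)
    (hc : ∀ x ∈ (P : Subgroup G), ∀ g : G, g * x * g⁻¹ ∈ (P : Subgroup G) →
      ∃ h ∈ H, h * x * h⁻¹ = g * x * g⁻¹) :
    commutator G ⊓ (P : Subgroup G) = ⁅H, H⁆ ⊓ (P : Subgroup G) := by
  refine le_antisymm ?_ (inf_le_inf_right _ (commutator_mono le_top le_top))
  rw [commutator_inf_eq_focalSubgroup P]
  refine le_inf ?_ (focalSubgroup_le _)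
  rw [focalSubgroup_def, closure_le]
  rintro z ⟨hz, x, hx, u, rfl⟩
  have hm : u * x⁻¹ * u⁻¹ ∈ (P : Subgroup G) := by
    have : u * x⁻¹ * u⁻¹ = x⁻¹ * ⁅x, u⁆ := by rw [commutatorElement_def]; group
    rw [this]; exact mul_mem (inv_mem hx) hz
  obtain ⟨h, hh, he⟩ := hc x⁻¹ (inv_mem hx) u hm
  have : ⁅x, u⁆ = ⁅x, h⁆ := by
    rw [commutatorElement_def, commutatorElement_def, mul_assoc, mul_assoc, ← mul_assoc u, ← he]
    group
  rw [this]
  exact commutator_mem_commutator (hPH hx) hh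

/-- In a nilpotent group a normal subgroup `Q` with `Q ≤ ⁅Q, G⁆` is trivial. -/
theorem eq_bot_of_le_commutator_top [hG : Group.IsNilpotent G] {Q : Subgroup G}
    (h : Q ≤ ⁅Q, (⊤ : Subgroup G)⁆) : Q = ⊥ := by
  obtain ⟨n, hn⟩ := _root_.nilpotent_iff_lowerCentralSeries.mp hG
  have : ∀ m, Q ≤ (⊤ : Subgroup G).lowerCentralSeries m := by
    intro m
    induction m with
    | zero => simp
    | succ m ih => rw [_root_.lowerCentralSeries_succ]; exact h.trans (commutator_mono ih le_rfl)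
  exact eq_bot_iff.mpr ((this n).trans hn.le)

/-- A nontrivial normal subgroup of a `p`-group has a normal proper subgroup with central quotient. -/
theorem exists_normal_lt_central [Finite G] [Fact p.Prime] (hG : IsPGroup p G)
    {R Q : Subgroup G} [R.Normal] [Q.Normal] (hlt : R < Q) :
    ∃ S : Subgroup G, S.Normal ∧ R ≤ S ∧ S < Q ∧ ⁅Q, (⊤ : Subgroup G)⁆ ≤ S := by
  refine ⟨R ⊔ ⁅Q, ⊤⁆, inferInstance, le_sup_left, lt_of_le_of_ne ?_ fun h => ?_, le_sup_right⟩
  · exact sup_le hlt.le (commutator_le_left Q ⊤)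
  · haveI : Group.IsNilpotent (G ⧸ R) := (hG.to_quotient R).isNilpotent
    have h2 : Q.map (QuotientGroup.mk' R) ≤
        ⁅Q.map (QuotientGroup.mk' R), (⊤ : Subgroup (G ⧸ R))⁆ := by
      conv_lhs => rw [← h]
      rw [Subgroup.map_sup, QuotientGroup.map_mk'_self, bot_sup_eq, map_commutator,
        map_top_of_surjective _ (QuotientGroup.mk'_surjective R)]
    have h3 := eq_bot_of_le_commutator_top h2
    rw [Subgroup.map_eq_bot_iff, QuotientGroup.ker_mk'] at h3
    exact hlt.not_ge h3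

/-- In a finite `p`-group the derived group lies in the Frattini subgroup. -/
theorem commutator_le_frattini_of_isPGroup [Finite G] [Fact p.Prime] (hG : IsPGroup p G) :
    commutator G ≤ frattini G := by
  haveI := hG.isNilpotent
  unfold frattini
  simp only [Order.radical, le_iInf_iff]
  intro M hM
  haveI hn : M.Normal :=
    NormalizerCondition.normal_of_coatom M Group.normalizerCondition_of_isNilpotent hM
  refine Normal.quotient_commutative_iff_commutator_le.mp ?_
  have hcyc : IsCyclic (G ⧸ M) := by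
    obtain ⟨g, -, hg⟩ := SetLike.exists_of_lt hM.lt_top
    refine ⟨(g : G ⧸ M), fun y => ?_⟩
    have h1 : (zpowers (g : G ⧸ M)).comap (QuotientGroup.mk' M) = ⊤ :=
      hM.2 _ (SetLike.lt_iff_le_and_exists.mpr ⟨fun x hx => mem_comap.mpr (by
        rw [QuotientGroup.mk'_apply, (QuotientGroup.eq_one_iff x).mpr hx]; exact one_mem _),
        g, mem_zpowers _, hg⟩)
    obtain ⟨x, rfl⟩ := QuotientGroup.mk_surjective y
    exact (h1 ▸ mem_top x : x ∈ (zpowers (g : G ⧸ M)).comap (QuotientGroup.mk' M))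
  exact IsCyclic.isMulCommutative

section Pullback

variable {E B : Type*} [Group E] [Group B]

/-- A central extension of `B` by a `p`-group lifts to a homomorphism out of `G` as soon as it
lifts on a subgroup of index prime to `p`. -/
theorem exists_lift_of_coprime_index [Finite G] [Finite E] [hp : Fact p.Prime] (π : G →* B)
    (ψ : E →* B) (hψ : Function.Surjective ψ) (hZc : ψ.ker ≤ center E) (hZp : IsPGroup p ψ.ker)
    (H : Subgroup G) (hH : ¬ p ∣ H.index) (β : H →* E) (hβ : ∀ h : H, ψ (β h) = π h) :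
    ∃ s : G →* E, ψ.comp s = π := by
  have hcomm : ∀ z ∈ ψ.ker, ∀ e : E, e * z = z * e := fun z hz e => mem_center_iff.mp (hZc hz) e
  haveI hmc : IsMulCommutative ψ.ker :=
    ⟨⟨fun a b => Subtype.ext (hcomm _ b.2 _)⟩⟩
  let Gh : Subgroup (G × E) := (π.comp (MonoidHom.fst G E)).eqLocus (ψ.comp (MonoidHom.snd G E))
  have hGh : ∀ {x : G × E}, x ∈ Gh ↔ π x.1 = ψ x.2 := Iff.rfl
  let pr : Gh →* G := (MonoidHom.fst G E).comp Gh.subtype
  have hpr : Function.Surjective pr := fun g => by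
    obtain ⟨e, he⟩ := hψ (π g)
    exact ⟨⟨(g, e), hGh.mpr he.symm⟩, rfl⟩
  let Hh : Subgroup Gh := H.comap pr
  have hker : ∀ x : Hh, x.1.1.2 * (β ⟨x.1.1.1, x.2⟩)⁻¹ ∈ ψ.ker := fun x => by
    rw [MonoidHom.mem_ker, map_mul, map_inv, hβ, ← hGh.mp x.1.2, mul_inv_cancel]
  let φ : Hh →* ψ.ker :=
    { toFun := fun x => ⟨x.1.1.2 * (β ⟨x.1.1.1, x.2⟩)⁻¹, hker x⟩
      map_one' := Subtype.ext (by
        show (1 : E) * (β 1)⁻¹ = 1
        simp)
      map_mul' := fun x y => Subtype.ext (by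
        show x.1.1.2 * y.1.1.2 * (β (⟨x.1.1.1, x.2⟩ * ⟨y.1.1.1, y.2⟩))⁻¹ =
          x.1.1.2 * (β ⟨x.1.1.1, x.2⟩)⁻¹ * (y.1.1.2 * (β ⟨y.1.1.1, y.2⟩)⁻¹)
        rw [map_mul, mul_inv_rev, mul_assoc x.1.1.2 y.1.1.2, ← mul_assoc y.1.1.2,
          ← hcomm _ (hker y) (β ⟨x.1.1.1, x.2⟩)⁻¹]
        group) }
  open scoped IsMulCommutative in
  let T : Gh →* ψ.ker := MonoidHom.transfer φ
  have hidx : Hh.index = H.index := index_comap_of_surjective H hpr
  have hT : ∀ z : ψ.ker,
      T ⟨(1, (z : E)), hGh.mpr (by rw [map_one, z.2])⟩ = z ^ H.index := by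
    intro z
    set g : Gh := ⟨(1, (z : E)), hGh.mpr (by rw [map_one, z.2])⟩ with hg
    have hgH : g ∈ Hh := H.one_mem
    have hgc : ∀ y : Gh, Commute g y := fun y =>
      Subtype.ext (Prod.ext (by simp [hg]) (hcomm _ z.2 y.1.2).symm)
    show MonoidHom.transfer φ g = _
    rw [MonoidHom.transfer_eq_pow φ g fun k g₀ _ => by
      rw [mul_assoc, ((hgc g₀).pow_left k).eq, inv_mul_cancel_left]]
    have hp' : (⟨g, hgH⟩ : Hh) ^ Hh.index =
        ⟨g ^ Hh.index, pow_mem hgH _⟩ := rfl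
    rw [← hidx]
    show φ ⟨g ^ Hh.index, _⟩ = _
    rw [← hp', map_pow]
    congr 1
    refine Subtype.ext ?_
    show (z : E) * (β 1)⁻¹ = z
    simp
  have hbij : Function.Bijective fun z : ψ.ker => z ^ H.index := by
    have := (hZp.powEquiv' hH).bijective
    exact this
  let W : Subgroup Gh := T.ker
  let prW : W →* G := pr.comp W.subtype
  have hWinj : Function.Injective prW := by
    rw [injective_iff_map_eq_one]
    intro x hx
    have h1 : x.1.1.1 = 1 := hx
    have h2 : ψ x.1.1.2 = 1 := by rw [← hGh.mp x.1.2, h1, map_one]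
    have h3 := hT ⟨x.1.1.2, h2⟩
    have h4 : (⟨(1, x.1.1.2), hGh.mpr (by rw [map_one, h2])⟩ : Gh) = x.1 :=
      Subtype.ext (Prod.ext h1.symm rfl)
    rw [h4, x.2] at h3
    have h5 : (⟨x.1.1.2, h2⟩ : ψ.ker) = 1 :=
      hbij.1 (h3.symm.trans (one_pow _).symm)
    exact Subtype.ext (Subtype.ext (Prod.ext h1 (congrArg Subtype.val h5)))
  have hWsurj : Function.Surjective prW := fun g => by
    obtain ⟨x, hx⟩ := hpr g
    obtain ⟨z, hz⟩ := hbij.2 (T x)
    refine ⟨⟨(⟨(1, (z : E)), hGh.mpr (by rw [map_one, z.2])⟩ : Gh)⁻¹ * x, ?_⟩, ?_⟩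
    · rw [MonoidHom.mem_ker, map_mul, map_inv, hT]
      simp only [hz, inv_mul_cancel]
    · show 1⁻¹ * x.1.1 = g
      rw [inv_one, one_mul]; exact hx
  let e : W ≃* G := MulEquiv.ofBijective prW ⟨hWinj, hWsurj⟩
  refine ⟨(MonoidHom.snd G E).comp (Gh.subtype.comp (W.subtype.comp e.symm.toMonoidHom)), ?_⟩
  ext g
  show ψ ((e.symm g).1.1.2) = π g
  rw [← hGh.mp (e.symm g).1.2]
  exact congrArg π (e.apply_symm_apply g)

end Pullback

/-- Tate's theorem, in a strong form: if `P ≤ H` and `P ∩ O^p(G) ≤ Φ(P) (P ∩ O^p(H))` then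
`P ∩ O^p(G) = P ∩ O^p(H)`. -/
theorem tate [Finite G] [hp : Fact p.Prime] (P : Sylow p G) (H : Subgroup G)
    (hPH : (P : Subgroup G) ≤ H)
    (h : pResidual p G ⊓ (P : Subgroup G) ≤
      (frattini P).map (P : Subgroup G).subtype ⊔
        ((pResidual p H).map H.subtype ⊓ (P : Subgroup G))) :
    pResidual p G ⊓ (P : Subgroup G) = (pResidual p H).map H.subtype ⊓ (P : Subgroup G) := by
  refine le_antisymm ?_ (inf_le_inf_right _ (map_subtype_pResidual_le H))
  let M : Subgroup G := pResidual p G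
  let K : Subgroup G := (pResidual p H).map H.subtype
  let R : Subgroup P := K.subgroupOf P
  let Q : Subgroup P := M.subgroupOf P
  haveI hR : R.Normal := by
    refine ⟨fun n hn x => ?_⟩
    obtain ⟨m, hm, hm'⟩ := (mem_subgroupOf.mp hn)
    refine mem_subgroupOf.mpr ⟨⟨x, hPH x.2⟩ * m * ⟨x, hPH x.2⟩⁻¹,
      (pResidual_normal p H).conj_mem m hm _, ?_⟩
    simp only [Subgroup.subtype_apply] at hm' ⊢
    simp [hm']
  haveI hQ : Q.Normal := inferInstanceAs (M.subgroupOf P).Normal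
  have hRQ : R ≤ Q := fun x hx => mem_subgroupOf.mpr (map_subtype_pResidual_le H (mem_subgroupOf.mp hx))
  suffices hQR : Q = R by
    intro x hx
    have : (⟨x, hx.2⟩ : P) ∈ R := hQR ▸ mem_subgroupOf.mpr hx.1
    exact ⟨mem_subgroupOf.mp this, hx.2⟩
  by_contra hne
  obtain ⟨S, hS, hRS, hSQ, hcen⟩ :=
    exists_normal_lt_central P.2 (lt_of_le_of_ne hRQ (Ne.symm hne))
  -- the projection `P → G / M`
  let α : P →* G ⧸ M := (QuotientGroup.mk' M).comp (P : Subgroup G).subtype
  have hα : Function.Surjective α := by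
    intro y
    obtain ⟨g, rfl⟩ := QuotientGroup.mk_surjective y
    obtain ⟨x, hx, m, hm, rfl⟩ := exists_mul_of_sylow P g
    exact ⟨⟨x, hx⟩, by
      show ((x : G) : G ⧸ M) = _
      rw [QuotientGroup.mk_mul, (QuotientGroup.eq_one_iff m).mpr hm, mul_one]⟩
  have hαker : ∀ x : P, α x = 1 ↔ x ∈ Q := fun x => QuotientGroup.eq_one_iff (x : G)
  let ψ : P ⧸ S →* G ⧸ M := QuotientGroup.lift S α fun x hx => (hαker x).mpr (hSQ.le hx)
  have hψ : Function.Surjective ψ := fun y => by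
    obtain ⟨x, rfl⟩ := hα y
    exact ⟨x, rfl⟩
  have hψker : ψ.ker = Q.map (QuotientGroup.mk' S) := by
    ext y
    obtain ⟨x, rfl⟩ := QuotientGroup.mk_surjective y
    constructor
    · exact fun hy => ⟨x, (hαker x).mp hy, rfl⟩
    · rintro ⟨q, hq, he⟩
      rw [MonoidHom.mem_ker, ← he]
      exact (hαker q).mpr hq
  have hZc : ψ.ker ≤ center (P ⧸ S) := by
    rw [hψker]
    rintro _ ⟨q, hq, rfl⟩
    rw [mem_center_iff]
    intro y
    obtain ⟨x, rfl⟩ := QuotientGroup.mk_surjective y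
    have h1 : ((⁅q, x⁆ : P) : P ⧸ S) = 1 :=
      (QuotientGroup.eq_one_iff _).mpr (hcen (commutator_mem_commutator hq (mem_top x)))
    have h2 : (q : P ⧸ S) * x = ((⁅q, x⁆ : P) : P ⧸ S) * ((x : P ⧸ S) * q) := by
      rw [← QuotientGroup.mk_mul, ← QuotientGroup.mk_mul, ← QuotientGroup.mk_mul]
      congr 1; rw [commutatorElement_def]; group
    rw [h1, one_mul] at h2
    exact h2.symm
  -- the lift on `H`
  let β₀ : P →* H ⧸ pResidual p H :=
    (QuotientGroup.mk' (pResidual p H)).comp (inclusion hPH)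
  have hβ₀ : Function.Surjective β₀ := by
    intro y
    obtain ⟨g, rfl⟩ := QuotientGroup.mk_surjective y
    obtain ⟨x, hx, m, hm, rfl⟩ := exists_mul_of_sylow (P.subtype hPH) g
    refine ⟨⟨(x : G), mem_subgroupOf.mp hx⟩, ?_⟩
    show ((x : H) : H ⧸ pResidual p H) = _
    rw [QuotientGroup.mk_mul, (QuotientGroup.eq_one_iff m).mpr hm, mul_one]
  have hβ₀ker : β₀.ker ≤ S := fun x hx => hRS (mem_subgroupOf.mpr
    ⟨inclusion hPH x, (QuotientGroup.eq_one_iff _).mp hx, rfl⟩)
  let β : H →* P ⧸ S :=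
    ((QuotientGroup.map β₀.ker S (MonoidHom.id P) (by simpa using hβ₀ker)).comp
      (QuotientGroup.quotientKerEquivOfSurjective β₀ hβ₀).symm.toMonoidHom).comp
      (QuotientGroup.mk' (pResidual p H))
  have hβP : ∀ x : P, β (inclusion hPH x) = (x : P ⧸ S) := by
    intro x
    have h1 : (QuotientGroup.quotientKerEquivOfSurjective β₀ hβ₀).symm (β₀ x) = (x : P ⧸ β₀.ker) :=
      (MulEquiv.symm_apply_eq _).mpr rfl
    show QuotientGroup.map β₀.ker S (MonoidHom.id P) (by simpa using hβ₀ker)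
      ((QuotientGroup.quotientKerEquivOfSurjective β₀ hβ₀).symm (β₀ x)) = _
    rw [h1]; rfl
  have hβ : ∀ g : H, ψ (β g) = QuotientGroup.mk' M g := by
    intro g
    obtain ⟨x, hx, m, hm, rfl⟩ := exists_mul_of_sylow (P.subtype hPH) g
    have hxP : x = inclusion hPH ⟨(x : G), mem_subgroupOf.mp hx⟩ := rfl
    have hm1 : β m = 1 := by
      simp only [β, MonoidHom.comp_apply, QuotientGroup.mk'_apply,
        (QuotientGroup.eq_one_iff m).mpr hm, map_one]
    have hm2 : ((m : G) : G ⧸ M) = 1 :=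
      (QuotientGroup.eq_one_iff _).mpr (map_subtype_pResidual_le H ⟨m, hm, rfl⟩)
    rw [map_mul, hm1, mul_one, hxP, hβP, Subgroup.coe_mul, QuotientGroup.mk'_apply,
      QuotientGroup.mk_mul, hm2, mul_one]
    rfl
  have hidx : ¬ p ∣ H.index := fun hd => P.not_dvd_index (hd.trans (index_dvd_of_le hPH))
  obtain ⟨s, hs⟩ := exists_lift_of_coprime_index (p := p) (QuotientGroup.mk' M) ψ hψ hZc
    ((P.2.to_quotient S).to_subgroup _) H hidx β hβ
  have hsM : M ≤ s.ker := pResidual_le_ker (P.2.to_quotient S) s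
  let σ : G ⧸ M →* P ⧸ S := QuotientGroup.lift M s fun x hx => hsM hx
  have hσ : ∀ y, ψ (σ y) = y := fun y => by
    obtain ⟨g, rfl⟩ := QuotientGroup.mk_surjective y
    exact DFunLike.congr_fun hs g
  have hfr : Q.map (QuotientGroup.mk' S) ≤ frattini (P ⧸ S) := by
    have h1 : Q ≤ frattini P ⊔ R := by
      intro x hx
      have hx' : (x : G) ∈ (frattini P ⊔ R).map (P : Subgroup G).subtype := by
        rw [Subgroup.map_sup, subgroupOf_map_subtype]
        exact h ⟨mem_subgroupOf.mp hx, x.2⟩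
      obtain ⟨y, hy, he⟩ := hx'
      exact Subtype.ext he ▸ hy
    refine (map_mono h1).trans ?_
    rw [Subgroup.map_sup, sup_le_iff]
    refine ⟨map_le_iff_le_comap.mpr
      (frattini_le_comap_frattini_of_surjective (QuotientGroup.mk'_surjective S)), ?_⟩
    rw [(Subgroup.map_eq_bot_iff _).mpr (by rw [QuotientGroup.ker_mk']; exact hRS)]
    exact bot_le
  have htop : σ.range ⊔ frattini (P ⧸ S) = ⊤ := by
    rw [eq_top_iff]
    intro y _
    have h1 : (σ (ψ y))⁻¹ * y ∈ frattini (P ⧸ S) := hfr (hψker ▸ (show _ ∈ ψ.ker by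
      rw [MonoidHom.mem_ker, map_mul, map_inv, hσ, inv_mul_cancel]))
    have h2 := mul_mem (mem_sup_left (T := frattini (P ⧸ S)) (σ.mem_range.mpr ⟨ψ y, rfl⟩))
      (mem_sup_right (S := σ.range) h1)
    rwa [mul_inv_cancel_left] at h2
  have hW : σ.range = ⊤ := frattini_nongenerating htop
  refine hSQ.not_ge fun q hq => ?_
  have hq1 : ψ (q : P ⧸ S) = 1 := (hαker q).mpr hq
  obtain ⟨y, hy⟩ := σ.mem_range.mp (hW ▸ mem_top (q : P ⧸ S))
  rw [← hy, hσ] at hq1
  rw [hq1, map_one] at hy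
  exact (QuotientGroup.eq_one_iff q).mp hy.symm

/-- `P ∩ G' = P ∩ H'` implies `P ∩ O^p(G) = P ∩ O^p(H)`. -/
theorem tate_of_commutator [Finite G] [hp : Fact p.Prime] (P : Sylow p G) (H : Subgroup G)
    (hPH : (P : Subgroup G) ≤ H)
    (h : commutator G ⊓ (P : Subgroup G) = ⁅H, H⁆ ⊓ (P : Subgroup G)) :
    pResidual p G ⊓ (P : Subgroup G) = (pResidual p H).map H.subtype ⊓ (P : Subgroup G) := by
  refine tate P H hPH ((pResidual_inf_le_commutator P).trans ?_)
  rw [h]
  intro x hx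
  let π := QuotientGroup.mk' (pResidual p H)
  have h1 : (⟨x, hPH hx.2⟩ : H) ∈ commutator H := by
    have : x ∈ (commutator H).map H.subtype := by rw [map_subtype_commutator]; exact hx.1
    obtain ⟨y, hy, he⟩ := this
    have : y = ⟨x, hPH hx.2⟩ := Subtype.ext he
    exact this ▸ hy
  have hsurj : Function.Surjective (π.comp (inclusion hPH)) := by
    intro y
    obtain ⟨g, rfl⟩ := QuotientGroup.mk_surjective y
    obtain ⟨a, ha, m, hm, rfl⟩ := exists_mul_of_sylow (P.subtype hPH) g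
    refine ⟨⟨(a : G), mem_subgroupOf.mp ha⟩, ?_⟩
    show ((a : H) : H ⧸ pResidual p H) = _
    rw [QuotientGroup.mk_mul, (QuotientGroup.eq_one_iff m).mpr hm, mul_one]
  have h2 : π ⟨x, hPH hx.2⟩ ∈ (commutator P).map (π.comp (inclusion hPH)) := by
    rw [commutator_def, map_commutator, map_top_of_surjective _ hsurj]
    rw [commutator_def] at h1
    have := mem_map_of_mem π h1
    rwa [map_commutator, map_top_of_surjective π (QuotientGroup.mk'_surjective _)] at this
  obtain ⟨c, hc, he⟩ := h2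
  have hcf : c ∈ frattini P := commutator_le_frattini_of_isPGroup P.2 hc
  have hd : (c : G)⁻¹ * x ∈ (pResidual p H).map H.subtype ⊓ (P : Subgroup G) := by
    refine ⟨⟨(inclusion hPH c)⁻¹ * ⟨x, hPH hx.2⟩, ?_, rfl⟩, (P : Subgroup G).mul_mem ((P : Subgroup G).inv_mem c.2) hx.2⟩
    exact QuotientGroup.eq.mp (show ((inclusion hPH c : H) : H ⧸ pResidual p H) = _ from he)
  have h3 : (c : G) ∈ (frattini P).map (P : Subgroup G).subtype ⊔
      ((pResidual p H).map H.subtype ⊓ (P : Subgroup G)) := mem_sup_left ⟨c, hcf, rfl⟩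
  have := mul_mem h3 (mem_sup_right hd)
  rwa [mul_inv_cancel_left] at this

end Cfsg.Lib.Fusion
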