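import Mathlib.GroupTheory.Sylow
import Mathlib.GroupTheory.Nilpotent
import Mathlib.Data.Nat.Factorization.Induction
import Mathlib.Tactic.LinearCombination
import Mathlib.Tactic.Ring
import Cfsg.Prelude.Def_Solvable

/-!
# Decomposition of elements into parts of prime-power order; `O_p` and the Fitting subgroup
-/

set_option linter.style.haveILetI false

namespace Cfsg.Lib.Fusion

open Subgroup

variable {G : Type*} [Group G]

/-- Induction on the parts of prime-power order of an element. -/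
theorem induction_parts [Finite G] (x : G) {Q : G → Prop}
    (hpp : ∀ y ∈ zpowers x, ∀ p k : ℕ, p.Prime → orderOf y = p ^ k → Q y)
    (hmul : ∀ a ∈ zpowers x, ∀ b ∈ zpowers x, Q a → Q b → Q (a * b)) : Q x := by
  suffices ∀ n, ∀ y ∈ zpowers x, orderOf y = n → Q y from this _ x (mem_zpowers x) rfl
  intro n
  induction n using Nat.recOnPosPrimePosCoprime with
  | prime_pow p k hp hk => exact fun y hy h => hpp y hy p k hp h
  | zero => exact fun y _ h => absurd h (orderOf_pos y).ne'
  | one => exact fun y hy h => hpp y hy 2 0 Nat.prime_two (by rw [h, pow_zero])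
  | coprime a b ha hb hab iha ihb =>
    intro y hy h
    set u := Nat.gcdA a b
    set v := Nat.gcdB a b
    have huv : (1 : ℤ) = a * u + b * v := by
      have := Nat.gcd_eq_gcd_ab a b
      rwa [hab.gcd_eq_one, Nat.cast_one] at this
    have h1 : y = (y ^ (b : ℕ)) ^ v * (y ^ (a : ℕ)) ^ u := by
      rw [← zpow_natCast, ← zpow_natCast, ← zpow_mul, ← zpow_mul, ← zpow_add, add_comm, ← huv,
        zpow_one]
    have hoa : orderOf (y ^ (b : ℕ)) = a := by
      rw [orderOf_pow_of_dvd (by omega) (h ▸ dvd_mul_left b a), h,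
        Nat.mul_div_cancel _ (by omega)]
    have hob : orderOf (y ^ (a : ℕ)) = b := by
      rw [orderOf_pow_of_dvd (by omega) (h ▸ dvd_mul_right a b), h,
        Nat.mul_div_cancel_left _ (by omega)]
    have hab0 : y ^ ((a : ℤ) * b) = 1 := by
      rw [← Nat.cast_mul, zpow_natCast, ← h, pow_orderOf_eq_one]
    have key : ∀ {c d : ℕ} {r w : ℤ}, (1 : ℤ) = c * r + d * w → y ^ ((c : ℤ) * d) = 1 →
        orderOf (y ^ d) = c → orderOf ((y ^ d) ^ w) = c := by
      intro c d r w he h0 hc
      refine Nat.dvd_antisymm ?_ ?_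
      · refine orderOf_dvd_iff_pow_eq_one.mpr ?_
        rw [← zpow_natCast, ← zpow_mul, mul_comm, zpow_mul, zpow_natCast (y ^ d), ← hc,
          pow_orderOf_eq_one, one_zpow]
      · conv_lhs => rw [← hc]
        refine orderOf_dvd_iff_pow_eq_one.mpr ?_
        have h3 : ((y ^ d) ^ w) ^ d = y ^ d := by
          rw [← zpow_natCast, ← zpow_natCast y, ← zpow_mul, ← zpow_mul]
          have : (d : ℤ) * w * d = (d : ℤ) + c * d * (-r) := by linear_combination (-(d : ℤ)) * he
          rw [← mul_assoc, this, zpow_add, zpow_mul _ ((c : ℤ) * d), h0, one_zpow, mul_one]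
        generalize hcz : (y ^ d) ^ w = z at h3
        rw [← h3, ← pow_mul, mul_comm, pow_mul, pow_orderOf_eq_one, one_pow]
    rw [h1]
    exact hmul _ (zpow_mem (pow_mem hy _) _) _ (zpow_mem (pow_mem hy _) _)
      (iha _ (zpow_mem (pow_mem hy _) _) (key (r := u) huv hab0 hoa))
      (ihb _ (zpow_mem (pow_mem hy _) _) (key (r := v) (by rw [huv]; ring) (by rw [mul_comm]; exact hab0) hob))

theorem pCore_isPGroup (p : ℕ) : IsPGroup p (pCore p G) :=
  Sylow.sSup_of_normal _ (fun _ hN => hN.2) (fun _ hN => hN.1)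

theorem le_pCore {p : ℕ} {N : Subgroup G} (h1 : N.Normal) (h2 : IsPGroup p N) : N ≤ pCore p G :=
  le_sSup ⟨h1, h2⟩

theorem pCore_le_fitting [Finite G] {p : ℕ} [Fact p.Prime] : pCore p G ≤ fittingSubgroup G := by
  refine le_sSup ⟨sSup_normal _ fun _ h => h.1, ?_⟩
  exact (pCore_isPGroup p).isNilpotent

/-- The `p`-elements of the Fitting subgroup lie in `O_p`. -/
theorem mem_pCore_of_mem_fitting [Finite G] {p : ℕ} [hp : Fact p.Prime] {y : G}
    (hy : y ∈ fittingSubgroup G) (hord : ∃ k, orderOf y = p ^ k) : y ∈ pCore p G := by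
  classical
  haveI hpn : (pCore p G).Normal := sSup_normal _ fun _ h => h.1
  let T : Set (Subgroup G) := {N | N.Normal ∧ (Nat.card N).Coprime p ∧ ∀ a ∈ N, ∀ b ∈ pCore p G, a * b = b * a}
  have hTsup : ∀ S : Finset (Subgroup G), (↑S : Set (Subgroup G)) ⊆ T → S.sup id ∈ T := by
    intro S
    induction S using Finset.induction_on with
    | empty =>
      intro _
      refine ⟨by rw [Finset.sup_empty]; infer_instance, by simp, ?_⟩
      intro a ha b _
      rw [Finset.sup_empty, mem_bot] at ha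
      rw [ha, one_mul, mul_one]
    | insert N S _ ih =>
      intro h
      rw [Finset.coe_insert, Set.insert_subset_iff] at h
      obtain ⟨⟨h1, h2, h3⟩, h4⟩ := h
      obtain ⟨h5, h6, h7⟩ := ih h4
      rw [Finset.sup_insert, id_eq]
      haveI := h1; haveI := h5
      refine ⟨inferInstance, ?_, fun a ha b hb => ?_⟩
      · have hd : Nat.card ↥(N ⊔ S.sup id : Subgroup G) ∣ Nat.card N * Nat.card (S.sup id : Subgroup G) := by
          rw [← relIndex_bot_left (N ⊔ S.sup id), ← relIndex_mul_relIndex ⊥ N (N ⊔ S.sup id) bot_le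
            le_sup_left, relIndex_bot_left]
          rw [relIndex_sup_left]
          exact mul_dvd_mul_left _ (relIndex_dvd_card _ _)
        exact Nat.Coprime.coprime_dvd_left hd (h2.mul_left h6)
      · obtain ⟨u, hu, v, hv, rfl⟩ := mem_sup_of_normal_left.mp ha
        rw [mul_assoc, h7 v hv b hb, ← mul_assoc, h3 u hu b hb, mul_assoc]
  let M : Subgroup G := sSup T
  have hM : M ∈ T := by
    have := hTsup (Set.toFinite T).toFinset (by simp)
    rwa [Finset.sup_id_eq_sSup, Set.Finite.coe_toFinset] at this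
  haveI := hM.1
  have hF : fittingSubgroup G ≤ pCore p G ⊔ M := by
    refine sSup_le fun N hN => ?_
    haveI := hN.1
    haveI := hN.2
    intro x hx
    refine induction_parts (⟨x, hx⟩ : N) (Q := fun z : N => (z : G) ∈ pCore p G ⊔ M) ?_
      (fun a _ b _ ha hb => mul_mem ha hb)
    intro z _ q k hq hz
    haveI := Fact.mk hq
    obtain ⟨S, hS⟩ := (IsPGroup.of_card (p := q) (n := k) (by rw [Nat.card_zpowers, hz]) :
      IsPGroup q (zpowers z)).exists_le_sylow
    haveI hSn : (S : Subgroup N).Normal :=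
      Sylow.normal_of_normalizerCondition Group.normalizerCondition_of_isNilpotent S
    haveI := Sylow.characteristic_of_normal S hSn
    haveI hmn : ((S : Subgroup N).map N.subtype).Normal := inferInstance
    have hzS : (z : G) ∈ (S : Subgroup N).map N.subtype := ⟨z, hS (mem_zpowers z), rfl⟩
    have hSp : IsPGroup q ((S : Subgroup N).map N.subtype) := S.2.map _
    rcases eq_or_ne q p with rfl | hne
    · exact mem_sup_left (le_pCore hmn hSp hzS)
    · refine mem_sup_right ((le_sSup (show (S : Subgroup N).map N.subtype ∈ T from ⟨hmn, ?_, ?_⟩) : _ ≤ M) hzS)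
      · obtain ⟨j, hj⟩ := IsPGroup.iff_card.mp hSp
        rw [hj]; exact ((Nat.coprime_primes hq hp.out).mpr hne).pow_left j
      · exact fun a ha b hb => commute_of_normal_of_disjoint _ _ hmn hpn
          (IsPGroup.disjoint_of_ne q p hne _ _ hSp (pCore_isPGroup p)) a b ha hb
  obtain ⟨a, ha, b, hb, rfl⟩ := mem_sup_of_normal_left.mp (hF hy)
  obtain ⟨k, hk⟩ := hord
  obtain ⟨j, hj⟩ := IsPGroup.iff_orderOf.mp (pCore_isPGroup p) ⟨a, ha⟩
  rw [Subgroup.orderOf_mk] at hj
  have hcomm : Commute a b := (hM.2.2 b hb a ha).symm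
  have hbp : orderOf b ∣ p ^ (k + j) := by
    rw [orderOf_dvd_iff_pow_eq_one]
    have h1 : (a * b) ^ (p ^ (k + j)) = 1 :=
      orderOf_dvd_iff_pow_eq_one.mp (hk ▸ pow_dvd_pow p (Nat.le_add_right k j))
    have h2 : a ^ (p ^ (k + j)) = 1 :=
      orderOf_dvd_iff_pow_eq_one.mp (hj ▸ pow_dvd_pow p (Nat.le_add_left j k))
    rwa [hcomm.mul_pow, h2, one_mul] at h1
  have hb1 : b = 1 := orderOf_eq_one_iff.mp (Nat.eq_one_of_dvd_coprimes
    (hM.2.1.pow_right _) (by rw [← Subgroup.orderOf_mk b hb]; exact orderOf_dvd_natCard _) hbp)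
  rw [hb1, mul_one]
  exact ha

/-- If `H` has index `p ^ j`... the power `p ^ j` of a `p`-element lands in `H`. -/
theorem pow_mem_of_relIndex [Finite G] {p j : ℕ} (hp : p.Prime) {H R : Subgroup G} {y : G}
    (hy : y ∈ R) (hord : ∃ k, orderOf y = p ^ k) (hidx : H.relIndex R = p ^ j) :
    y ^ p ^ j ∈ H := by
  have h0 : (H.subgroupOf R).index ≠ 0 := by rw [← relIndex, hidx]; exact (pow_pos hp.pos j).ne'
  obtain ⟨n, hn, hle, hmem⟩ := exists_pow_mem_of_index_ne_zero h0 ⟨y, hy⟩
  have hmem' : y ^ n ∈ H := by simpa [mem_subgroupOf] using hmem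
  obtain ⟨k, hk⟩ := hord
  obtain ⟨i, -, hi2⟩ := (Nat.dvd_prime_pow hp).mp (Nat.gcd_dvd_right n (orderOf y) |>.trans hk.dvd)
  have hgcd : y ^ n.gcd (orderOf y) ∈ H := by
    rw [← zpow_natCast, Nat.gcd_eq_gcd_ab, zpow_add, zpow_mul, zpow_mul, zpow_natCast,
      zpow_natCast, pow_orderOf_eq_one, one_zpow, mul_one]
    exact zpow_mem hmem' _
  have hij : i ≤ j := (Nat.pow_le_pow_iff_right hp.one_lt).mp
    (hi2 ▸ (Nat.gcd_le_left _ hn).trans (by rw [← relIndex, hidx] at hle; exact hle))
  obtain ⟨t, ht⟩ : n.gcd (orderOf y) ∣ p ^ j := hi2 ▸ pow_dvd_pow p hij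
  rw [ht, pow_mul]
  exact pow_mem hgcd t

end Cfsg.Lib.Fusion
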