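import Cfsg.Agent.Lib.Core.PSolvable
import Mathlib.GroupTheory.Frattini

/-!
`p`-soluble groups all of whose maximal subgroups are `p`-nilpotent or of prime index.
-/

set_option autoImplicit false
set_option linter.style.haveILetI false

namespace Cfsg.Lib.MaxPNilpotent

open Subgroup

universe u

/-- Complements of an abelian normal subgroup of coprime order are conjugate. -/
theorem exists_conj_complement {G : Type u} [Group G] [Finite G] {N A₀ A₁ : Subgroup G} [N.Normal]
    [IsMulCommutative N] (h0 : N ⊓ A₀ = ⊥) (h1 : N ⊓ A₁ = ⊥) (hle : A₀ ≤ N ⊔ A₁)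
    (hcard : Nat.card A₁ ≤ Nat.card A₀) (hcop : (Nat.card N).Coprime (Nat.card A₀)) :
    ∃ n ∈ N, A₀.map (MulAut.conj n).toMonoidHom = A₁ := by
  classical
  haveI := Fintype.ofFinite A₀
  have hdec : ∀ a : A₀, ∃ k : N, (k : G) * a ∈ A₁ := fun a => by
    obtain ⟨k, hk, a₁, ha₁, e⟩ := mem_sup_of_normal_left.mp (hle a.2)
    exact ⟨⟨k⁻¹, inv_mem hk⟩, by rw [← e]; simpa using ha₁⟩
  choose c hc using hdec
  let f : A₀ → N → N := fun a k => MulAut.conjNormal (a : G) k
  have hmul : ∀ a b : A₀, c (a * b) = c a * f a (c b) := fun a b => by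
    have hm : ((c a : G) * a) * ((c b : G) * b) ∈ A₁ := mul_mem (hc a) (hc b)
    have h := mul_mem hm (inv_mem (hc (a * b)))
    have e : (c a : G) * a * ((c b : G) * b) * ((c (a * b) : G) * (a * b : A₀))⁻¹ =
        ((c a * f a (c b) * (c (a * b))⁻¹ : N) : G) := by
      simp only [f, Subgroup.coe_mul, Subgroup.coe_inv, MulAut.conjNormal_apply]; group
    rw [e] at h
    exact (mul_inv_eq_one.mp (Subtype.ext (mem_bot.mp (h1 ▸ mem_inf.mpr ⟨SetLike.coe_mem _, h⟩)))).symm
  letI : CommGroup N := { (inferInstance : Group N) with mul_comm := mul_comm' }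
  set m := Fintype.card A₀ with hm
  set S : N := ∏ b : A₀, c b with hS
  have hcop' : (Nat.card N).Coprime m := by rw [hm, ← Nat.card_eq_fintype_card]; exact hcop
  let r := powCoprime hcop'
  obtain ⟨n, hn⟩ := r.surjective S
  have hn' : n ^ m = S := hn
  have key : ∀ a : A₀, c a = n * (f a n)⁻¹ := fun a => by
    refine r.injective ?_
    show c a ^ m = (n * (f a n)⁻¹) ^ m
    have hprod : S = c a ^ m * MulAut.conjNormal (a : G) S := by
      conv_lhs => rw [hS, ← Equiv.prod_comp (Equiv.mulLeft a)]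
      simp only [Equiv.coe_mulLeft, hmul, Finset.prod_mul_distrib, Finset.prod_const, Finset.card_univ]
      rw [map_prod]
    rw [mul_pow, inv_pow, ← map_pow, hn']
    exact eq_mul_inv_of_mul_eq hprod.symm
  refine ⟨(n : G), n.2, eq_of_le_of_card_ge ?_ ?_⟩
  · rintro _ ⟨a, ha, rfl⟩
    have h := hc ⟨a, ha⟩
    rw [key ⟨a, ha⟩] at h
    simp only [f, Subgroup.coe_mul, Subgroup.coe_inv, MulAut.conjNormal_apply] at h
    simpa [mul_assoc] using h
  · rw [card_map_of_injective (MulEquiv.injective _)]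
    exact hcard

/-- A prime-to-`p` quotient above a minimal normal `p`-subgroup inside the Frattini subgroup. -/
theorem eq_of_le_frattini {G : Type u} [Group G] [Finite G] {p : ℕ} [hp : Fact p.Prime] {N A : Subgroup G}
    [N.Normal] [A.Normal] [IsMulCommutative N] (hNp : IsPGroup p N) (hNA : N ≤ A) (hNF : N ≤ frattini G)
    (hA : ¬ p ∣ N.relIndex A) (huniq : ∀ X : Subgroup G, X.Normal → ¬ p ∣ Nat.card X → X = ⊥) : A = N := by
  obtain ⟨j, hj⟩ := IsPGroup.iff_card.mp hNp
  obtain ⟨C, hC⟩ := exists_right_complement'_of_coprime (N := N.subgroupOf A) (by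
    rw [Nat.card_congr (subgroupOfEquivOfLe hNA).toEquiv, hj]
    exact ((hp.out.coprime_iff_not_dvd).mpr hA).pow_left j)
  set A₀ := C.map A.subtype with hA₀
  have hA₀A : A₀ ≤ A := map_subtype_le C
  have hcard : Nat.card A₀ = N.relIndex A := by
    rw [hA₀, card_map_of_injective A.subtype_injective]
    exact hC.symm.index_eq_card.symm
  have hdisj : N ⊓ A₀ = ⊥ := eq_bot_iff.mpr fun x hx => by
    obtain ⟨hxN, c, hc, rfl⟩ := mem_inf.mp hx
    have := mem_bot.mp (hC.disjoint.eq_bot ▸ mem_inf.mpr ⟨mem_subgroupOf.mpr hxN, hc⟩)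
    rw [this]; exact one_mem _
  have hsup : A = N ⊔ A₀ := by
    refine le_antisymm (fun x hx => ?_) (sup_le hNA hA₀A)
    obtain ⟨u, v, huv⟩ : ∃ u : N.subgroupOf A, ∃ v : C, (u : A) * v = ⟨x, hx⟩ := by
      obtain ⟨⟨u, v⟩, h⟩ := hC.2 ⟨x, hx⟩
      exact ⟨u, v, h⟩
    have hx' : x = ((u : A) : G) * ((v : A) : G) := (congrArg Subtype.val huv).symm
    rw [hx']
    exact mul_mem_sup u.2 (mem_map_of_mem _ v.2)
  have hpA₀ : ¬ p ∣ Nat.card A₀ := hcard ▸ hA
  have hcop : ∀ X : Subgroup G, Nat.card X = Nat.card A₀ → (Nat.card N).Coprime (Nat.card X) := fun X hX => by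
    rw [hX, hj]; exact ((hp.out.coprime_iff_not_dvd).mpr hpA₀).pow_left j
  have htop : normalizer (A₀ : Set G) ⊔ N = ⊤ := eq_top_iff.mpr fun g _ => by
    set A₁ := A₀.map (MulAut.conj g).toMonoidHom with hA₁
    have hc1 : Nat.card A₁ = Nat.card A₀ := card_map_of_injective (MulEquiv.injective _)
    have h1 : N ⊓ A₁ = ⊥ := disjoint_iff.mp (disjoint_of_coprime_natCard (hcop A₁ hc1))
    have h1A : A₁ ≤ N ⊔ A₀ := by
      rw [← hsup]
      rintro _ ⟨a, ha, rfl⟩
      exact (inferInstance : A.Normal).conj_mem a (hA₀A ha) g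
    obtain ⟨n, hn, he⟩ := exists_conj_complement h1 hdisj h1A hc1.ge (hcop A₁ hc1)
    rw [hA₁, map_map] at he
    have hmem : n * g ∈ normalizer (A₀ : Set G) := by
      refine mem_normalizer_iff_map_conj_eq.mpr ?_
      convert he using 2
      ext x
      simp [mul_assoc]
    have : g = n⁻¹ * (n * g) := by group
    rw [this]
    exact mul_mem (mem_sup_right (inv_mem hn)) (mem_sup_left hmem)
  have hnorm : normalizer (A₀ : Set G) = ⊤ :=
    frattini_nongenerating (eq_top_iff.mpr (htop.symm.trans_le (sup_le_sup_left hNF _)))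
  haveI : A₀.Normal := normalizer_eq_top_iff.mp hnorm
  rw [hsup, huniq A₀ inferInstance hpA₀, sup_bot_eq]

theorem relIndex_dvd_relIndex_of_normal {G : Type u} [Group G] {X H K : Subgroup G} [X.Normal] (h : H ≤ K) :
    X.relIndex H ∣ X.relIndex K := by
  rw [← relIndex_sup_right (H := H) (K := X), ← relIndex_sup_right (H := K) (K := X),
    ← relIndex_mul_relIndex X (H ⊔ X) (K ⊔ X) le_sup_right (sup_le_sup_right h X)]
  exact Dvd.intro _ rfl

theorem relIndex_inf_dvd {G : Type u} [Group G] {X₁ X₂ H K : Subgroup G} [X₂.Normal] [X₁.Normal]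
    (hH : H ≤ K) {L : Subgroup G} (hL : H ≤ L) : (X₁ ⊓ X₂).relIndex H ∣ X₁.relIndex K * X₂.relIndex L := by
  have h : (X₁ ⊓ X₂).relIndex H = X₁.relIndex H * X₂.relIndex (X₁ ⊓ H) := by
    rw [inf_comm X₁ X₂, ← relIndex_inf_mul_relIndex, mul_comm]
  rw [h]
  exact mul_dvd_mul (relIndex_dvd_relIndex_of_normal hH) (relIndex_dvd_relIndex_of_normal (inf_le_right.trans hL))

/-- The series `p', p, p', p`. -/
def HasSeries (p : ℕ) (G : Type u) [Group G] : Prop :=
  ∃ A B C : Subgroup G, A.Normal ∧ B.Normal ∧ C.Normal ∧ A ≤ B ∧ B ≤ C ∧ ¬ p ∣ Nat.card A ∧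
    (∃ k : ℕ, A.relIndex B = p ^ k) ∧ ¬ p ∣ B.relIndex C ∧ ∃ k : ℕ, C.index = p ^ k

/-- Every maximal subgroup is `p`-nilpotent or of prime index. -/
def MaxCond (p : ℕ) (G : Type u) [Group G] : Prop :=
  ∀ M : Subgroup G, IsCoatom M →
    (∃ K : Subgroup ↥M, K.Normal ∧ ¬ p ∣ Nat.card K ∧ ∃ k : ℕ, K.index = p ^ k) ∨ (M.index).Prime

theorem maxCond_quotient {G : Type u} [Group G] [Finite G] {p : ℕ} [hp : Fact p.Prime] (h : MaxCond p G)
    (N : Subgroup G) [N.Normal] : MaxCond p (G ⧸ N) := by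
  intro M hM
  set π := QuotientGroup.mk' N
  have hπ : Function.Surjective π := QuotientGroup.mk'_surjective N
  have hco : IsCoatom (M.comap π) := isCoatom_comap_of_surjective hπ hM
  rcases h _ hco with ⟨K, hKn, hKc, k, hk⟩ | hpr
  · refine Or.inl ?_
    let φ := π.subgroupComap M
    have hφ : Function.Surjective φ := π.subgroupComap_surjective_of_surjective M hπ
    refine ⟨K.map φ, hKn.map φ hφ, fun hd => hKc (hd.trans (card_map_dvd K φ)), ?_⟩
    obtain ⟨i, -, hi⟩ := (Nat.dvd_prime_pow hp.out).mp (hk ▸ index_map_dvd K hφ)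
    exact ⟨i, hi⟩
  · rw [index_comap_of_surjective _ hπ] at hpr
    exact Or.inr hpr

theorem series_aux {p : ℕ} [hp : Fact p.Prime] : ∀ (n : ℕ) {G : Type u} [Group G] [Finite G],
    Nat.card G ≤ n → Cfsg.IsPSolvable p G → MaxCond p G → HasSeries p G := by
  intro n
  induction n with
  | zero => intro G _ _ h _ _; exact absurd h (not_le.mpr Nat.card_pos)
  | succ n ih =>
  intro G _ _ hn hG hmax
  classical
  rcases subsingleton_or_nontrivial G with hs | hs
  · refine ⟨⊥, ⊥, ⊥, inferInstance, inferInstance, inferInstance, le_rfl, le_rfl, ?_, ⟨0, ?_⟩, ?_, ⟨0, ?_⟩⟩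
    · rw [card_bot]; exact hp.out.not_dvd_one
    · rw [relIndex_self, pow_zero]
    · rw [relIndex_self]; exact hp.out.not_dvd_one
    · rw [pow_zero, index_eq_one]; exact Subsingleton.elim _ _
  -- series above every minimal normal subgroup
  have hquot : ∀ N : Subgroup G, Core.IsMinNormal N → ∃ A B C : Subgroup G, A.Normal ∧ B.Normal ∧ C.Normal ∧
      N ≤ A ∧ A ≤ B ∧ B ≤ C ∧ ¬ p ∣ N.relIndex A ∧ (∃ k : ℕ, A.relIndex B = p ^ k) ∧ ¬ p ∣ B.relIndex C ∧
      ∃ k : ℕ, C.index = p ^ k := by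
    intro N hN
    haveI := hN.1
    have hlt : Nat.card (G ⧸ N) ≤ n := by
      have h1 : 1 < Nat.card N := by
        rcases (Nat.card N).lt_or_ge 2 with h | h
        · exact absurd (card_eq_one.mp (by have := Nat.card_pos (α := N); omega)) hN.2.1
        · omega
      have h2 := card_eq_card_quotient_mul_card_subgroup N
      have h3 : 0 < Nat.card (G ⧸ N) := Nat.card_pos
      nlinarith
    obtain ⟨A, B, C, hA, hB, hC, hAB, hBC, h1, ⟨k, h2⟩, h3, ⟨l, h4⟩⟩ :=
      ih hlt (Core.isPSolvable_quotient hG N) (maxCond_quotient hmax N)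
    set π := QuotientGroup.mk' N
    have hπ : Function.Surjective π := QuotientGroup.mk'_surjective N
    have hrel : ∀ X Y : Subgroup (G ⧸ N), (X.comap π).relIndex (Y.comap π) = X.relIndex Y := fun X Y => by
      rw [relIndex_comap, map_comap_eq_self_of_surjective hπ]
    refine ⟨A.comap π, B.comap π, C.comap π, hA.comap π, hB.comap π, hC.comap π,
      (QuotientGroup.ker_mk' N).symm.trans_le (ker_le_comap π A), comap_mono hAB, comap_mono hBC,
      ?_, ⟨k, (hrel A B).trans h2⟩, by rw [hrel]; exact h3, ⟨l, (index_comap_of_surjective _ hπ).trans h4⟩⟩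
    have e : N = (⊥ : Subgroup (G ⧸ N)).comap π := by rw [MonoidHom.comap_bot, QuotientGroup.ker_mk']
    rw [congrArg (fun X : Subgroup G => X.relIndex (A.comap π)) e, hrel, relIndex_bot_left]
    exact h1
  have hcardA : ∀ {N A : Subgroup G}, N ≤ A → Nat.card A = Nat.card N * N.relIndex A := fun {N A} h => by
    rw [← relIndex_bot_left, ← relIndex_bot_left, relIndex_mul_relIndex ⊥ N A bot_le h]
  obtain ⟨N, hN⟩ := Core.exists_isMinNormal_univ (G := G)
  haveI hNn := hN.1
  by_cases hp' : ∃ N : Subgroup G, Core.IsMinNormal N ∧ ¬ p ∣ Nat.card N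
  · obtain ⟨N, hN, hd⟩ := hp'
    obtain ⟨A, B, C, hA, hB, hC, hNA, hAB, hBC, h1, h2, h3, h4⟩ := hquot N hN
    exact ⟨A, B, C, hA, hB, hC, hAB, hBC,
      fun h => by rw [hcardA hNA] at h; exact (hp.out.dvd_mul.mp h).elim hd h1, h2, h3, h4⟩
  push Not at hp'
  have hPgrp : ∀ N : Subgroup G, Core.IsMinNormal N → IsPGroup p N := fun N hN =>
    (Core.minimal_normal_of_isPSolvable hG hN).resolve_right fun h =>
      (hp.out.coprime_iff_not_dvd.mp h.symm) (hp' N hN)
  by_cases hu : ∃ N' : Subgroup G, Core.IsMinNormal N' ∧ N' ≠ N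
  · obtain ⟨N', hN', hne⟩ := hu
    haveI := hN'.1
    obtain ⟨A, B, C, hA, hB, hC, hNA, hAB, hBC, h1, ⟨k, h2⟩, h3, ⟨l, h4⟩⟩ := hquot N hN
    obtain ⟨A', B', C', hA', hB', hC', hNA', hAB', hBC', h1', ⟨k', h2'⟩, h3', ⟨l', h4'⟩⟩ := hquot N' hN'
    have hNN : N ⊓ N' = ⊥ := by
      rcases hN.inf_eq_bot_or_le N' with h | h
      · exact h
      · rcases hN'.2.2 N hN.1 h with h' | h'
        · exact absurd h' hN.2.1
        · exact absurd h'.symm hne
    have hpow : ∀ {x a b : ℕ}, x ∣ p ^ a * p ^ b → ∃ i, x = p ^ i := fun {x a b} h => by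
      rw [← pow_add] at h
      obtain ⟨i, -, hi⟩ := (Nat.dvd_prime_pow hp.out).mp h
      exact ⟨i, hi⟩
    refine ⟨A ⊓ A', B ⊓ B', C ⊓ C', inferInstance, inferInstance, inferInstance, inf_le_inf hAB hAB',
      inf_le_inf hBC hBC', fun h => ?_, ?_, fun h => ?_, ?_⟩
    · have hd := relIndex_inf_dvd (X₁ := N) (X₂ := N') (H := A ⊓ A') (K := A) inf_le_left (L := A') inf_le_right
      rw [hNN, relIndex_bot_left] at hd
      exact (hp.out.dvd_mul.mp (h.trans hd)).elim h1 h1'
    · have hd := relIndex_inf_dvd (X₁ := A) (X₂ := A') (H := B ⊓ B') (K := B) inf_le_left (L := B') inf_le_right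
      rw [h2, h2'] at hd
      exact hpow hd
    · have hd := relIndex_inf_dvd (X₁ := B) (X₂ := B') (H := C ⊓ C') (K := C) inf_le_left (L := C') inf_le_right
      exact (hp.out.dvd_mul.mp (h.trans hd)).elim h3 h3'
    · have hd := relIndex_inf_dvd (X₁ := C) (X₂ := C') (H := (⊤ : Subgroup G)) (K := ⊤) le_rfl (L := ⊤) le_rfl
      simp only [relIndex_top_right] at hd
      rw [h4, h4'] at hd
      exact hpow hd
  push Not at hu
  have huniq : ∀ X : Subgroup G, X.Normal → X ≠ ⊥ → N ≤ X := fun X hX hXne => by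
    obtain ⟨Y, hY, hYX⟩ := Core.exists_isMinNormal hX hXne
    exact hu Y hY ▸ hYX
  have hNp := hPgrp N hN
  haveI hNab : IsMulCommutative N := Core.isMulCommutative_of_minimal_solvable hN
    (by haveI := hNp.isNilpotent; infer_instance)
  obtain ⟨j, hj⟩ := IsPGroup.iff_card.mp hNp
  by_cases hF : N ≤ frattini G
  · obtain ⟨A, B, C, hA, hB, hC, hNA, hAB, hBC, h1, ⟨k, h2⟩, h3, h4⟩ := hquot N hN
    have hAN : A = N := eq_of_le_frattini hNp hNA hF h1 fun X hX hd => by
      by_contra hne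
      exact hd ((hp' N hN).trans (card_dvd_of_le (huniq X hX hne)))
    refine ⟨⊥, B, C, inferInstance, hB, hC, bot_le, hBC, by rw [card_bot]; exact hp.out.not_dvd_one,
      ⟨j + k, ?_⟩, h3, h4⟩
    rw [relIndex_bot_left, hcardA (hNA.trans hAB), ← hAN, h2, hAN, hj, pow_add]
  obtain ⟨M, hM, hNM⟩ : ∃ M : Subgroup G, IsCoatom M ∧ ¬ N ≤ M := by
    by_contra h
    push Not at h
    exact hF (by rw [frattini, Order.radical]; exact le_iInf₂ h)
  have hsup : N ⊔ M = ⊤ := hM.2 _ (lt_of_le_of_ne le_sup_right fun h => hNM (h.symm ▸ le_sup_left))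
  have hinf : N ⊓ M = ⊥ := by
    have hn : (N ⊓ M).Normal := ⟨fun x hx g => by
      have hg : g ∈ N ⊔ M := hsup ▸ mem_top g
      obtain ⟨a, ha, m, hm, rfl⟩ := mem_sup_of_normal_left.mp hg
      have h1 : m * x * m⁻¹ ∈ N ⊓ M :=
        mem_inf.mpr ⟨hN.1.conj_mem x (mem_inf.mp hx).1 m, mul_mem (mul_mem hm (mem_inf.mp hx).2) (inv_mem hm)⟩
      have h2 : a * (m * x * m⁻¹) * a⁻¹ = m * x * m⁻¹ := by
        rw [setLike_mul_comm ha (mem_inf.mp h1).1]; group
      rw [show a * m * x * (a * m)⁻¹ = a * (m * x * m⁻¹) * a⁻¹ by group, h2]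
      exact h1⟩
    rcases hN.2.2 _ hn inf_le_left with h | h
    · exact h
    · exact absurd (inf_eq_left.mp h) hNM
  have hidxM : M.index = Nat.card N := by
    have h1 : N.index = Nat.card M := by
      rw [← relIndex_top_right, ← hsup, relIndex_sup_left, ← inf_relIndex_right, hinf, relIndex_bot_left]
    have h2 := N.card_mul_index
    rw [h1, ← M.card_mul_index, mul_comm (Nat.card N)] at h2
    exact (Nat.eq_of_mul_eq_mul_left Nat.card_pos h2).symm
  rcases hmax M hM with ⟨K, hKn, hKc, k, hk⟩ | hpr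
  · set K' := K.map M.subtype
    have hK'M : K' ≤ M := map_subtype_le K
    have hK'c : Nat.card K' = Nat.card K := card_map_of_injective M.subtype_injective
    have hCn : (N ⊔ K').Normal := by
      rw [← normalizer_eq_top_iff, eq_top_iff, ← hsup]
      refine sup_le (le_sup_left.trans le_normalizer) fun m hm => ?_
      refine mem_normalizer_iff_map_conj_eq.mpr ?_
      rw [Subgroup.map_sup, mem_normalizer_iff_map_conj_eq.mp (?_ : m ∈ normalizer (N : Set G)),
        mem_normalizer_iff_map_conj_eq.mp (?_ : m ∈ normalizer (K' : Set G))]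
      swap
      · rw [normalizer_eq_top_iff.mpr hNn]; trivial
      refine mem_normalizer_iff.mpr fun x => ?_
      constructor
      · rintro ⟨y, hy, rfl⟩
        exact ⟨⟨m, hm⟩ * y * ⟨m, hm⟩⁻¹, hKn.conj_mem y hy _, rfl⟩
      · rintro ⟨y, hy, hye⟩
        refine ⟨⟨m, hm⟩⁻¹ * y * (⟨m, hm⟩⁻¹)⁻¹, hKn.conj_mem y hy _, ?_⟩
        show m⁻¹ * (y : G) * m⁻¹⁻¹ = x
        rw [show (y : G) = m * x * m⁻¹ from hye]; group
    refine ⟨⊥, N, N ⊔ K', inferInstance, hNn, hCn, bot_le, le_sup_left, by rw [card_bot]; exact hp.out.not_dvd_one,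
      ⟨j, by rw [relIndex_bot_left, hj]⟩, ?_, ?_⟩
    · rw [relIndex_sup_left]
      exact fun h => hKc (hK'c ▸ h.trans (relIndex_dvd_card _ _))
    · haveI := hCn
      have h1 : (N ⊔ K').index = (N ⊔ K').relIndex M := by
        rw [← relIndex_sup_left (H := M), show N ⊔ K' ⊔ M = ⊤ from eq_top_iff.mpr (hsup.symm.trans_le
          (sup_le_sup_right le_sup_left M)), relIndex_top_right]
      have h2 : K'.relIndex M = p ^ k := by
        rw [← hk]; show (K'.subgroupOf M).index = K.index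
        rw [show K'.subgroupOf M = K from comap_map_eq_self_of_injective M.subtype_injective K]
      obtain ⟨i, -, hi⟩ := (Nat.dvd_prime_pow hp.out).mp (h2 ▸ relIndex_dvd_of_le_left M (le_sup_right : K' ≤ N ⊔ K'))
      exact ⟨i, h1.trans hi⟩
  · rw [hidxM, hj] at hpr
    have hcN : Nat.card N = p := by rw [hj, Nat.Prime.eq_one_of_pow hpr, pow_one]
    set Z := centralizer (N : Set G)
    haveI : Z.Normal := inferInstanceAs (centralizer (N : Set G)).Normal
    have hZn : (Z ⊓ M).Normal := ⟨fun x hx g => by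
      have hg : g ∈ N ⊔ M := hsup ▸ mem_top g
      obtain ⟨a, ha, m, hm, rfl⟩ := mem_sup_of_normal_left.mp hg
      have h1 : m * x * m⁻¹ ∈ Z ⊓ M := mem_inf.mpr ⟨(inferInstance : Z.Normal).conj_mem x (mem_inf.mp hx).1 m,
        mul_mem (mul_mem hm (mem_inf.mp hx).2) (inv_mem hm)⟩
      have h2 : a * (m * x * m⁻¹) * a⁻¹ = m * x * m⁻¹ := by
        rw [mem_centralizer_iff.mp (mem_inf.mp h1).1 a ha]; group
      rw [show a * m * x * (a * m)⁻¹ = a * (m * x * m⁻¹) * a⁻¹ by group, h2]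
      exact h1⟩
    have hZM : Z ⊓ M = ⊥ := by
      by_contra h
      exact hNM ((huniq _ hZn h).trans inf_le_right)
    have hZN : Z = N := by
      refine le_antisymm (fun z hz => ?_) (le_centralizer_iff_isMulCommutative.mpr hNab)
      have hg : z ∈ N ⊔ M := hsup ▸ mem_top z
      obtain ⟨a, ha, m, hm, rfl⟩ := mem_sup_of_normal_left.mp hg
      have hm1 : m ∈ Z ⊓ M := mem_inf.mpr ⟨by
        simpa using mul_mem (inv_mem (le_centralizer_iff_isMulCommutative.mpr hNab ha : a ∈ Z)) hz, hm⟩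
      rw [hZM, mem_bot] at hm1
      rwa [hm1, mul_one]
    refine ⟨⊥, N, ⊤, inferInstance, hNn, inferInstance, bot_le, le_top, by rw [card_bot]; exact hp.out.not_dvd_one,
      ⟨1, by rw [relIndex_bot_left, hcN, pow_one]⟩, fun hd => ?_, ⟨0, by rw [index_top, pow_zero]⟩⟩
    rw [relIndex_top_right] at hd
    haveI : IsCyclic N := isCyclic_of_prime_card hcN
    let ρ : G →* MulAut N := MulAut.conjNormal
    have hker : ρ.ker ≤ N := fun g hg => hZN ▸ mem_centralizer_iff.mpr fun x hx => by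
      have := congrArg Subtype.val (DFunLike.congr_fun (MonoidHom.mem_ker.mp hg) ⟨x, hx⟩)
      simp [ρ] at this
      exact (mul_inv_eq_iff_eq_mul.mp this).symm
    have h1 : N.index ∣ Nat.card (MulAut N) :=
      (index_dvd_of_le hker).trans (by rw [index_ker]; exact card_subgroup_dvd_card _)
    rw [IsCyclic.card_mulAut, hcN, Nat.totient_prime hp.out] at h1
    have := Nat.le_of_dvd (by have := hp.out.two_le; omega) (hd.trans h1)
    have := hp.out.two_le
    omega

theorem hasSeries {p : ℕ} [hp : Fact p.Prime] {G : Type u} [Group G] [Finite G] (hG : Cfsg.IsPSolvable p G)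
    (hmax : MaxCond p G) : HasSeries p G :=
  series_aux (Nat.card G) le_rfl hG hmax

end Cfsg.Lib.MaxPNilpotent
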