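import Cfsg.Agent.Lib.Fusion.Tate
import Cfsg.Agent.Lib.FusionSys.YoshidaTransfer
import Cfsg.Agent.Lib.PGroup.Basic
import Mathlib.Algebra.Group.ForwardDiff
import Mathlib.Data.ZMod.Basic
import Cfsg.Prelude.Def_BaumannBlocks

/-!
# The Hall–Wielandt transfer theorem

If `Q` is weakly closed in a Sylow `p`-subgroup `P` and `[u, z, …, z] = 1` (`p - 1` entries `z`)
for `u ∈ P` and `z ∈ Q`, then `N(Q)` controls the `p`-residual.
-/

set_option autoImplicit false
set_option linter.style.haveILetI false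

namespace Cfsg.Lib.Fusion.HallWielandt

open Subgroup MulAction

variable {p : ℕ} [hp : Fact p.Prime]

/-- `C(p-1, k) = (-1)^k` modulo `p`. -/
theorem choose_pred_cast : ∀ k : ℕ, k ≤ p - 1 → (((p - 1).choose k : ℕ) : ZMod p) = (-1) ^ k := by
  intro k
  induction k with
  | zero => intro _; simp
  | succ k ih =>
    intro hk
    have h2 := hp.out.two_le
    have h := Nat.choose_succ_succ (p - 1) k
    simp only [Nat.succ_eq_add_one, Nat.sub_add_cancel hp.out.one_le] at h
    have hz : ((p.choose (k + 1) : ℕ) : ZMod p) = 0 :=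
      (ZMod.natCast_eq_zero_iff _ _).mpr (Nat.Prime.dvd_choose_self hp.out (by omega) (by omega))
    rw [h, Nat.cast_add, ih (by omega)] at hz
    rw [show ((p - 1).choose (k + 1) : ZMod p) = -((-1 : ZMod p) ^ k) from eq_neg_of_add_eq_zero_right hz, pow_succ]
    ring

/-- The `(p-1)`-st difference is the sum over a full period. -/
theorem fwdDiff_pred_eq_sum (a : ℕ → ZMod p) :
    (fwdDiff 1)^[p - 1] a 0 = ∑ i ∈ Finset.range p, a i := by
  rw [fwdDiff_iter_eq_sum_shift, Nat.sub_add_cancel hp.out.one_le]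
  refine Finset.sum_congr rfl fun k hk => ?_
  have hk' : k ≤ p - 1 := by have := Finset.mem_range.mp hk; omega
  rw [zero_add, nsmul_one, Nat.cast_id, zsmul_eq_mul, Int.cast_mul, Int.cast_pow, Int.cast_neg, Int.cast_one,
    Int.cast_natCast, choose_pred_cast k hk', ← pow_add, Nat.sub_add_cancel hk']
  rcases eq_or_ne p 2 with rfl | h2
  · rw [show (-1 : ZMod 2) = 1 from rfl, one_pow, one_mul]
  · rw [Even.neg_one_pow (hp.out.even_sub_one h2), one_mul]

/-- Values of a homomorphism on the conjugates of `y` by powers of `z` multiply to `1` if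
`[y, z, …, z] = 1`. -/
theorem prod_conj_eq_one {R : Type*} [Group R] {M : Subgroup R} [M.Normal]
    (h : M →* Multiplicative (ZMod p)) (z : R) (y : M)
    (hy : (fun v : R => v⁻¹ * z⁻¹ * v * z)^[p - 1] (y : R) = 1) :
    ∏ i ∈ Finset.range p, h (MulAut.conjNormal ((z ^ i)⁻¹) y) = 1 := by
  let T : M → M := fun v => v⁻¹ * MulAut.conjNormal z⁻¹ v
  have hT : ∀ v : M, ((T v : M) : R) = (v : R)⁻¹ * z⁻¹ * v * z := fun v => by
    simp only [T, Subgroup.coe_mul, Subgroup.coe_inv, MulAut.conjNormal_apply, inv_inv, mul_assoc]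
  have hTy : T^[p - 1] y = 1 := by
    refine Subtype.ext ?_
    have hs : Function.Semiconj (fun v : M => (v : R)) T (fun v : R => v⁻¹ * z⁻¹ * v * z) := hT
    rw [(hs.iterate_right (p - 1)).eq y, hy, coe_one]
  let α : ℕ → ℕ → ZMod p := fun k i =>
    Multiplicative.toAdd (h (MulAut.conjNormal ((z ^ i)⁻¹) (T^[k] y)))
  have hstep : ∀ k, α (k + 1) = fwdDiff 1 (α k) := fun k => funext fun i => by
    show Multiplicative.toAdd (h (MulAut.conjNormal ((z ^ i)⁻¹) (T^[k + 1] y))) =
      α k (i + 1) - α k i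
    rw [Function.iterate_succ_apply']
    show Multiplicative.toAdd (h (MulAut.conjNormal ((z ^ i)⁻¹)
      ((T^[k] y)⁻¹ * MulAut.conjNormal z⁻¹ (T^[k] y)))) = _
    rw [map_mul, map_inv, map_mul, map_inv, toAdd_mul, toAdd_inv, ← MulAut.mul_apply, ← map_mul,
      ← mul_inv_rev, ← pow_succ', neg_add_eq_sub]
  have hiter : ∀ k, α k = (fwdDiff 1)^[k] (α 0) := by
    intro k
    induction k with
    | zero => rfl
    | succ k ih => rw [hstep, ih, Function.iterate_succ_apply']
  have h0 : α (p - 1) 0 = 0 := by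
    show Multiplicative.toAdd (h (MulAut.conjNormal ((z ^ 0)⁻¹) (T^[p - 1] y))) = 0
    rw [hTy, map_one, map_one, toAdd_one]
  rw [hiter, fwdDiff_pred_eq_sum] at h0
  refine Multiplicative.toAdd.injective ?_
  rw [toAdd_prod, toAdd_one]
  exact h0

section Cocycle

variable {R : Type*} [Group R] [Finite R] {X : Type*} [MulAction R X]
  {c : R → X → Multiplicative (ZMod p)}

/-- An orbit on which `Q` has no fixed point contributes nothing. -/
theorem prod_orbit_eq_one (hc : ∀ a b q, c (a * b) q = c a (b • q) * c b q) (hR : IsPGroup p R)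
    [DecidableEq X] (x : R) {Q : Subgroup R} (hgen : zpowers x ⊔ Q = ⊤)
    (hval : ∀ (j : ℕ) (q : X), 0 < j → x ^ p ^ j • q = q → c (x ^ p ^ j) q = 1)
    (heng : ∀ u : R, ∀ z ∈ Q, (fun v : R => v⁻¹ * z⁻¹ * v * z)^[p - 1] u = 1)
    {q₀ : X} {O : Finset X} (hO : ∀ q, q ∈ O ↔ q ∈ orbit R q₀)
    (hq₀ : ∃ z ∈ Q, z • q₀ ≠ q₀) (hx : x • q₀ = q₀) :
    ∏ q ∈ O, c x q = 1 := by
  classical
  obtain ⟨z₁, hz₁Q, hz₁⟩ := hq₀
  have hD : stabilizer R q₀ ≠ ⊤ := fun h => hz₁ (mem_stabilizer_iff.1 (h ▸ mem_top z₁))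
  obtain ⟨M, hMc, hDM⟩ := (eq_top_or_exists_le_coatom _).resolve_left hD
  haveI hMn : M.Normal := Cfsg.Lib.PGroup.normal_of_isCoatom hR hMc
  have hMp : M.index = p := Cfsg.Lib.PGroup.index_of_isCoatom hR hMc
  have hxM : x ∈ M := hDM hx
  obtain ⟨z, hzQ, hzM⟩ : ∃ z ∈ Q, z ∉ M := by
    by_contra! hall
    exact hMc.1 (top_le_iff.mp (hgen ▸ sup_le (zpowers_le.mpr hxM) hall))
  have hzord : orderOf (QuotientGroup.mk' M z) = p := by
    refine orderOf_eq_prime ?_ fun h => hzM ((QuotientGroup.eq_one_iff z).mp h)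
    rw [← map_pow]
    exact (QuotientGroup.eq_one_iff _).mpr (hMp ▸ M.pow_index_mem z)
  have hcover : ∀ r : R, ∃ i < p, ∃ m ∈ M, r = z ^ i * m := by
    intro r
    have hcard : Nat.card (R ⧸ M) = p := hMp
    haveI : Fact (Nat.card (R ⧸ M)).Prime := ⟨hcard.symm ▸ hp.out⟩
    have hmem : QuotientGroup.mk' M r ∈ Submonoid.powers (QuotientGroup.mk' M z) := by
      refine (isOfFinOrder_of_finite _).mem_powers_iff_mem_zpowers.mpr ?_
      exact mem_zpowers_of_prime_card hcard (fun h => hzM ((QuotientGroup.eq_one_iff z).mp h))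
    obtain ⟨i, hi⟩ := hmem
    refine ⟨i % p, Nat.mod_lt _ hp.out.pos, (z ^ (i % p))⁻¹ * r, QuotientGroup.eq.mp ?_,
      (mul_inv_cancel_left _ _).symm⟩
    show QuotientGroup.mk' M (z ^ (i % p)) = QuotientGroup.mk' M r
    rw [map_pow, ← hzord, pow_mod_orderOf]
    exact hi
  set B : Finset X := O.filter fun q => ∃ m ∈ M, m • q₀ = q with hB
  have hBmem : ∀ q, q ∈ B ↔ ∃ m ∈ M, m • q₀ = q := fun q => by
    rw [hB, Finset.mem_filter, hO]
    exact ⟨fun h => h.2, fun ⟨m, hm, h⟩ => ⟨⟨m, h⟩, m, hm, h⟩⟩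
  have hBinv : ∀ m ∈ M, ∀ q ∈ B, m • q ∈ B := fun m hm q hq => by
    obtain ⟨m', hm', rfl⟩ := (hBmem q).1 hq
    exact (hBmem _).2 ⟨m * m', mul_mem hm hm', mul_smul _ _ _⟩
  have hperm : ∀ m ∈ M, ∀ F : X → Multiplicative (ZMod p),
      ∏ q ∈ B, F (m • q) = ∏ q ∈ B, F q := fun m hm F =>
    Finset.prod_nbij' (fun q => m • q) (fun q => m⁻¹ • q) (fun q hq => hBinv m hm q hq)
      (fun q hq => hBinv _ (inv_mem hm) q hq) (fun q _ => inv_smul_smul m q)
      (fun q _ => smul_inv_smul m q) fun q _ => rfl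
  let h : M →* Multiplicative (ZMod p) := MonoidHom.mk' (fun m => ∏ q ∈ B, c m q) fun a b => by
    simp only [Subgroup.coe_mul, hc, Finset.prod_mul_distrib, hperm b b.2 fun q => c a q]
  -- a block
  have hblock : ∀ i : ℕ, ∏ q ∈ B, c x (z ^ i • q) = h (MulAut.conjNormal ((z ^ i)⁻¹) ⟨x, hxM⟩) := by
    intro i
    set w := MulAut.conjNormal ((z ^ i)⁻¹) (⟨x, hxM⟩ : M) with hw
    show _ = ∏ q ∈ B, c (w : R) q
    have hwx : x * z ^ i = z ^ i * (w : R) := by
      rw [hw, MulAut.conjNormal_apply, inv_inv]; group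
    have h1 : ∀ q, c x (z ^ i • q) = c (z ^ i) ((w : R) • q) * c (w : R) q / c (z ^ i) q := by
      intro q
      rw [← hc, ← hwx, hc, mul_div_assoc, div_self', mul_one]
    rw [Finset.prod_congr rfl fun q _ => h1 q, Finset.prod_div_distrib, Finset.prod_mul_distrib,
      hperm _ w.2 fun q => c (z ^ i) q, mul_div_cancel_left]
  have hsplit : ∏ q ∈ O, c x q = ∏ i ∈ Finset.range p, ∏ q ∈ B, c x (z ^ i • q) := by
    rw [← Finset.prod_product']
    symm
    refine Finset.prod_bij (fun a _ => z ^ a.1 • a.2) (fun a ha => ?_) (fun a ha b hb hab => ?_)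
      (fun q hq => ?_) fun a _ => rfl
    · obtain ⟨m, -, hm⟩ := (hBmem _).1 (Finset.mem_product.1 ha).2
      rw [hO, ← hm, ← mul_smul]
      exact mem_orbit _ _
    · obtain ⟨i, q⟩ := a
      obtain ⟨j, q'⟩ := b
      simp only [Finset.mem_product, Finset.mem_range] at ha hb
      obtain ⟨m, hm, rfl⟩ := (hBmem _).1 ha.2
      obtain ⟨m', hm', rfl⟩ := (hBmem _).1 hb.2
      simp only at hab
      rw [← mul_smul, ← mul_smul] at hab
      have hmem : (z ^ i * m)⁻¹ * (z ^ j * m') ∈ M := hDM (mem_stabilizer_iff.2 (by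
        rw [mul_smul, ← hab, inv_smul_smul]))
      have hij : QuotientGroup.mk' M z ^ i = QuotientGroup.mk' M z ^ j := by
        have h2 := (QuotientGroup.eq (s := M)).mpr hmem
        rw [QuotientGroup.mk_mul, QuotientGroup.mk_mul, (QuotientGroup.eq_one_iff m).mpr hm,
          (QuotientGroup.eq_one_iff m').mpr hm', mul_one, mul_one] at h2
        rw [← map_pow, ← map_pow]
        exact h2
      obtain rfl : i = j := by
        have h3 := pow_eq_pow_iff_modEq.mp hij
        rw [hzord] at h3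
        exact h3.eq_of_lt_of_lt ha.1 hb.1
      simp only [mul_smul] at hab
      rw [MulAction.injective (z ^ i) hab]
    · obtain ⟨r, rfl⟩ := (hO q).1 hq
      obtain ⟨i, hi, m, hm, rfl⟩ := hcover r
      exact ⟨(i, m • q₀), Finset.mem_product.2 ⟨Finset.mem_range.2 hi, (hBmem _).2 ⟨m, hm, rfl⟩⟩,
        (mul_smul _ _ _).symm⟩
  rw [hsplit, Finset.prod_congr rfl fun i _ => hblock i]
  exact prod_conj_eq_one h z ⟨x, hxM⟩ (heng x z hzQ)

/-- An invariant set on which `Q` has no fixed point contributes nothing. -/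
theorem prod_eq_one_of_no_fixed_subgroup (hc : ∀ a b q, c (a * b) q = c a (b • q) * c b q)
    (hR : IsPGroup p R) [DecidableEq X] (x : R) {Q : Subgroup R} (hgen : zpowers x ⊔ Q = ⊤)
    (hval : ∀ (j : ℕ) (q : X), 0 < j → x ^ p ^ j • q = q → c (x ^ p ^ j) q = 1)
    (heng : ∀ u : R, ∀ z ∈ Q, (fun v : R => v⁻¹ * z⁻¹ * v * z)^[p - 1] u = 1) :
    ∀ A : Finset X, (∀ r : R, ∀ q ∈ A, r • q ∈ A) → (∀ q ∈ A, ∃ z ∈ Q, z • q ≠ q) →
      ∏ q ∈ A, c x q = 1 := by
  classical
  intro A
  induction A using Finset.strongInduction with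
  | _ A ih =>
  intro hinv hmove
  by_cases hfix : ∃ q₀ ∈ A, x • q₀ = q₀
  · obtain ⟨q₀, hq₀A, hx⟩ := hfix
    set O := A.filter fun q => q ∈ orbit R q₀ with hOdef
    have hO : ∀ q, q ∈ O ↔ q ∈ orbit R q₀ := fun q => by
      rw [hOdef, Finset.mem_filter]
      exact ⟨fun h => h.2, fun h => ⟨by obtain ⟨r, rfl⟩ := h; exact hinv r q₀ hq₀A, h⟩⟩
    have hOA : O ⊆ A := Finset.filter_subset _ _
    rw [← Finset.prod_sdiff hOA, prod_orbit_eq_one hc hR x hgen hval heng hO (hmove q₀ hq₀A) hx,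
      mul_one]
    refine ih _ (Finset.sdiff_ssubset hOA ⟨q₀, (hO q₀).2 (mem_orbit_self q₀)⟩) (fun r q hq => ?_)
      fun q hq => hmove q (Finset.mem_sdiff.1 hq).1
    rw [Finset.mem_sdiff, hO] at hq ⊢
    exact ⟨hinv r q hq.1, fun hmem => hq.2 ((mem_orbit_symm.1 (mem_orbit_of_mem_orbit r⁻¹ hmem)) |>
      fun h => by simpa using mem_orbit_symm.1 h)⟩
  · simp only [not_exists, not_and] at hfix
    exact Cfsg.Lib.FusionSys.Yoshida.prod_eq_one_of_no_fixed hc hR x hval A (hinv x) hfix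

end Cocycle

section Transfer

variable {G : Type*} [Group G] [Finite G]

/-- The transfer cocycle. -/
noncomputable def coc {H : Subgroup G} (f : H →* Multiplicative (ZMod p)) (g : G) (q : G ⧸ H) :
    Multiplicative (ZMod p) :=
  f ⟨((g • q).out)⁻¹ * g * q.out, by
    rw [mul_assoc]
    refine QuotientGroup.eq.mp ?_
    rw [QuotientGroup.out_eq']
    conv_lhs => rw [← QuotientGroup.out_eq' q]
    rfl⟩

theorem coc_mul {H : Subgroup G} (f : H →* Multiplicative (ZMod p)) (a b : G) (q : G ⧸ H) :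
    coc f (a * b) q = coc f a (b • q) * coc f b q := by
  rw [coc, coc, coc, ← map_mul]
  refine congrArg f (Subtype.ext ?_)
  simp only [Subgroup.coe_mul, mul_smul]
  group

/-- The transfer `G → C_p` of a homomorphism on `H`. -/
noncomputable def transferHom {H : Subgroup G} [Fintype (G ⧸ H)]
    (f : H →* Multiplicative (ZMod p)) : G →* Multiplicative (ZMod p) :=
  MonoidHom.mk' (fun g => ∏ q, coc f g q) fun a b => by
    simp only [coc_mul, Finset.prod_mul_distrib]
    congr 1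
    exact Fintype.prod_equiv (MulAction.toPerm b) _ _ fun q => rfl

omit [Finite G] in
theorem map_eq_of_conj {A : Type*} [CommGroup A] (V : G →* A) (g x : G) :
    V (g * x * g⁻¹) = V x := by
  rw [map_mul, map_mul, map_inv, mul_comm (V g), mul_inv_cancel_right]

/-- Homomorphisms of `N(Q)` onto exponent `p` extend to `G`. -/
theorem exists_extension (P : Sylow p G) {Q : Subgroup G}
    (hQ : Cfsg.IsWeaklyClosed Q (P : Subgroup G))
    (heng : ∀ u ∈ (P : Subgroup G), ∀ z ∈ Q, (fun y : G => y⁻¹ * z⁻¹ * y * z)^[p - 1] u = 1)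
    {H : Subgroup G} (hH : H = normalizer (Q : Set G)) (f : H →* Multiplicative (ZMod p)) :
    ∃ (V : G →* Multiplicative (ZMod p)) (hPH : (P : Subgroup G) ≤ H),
      ∀ x (hx : x ∈ (P : Subgroup G)), V x = f ⟨x, hPH hx⟩ := by
  classical
  have hPH : (P : Subgroup G) ≤ H := by
    intro g hg
    rw [hH, mem_normalizer_iff_map_conj_eq]
    refine hQ.2 g ?_
    rintro _ ⟨x, hx, rfl⟩
    exact mul_mem (mul_mem hg (hQ.1 hx)) (inv_mem hg)
  have hexp : ∀ t : Multiplicative (ZMod p), t ^ p = 1 := fun t =>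
    Multiplicative.toAdd.injective (by
      rw [toAdd_pow, toAdd_one, nsmul_eq_mul, ZMod.natCast_self, zero_mul])
  haveI : Fintype (G ⧸ H) := Fintype.ofFinite _
  refine ⟨transferHom f, hPH, ?_⟩
  set V := transferHom f with hV
  -- the only fixed point of `Q`
  have hfixed : ∀ q : G ⧸ H, (∀ z ∈ Q, z • q = q) → q = ((1 : G) : G ⧸ H) := by
    intro q hq
    induction q using QuotientGroup.induction_on with
    | H g =>
    let PH : Sylow p H := P.subtype hPH
    have hmem : ∀ z ∈ Q, g⁻¹ * z * g ∈ H := fun z hz => by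
      have h : ((z * g : G) : G ⧸ H) = (g : G ⧸ H) := hq z hz
      have h' := QuotientGroup.eq.mp h.symm
      rwa [← mul_assoc] at h'
    set K : Subgroup H := (Q.map (MulAut.conj g⁻¹).toMonoidHom).subgroupOf H with hK
    have hKle : Q.map (MulAut.conj g⁻¹).toMonoidHom ≤ H := by
      rintro _ ⟨z, hz, rfl⟩
      simpa using hmem z hz
    have hKp : IsPGroup p K :=
      ((P.2.to_le hQ.1).map _).of_equiv (subgroupOfEquivOfLe hKle).symm
    obtain ⟨R, hR⟩ := hKp.exists_le_sylow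
    obtain ⟨k, hk⟩ := MulAction.exists_smul_eq H R PH
    have hkg : ((k : G) * g⁻¹) ∈ H := by
      refine hH.ge (mem_normalizer_iff_map_conj_eq.mpr ?_)
      refine hQ.2 _ ?_
      rintro _ ⟨z, hz, rfl⟩
      have h1 : (⟨g⁻¹ * z * g, hmem z hz⟩ : H) ∈ K := by
        rw [hK, mem_subgroupOf]
        exact ⟨z, hz, by simp⟩
      have h2 : k * ⟨g⁻¹ * z * g, hmem z hz⟩ * k⁻¹ ∈ (PH : Subgroup H) := by
        rw [← hk, Sylow.coe_subgroup_smul]
        exact Subgroup.smul_mem_pointwise_smul _ (MulAut.conj k) _ (hR h1)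
      rw [Sylow.coe_subtype, mem_subgroupOf] at h2
      simpa [mul_assoc] using h2
    refine (QuotientGroup.eq.mpr ?_).symm
    rw [inv_one, one_mul]
    have := mul_mem (inv_mem hkg) k.2
    simpa using this
  suffices key : ∀ (n : ℕ) x (hx : x ∈ (P : Subgroup G)), orderOf x ≤ n → V x = f ⟨x, hPH hx⟩ from
    fun x hx => key _ x hx le_rfl
  intro n
  induction n with
  | zero => intro x hx h; exact absurd (orderOf_pos x) (by omega)
  | succ n ih =>
  intro x hx hn
  -- values at proper powers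
  have hval : ∀ (j : ℕ) (q : G ⧸ H), 0 < j → x ^ p ^ j • q = q → coc f (x ^ p ^ j) q = 1 := by
    intro j q hj hq
    rcases eq_or_ne x 1 with rfl | hx1
    · rw [coc]
      simp only [one_pow, one_smul, mul_one, inv_mul_cancel]
      exact map_one f
    set y := x ^ p ^ j with hy
    set g := q.out with hg
    have hw : g⁻¹ * y * g ∈ H := by
      have h : ((y * g : G) : G ⧸ H) = (g : G ⧸ H) := by
        rw [hg]
        conv_rhs => rw [QuotientGroup.out_eq']
        exact (congrArg (fun r => y • r) (QuotientGroup.out_eq' q)).trans hq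
      have h' := QuotientGroup.eq.mp h.symm
      rwa [← mul_assoc] at h'
    have hc : coc f y q = f ⟨g⁻¹ * y * g, hw⟩ := by
      rw [coc]
      refine congrArg f (Subtype.ext ?_)
      simp only [hq]
      rfl
    have hord : orderOf y < orderOf x := by
      obtain ⟨e, he⟩ := P.2 ⟨x, hx⟩
      obtain ⟨e', -, he'⟩ := (Nat.dvd_prime_pow hp.out).1
        (orderOf_dvd_of_pow_eq_one (congrArg Subtype.val he : x ^ p ^ e = 1))
      have he0 : e' ≠ 0 := fun h0 => hx1 (orderOf_eq_one_iff.1 (by rw [he', h0, pow_zero]))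
      have h2 : orderOf (x ^ p) < orderOf x := by
        rw [orderOf_pow_of_dvd hp.out.ne_zero (he' ▸ dvd_pow_self p he0)]
        exact Nat.div_lt_self (orderOf_pos x) hp.out.one_lt
      have hpe : y = (x ^ p) ^ p ^ (j - 1) := by
        rw [hy, ← pow_mul, ← pow_succ', Nat.sub_add_cancel hj]
      have h3 : orderOf y ≤ orderOf (x ^ p) :=
        Nat.le_of_dvd (orderOf_pos _) (hpe ▸ orderOf_pow_dvd _)
      omega
    have hordw : orderOf (g⁻¹ * y * g) = orderOf y := by
      have h := MulEquiv.orderOf_eq (MulAut.conj g⁻¹) y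
      simpa using h
    have hp' : IsPGroup p (zpowers (⟨g⁻¹ * y * g, hw⟩ : H)) := by
      obtain ⟨e, he⟩ := P.2 ⟨y, pow_mem hx _⟩
      obtain ⟨e', -, he'⟩ := (Nat.dvd_prime_pow hp.out).1
        (orderOf_dvd_of_pow_eq_one (congrArg Subtype.val he : y ^ p ^ e = 1))
      refine IsPGroup.of_card (n := e') ?_
      rw [Nat.card_zpowers, Subgroup.orderOf_mk, hordw, he']
    obtain ⟨R, hR⟩ := hp'.exists_le_sylow
    obtain ⟨k, hk⟩ := MulAction.exists_smul_eq H R (P.subtype hPH)
    have h2 : k * ⟨g⁻¹ * y * g, hw⟩ * k⁻¹ ∈ ((P.subtype hPH : Sylow p H) : Subgroup H) := by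
      rw [← hk, Sylow.coe_subgroup_smul]
      exact Subgroup.smul_mem_pointwise_smul _ (MulAut.conj k) _ (hR (mem_zpowers _))
    rw [Sylow.coe_subtype, mem_subgroupOf] at h2
    have h3 := ih _ h2 (by
      have h := MulEquiv.orderOf_eq (MulAut.conj (k : G)) (g⁻¹ * y * g)
      simp only [MulAut.conj_apply] at h
      simp only [Subgroup.coe_mul, Subgroup.coe_inv]
      omega)
    have hkw : f (k * ⟨g⁻¹ * y * g, hw⟩ * k⁻¹) = f ⟨g⁻¹ * y * g, hw⟩ := map_eq_of_conj f k _
    have h4 : V y = f ⟨y, hPH (pow_mem hx _)⟩ := ih y (pow_mem hx _) (by omega)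
    have h6 : V ((k * ⟨g⁻¹ * y * g, hw⟩ * k⁻¹ : H) : G) = V (g⁻¹ * y * g) := map_eq_of_conj V (k : G) _
    rw [h6] at h3
    rw [hc, ← hkw]
    refine h3.symm.trans ?_
    have h5 : V (g⁻¹ * y * g) = V y := by simpa using map_eq_of_conj V g⁻¹ y
    rw [h5, h4, show (⟨y, hPH (pow_mem hx _)⟩ : H) = ⟨x, hPH hx⟩ ^ p ^ j from rfl, map_pow,
      ← Nat.sub_add_cancel hj, pow_succ, pow_mul, hexp]
  -- the group generated by `x` and `Q`
  set R := zpowers x ⊔ Q with hRdef
  have hRP : R ≤ (P : Subgroup G) := sup_le (zpowers_le.mpr hx) hQ.1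
  have hxR : x ∈ R := mem_sup_left (mem_zpowers x)
  have hQR : Q ≤ R := le_sup_right
  have hgen : zpowers (⟨x, hxR⟩ : R) ⊔ Q.subgroupOf R = ⊤ := by
    apply map_injective R.subtype_injective
    rw [Subgroup.map_sup, MonoidHom.map_zpowers, map_subgroupOf_eq_of_le hQR,
      ← MonoidHom.range_eq_map, range_subtype]
    rfl
  have hA := prod_eq_one_of_no_fixed_subgroup (X := G ⧸ H) (c := fun (r : R) q => coc f (r : G) q)
    (fun a b q => coc_mul f (a : G) (b : G) q) (P.2.to_le hRP) ⟨x, hxR⟩ hgen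
    (fun j q hj hq => hval j q hj hq)
    (fun u z hz => by
      refine Subtype.ext ?_
      have hs : Function.Semiconj (fun v : R => (v : G)) (fun v : R => v⁻¹ * z⁻¹ * v * z)
          (fun v : G => v⁻¹ * (z : G)⁻¹ * v * z) := fun v => rfl
      exact ((hs.iterate_right (p - 1)).eq u).trans (heng _ (hRP u.2) _ hz))
    (Finset.univ.erase ((1 : G) : G ⧸ H))
    (fun r q hq => by
      rw [Finset.mem_erase] at hq ⊢
      refine ⟨fun hr => hq.1 ?_, Finset.mem_univ _⟩
      rw [← inv_smul_smul r q, hr]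
      show (((r : G)⁻¹ * 1 : G) : G ⧸ H) = _
      exact QuotientGroup.eq.mpr (by simpa using hPH (hRP r.2)))
    (fun q hq => by
      by_contra! hall
      exact (Finset.mem_erase.1 hq).1 (hfixed q fun z hz =>
        hall ⟨z, hQR hz⟩ (mem_subgroupOf.mpr hz)))
  show ∏ q, coc f x q = _
  rw [← Finset.mul_prod_erase Finset.univ _ (Finset.mem_univ ((1 : G) : G ⧸ H)), hA, mul_one]
  have hfix1 : x • ((1 : G) : G ⧸ H) = ((1 : G) : G ⧸ H) :=
    QuotientGroup.eq.mpr (by simpa using hPH hx)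
  have hout : ((1 : G) : G ⧸ H).out ∈ H := by
    have h := QuotientGroup.eq.mp (QuotientGroup.out_eq' ((1 : G) : G ⧸ H))
    simpa using h
  rw [coc, ← map_eq_of_conj f (⟨_, hout⟩⁻¹) ⟨x, hPH hx⟩]
  refine congrArg f (Subtype.ext ?_)
  simp only [hfix1, Subgroup.coe_mul, Subgroup.coe_inv, inv_inv]

end Transfer

/-- **Hall–Wielandt**: `N(Q)` controls the `p`-residual. -/
theorem pResidualOf_normalizer_eq {G : Type*} [Group G] [Finite G] (P : Sylow p G) {Q : Subgroup G}
    (hQ : Cfsg.IsWeaklyClosed Q (P : Subgroup G))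
    (heng : ∀ u ∈ (P : Subgroup G), ∀ z ∈ Q, (fun y : G => y⁻¹ * z⁻¹ * y * z)^[p - 1] u = 1) :
    Cfsg.pResidualOf p (normalizer (Q : Set G)) =
      Cfsg.pResidual p G ⊓ normalizer (Q : Set G) := by
  classical
  set H := normalizer (Q : Set G) with hH
  obtain ⟨-, hPH, -⟩ := exists_extension P hQ heng hH (1 : ↥H →* Multiplicative (ZMod p))
  let B := ↥H ⧸ Cfsg.pResidual p ↥H
  let π : (P : Subgroup G) →* B := (QuotientGroup.mk' _).comp (inclusion hPH)
  have hπ : Function.Surjective π := by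
    intro y
    obtain ⟨g, rfl⟩ := QuotientGroup.mk_surjective y
    obtain ⟨a, ha, m, hm, rfl⟩ := exists_mul_of_sylow (P.subtype hPH) g
    refine ⟨⟨(a : G), mem_subgroupOf.mp ha⟩, ?_⟩
    show ((a : H) : B) = _
    rw [QuotientGroup.mk_mul, (QuotientGroup.eq_one_iff m).mpr hm, mul_one]
  have hB : IsPGroup p B := P.2.of_surjective π hπ
  have htate := tate P H hPH (by
    intro x hx
    set X : (P : Subgroup G) := ⟨x, hx.2⟩ with hX
    have hfr : π X ∈ frattini B := by
      by_contra hnot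
      obtain ⟨M, hM, hxM⟩ : ∃ M : Subgroup B, IsCoatom M ∧ π X ∉ M := by
        by_contra! hall
        refine hnot ?_
        rw [frattini, Order.radical, mem_iInf]
        intro M
        rw [mem_iInf]
        exact hall M
      haveI := Cfsg.Lib.PGroup.normal_of_isCoatom hB hM
      have hc : Nat.card (B ⧸ M) = p := Cfsg.Lib.PGroup.index_of_isCoatom hB hM
      have hc' : Nat.card (Multiplicative (ZMod p)) = p := by
        rw [Nat.card_congr Multiplicative.toAdd, Nat.card_zmod]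
      let e := mulEquivOfPrimeCardEq hc hc'
      let f : ↥H →* Multiplicative (ZMod p) :=
        (e.toMonoidHom.comp (QuotientGroup.mk' M)).comp (QuotientGroup.mk' (Cfsg.pResidual p ↥H))
      obtain ⟨V, hPH', hV⟩ := exists_extension P hQ heng hH f
      have h1 : V x = 1 := pResidual_le_ker ((IsPGroup.of_card (n := 1) (by rw [hc', pow_one]))) V hx.1
      rw [hV x hx.2] at h1
      refine hxM ((QuotientGroup.eq_one_iff _).mp (e.injective ?_))
      rw [map_one]
      exact h1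
    have hle : frattini B ≤ (frattini (P : Subgroup G)).map π := by
      refine Cfsg.Lib.PGroup.frattini_le_of_commutator_le_of_pow_mem (p := p) ?_ fun b => ?_
      · rw [_root_.commutator_def, ← map_top_of_surjective π hπ, ← map_commutator]
        exact map_mono ((_root_.commutator_def _).ge.trans (Cfsg.Lib.PGroup.commutator_le_frattini P.2))
      · obtain ⟨a, rfl⟩ := hπ b
        exact ⟨a ^ p, Cfsg.Lib.PGroup.pow_mem_frattini P.2 a, map_pow π a p⟩
    obtain ⟨y, hy, hye⟩ := hle hfr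
    have h2 : (inclusion hPH y)⁻¹ * inclusion hPH X ∈ Cfsg.pResidual p ↥H :=
      QuotientGroup.eq.mp hye
    have h3 : (y : G) * ((y : G)⁻¹ * x) ∈ (frattini (P : Subgroup G)).map (P : Subgroup G).subtype ⊔
        ((Cfsg.pResidual p ↥H).map H.subtype ⊓ (P : Subgroup G)) :=
      mul_mem_sup ⟨y, hy, rfl⟩ ⟨⟨_, h2, rfl⟩, (P : Subgroup G).mul_mem ((P : Subgroup G).inv_mem y.2) hx.2⟩
    rwa [mul_inv_cancel_left] at h3)
  refine le_antisymm (le_inf (map_subtype_pResidual_le H) (map_subtype_le _)) fun y hy => ?_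
  obtain ⟨a, ha, m, hm, he⟩ := exists_mul_of_sylow (P.subtype hPH) (⟨y, hy.2⟩ : H)
  have hm' : (m : G) ∈ Cfsg.pResidualOf p H := ⟨m, hm, rfl⟩
  have hmG : (m : G) ∈ Cfsg.pResidual p G := map_subtype_pResidual_le H hm'
  have hy' : y = (a : G) * (m : G) := congrArg Subtype.val he
  have ha' : (a : G) ∈ Cfsg.pResidual p G ⊓ (P : Subgroup G) := by
    refine ⟨?_, mem_subgroupOf.mp ha⟩
    have h := (Cfsg.pResidual p G).mul_mem hy.1 ((Cfsg.pResidual p G).inv_mem hmG)
    rw [hy', mul_inv_cancel_right] at h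
    exact h
  rw [htate] at ha'
  rw [hy']
  exact mul_mem ha'.1 hm'

end Cfsg.Lib.Fusion.HallWielandt
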