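import Mathlib.GroupTheory.Sylow
import Mathlib.GroupTheory.Abelianization.Defs
import Mathlib.GroupTheory.PGroup
import Mathlib.GroupTheory.Nilpotent
import Mathlib.Data.Nat.Factorization.Basic

/-!
A `p`-group `P` acting on a group `V` of order prime to `p`: the product of the orders of the fixed point groups
of the elements of `P` is at most `|V| ^ (|P| / p) * |C_V(P)| ^ (|P| (1 - 1 / p))`.
-/

set_option autoImplicit false
set_option linter.style.haveILetI false

namespace Cfsg.Lib.CoprimeFixProduct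

open Subgroup Finset
open scoped commutatorElement Pointwise

universe u v

variable {P : Type u} [Group P] {V : Type v} [Group V]

/-- The fixed points of `x`. -/
def fixSub (φ : P →* MulAut V) (x : P) : Subgroup V :=
  MonoidHom.eqLocus (φ x).toMonoidHom (MonoidHom.id V)

/-- The fixed points of the whole group. -/
def fixAll (φ : P →* MulAut V) : Subgroup V := ⨅ x, fixSub φ x

theorem mem_fixSub {φ : P →* MulAut V} {x : P} {v : V} : v ∈ fixSub φ x ↔ φ x v = v := Iff.rfl

theorem mem_fixAll {φ : P →* MulAut V} {v : V} : v ∈ fixAll φ ↔ ∀ x, φ x v = v := by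
  simp only [fixAll, mem_iInf, mem_fixSub]

theorem map_mul_apply' (φ : P →* MulAut V) (a b : P) (v : V) : φ (a * b) v = φ a (φ b v) := by
  rw [map_mul, MulAut.mul_apply]

theorem map_one_apply' (φ : P →* MulAut V) (v : V) : φ 1 v = v := by rw [map_one, MulAut.one_apply]

/-- The action on an invariant subgroup. -/
def restrictHom (φ : P →* MulAut V) (M : Subgroup V) (hM : ∀ x : P, ∀ v ∈ M, φ x v ∈ M) : P →* MulAut M :=
  MonoidHom.mk' (fun x =>
    { toFun := fun v => ⟨φ x v, hM x v v.2⟩
      invFun := fun v => ⟨φ x⁻¹ v, hM x⁻¹ v v.2⟩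
      left_inv := fun v => Subtype.ext (by
        show φ x⁻¹ (φ x v) = v
        rw [← map_mul_apply', inv_mul_cancel, map_one_apply'])
      right_inv := fun v => Subtype.ext (by
        show φ x (φ x⁻¹ v) = v
        rw [← map_mul_apply', mul_inv_cancel, map_one_apply'])
      map_mul' := fun a b => Subtype.ext (map_mul (φ x) (a : V) (b : V)) })
    fun a b => MulEquiv.ext fun v => Subtype.ext (map_mul_apply' φ a b v)

theorem restrictHom_apply (φ : P →* MulAut V) (M : Subgroup V) (hM : ∀ x : P, ∀ v ∈ M, φ x v ∈ M) (x : P) (v : M) :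
    ((restrictHom φ M hM x v : M) : V) = φ x v := rfl

theorem fixSub_restrict (φ : P →* MulAut V) (M : Subgroup V) (hM : ∀ x : P, ∀ v ∈ M, φ x v ∈ M) (x : P) :
    Nat.card (fixSub (restrictHom φ M hM) x) = Nat.card ↥(fixSub φ x ⊓ M) := by
  rw [← card_map_of_injective M.subtype_injective]
  refine congrArg (fun K : Subgroup V => Nat.card K) ?_
  ext v
  simp only [Subgroup.mem_map, mem_inf, mem_fixSub]
  constructor
  · rintro ⟨w, hw, rfl⟩
    exact ⟨congrArg Subtype.val hw, w.2⟩
  · rintro ⟨hv, hvM⟩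
    exact ⟨⟨v, hvM⟩, Subtype.ext hv, rfl⟩

theorem fixAll_restrict (φ : P →* MulAut V) (M : Subgroup V) (hM : ∀ x : P, ∀ v ∈ M, φ x v ∈ M) :
    Nat.card (fixAll (restrictHom φ M hM)) = Nat.card ↥(fixAll φ ⊓ M) := by
  rw [← card_map_of_injective M.subtype_injective]
  refine congrArg (fun K : Subgroup V => Nat.card K) ?_
  ext v
  simp only [Subgroup.mem_map, mem_inf, mem_fixAll]
  constructor
  · rintro ⟨w, hw, rfl⟩
    exact ⟨fun x => congrArg Subtype.val (hw x), w.2⟩
  · rintro ⟨hv, hvM⟩
    exact ⟨⟨v, hvM⟩, fun x => Subtype.ext (hv x), rfl⟩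

/-- The inequality to be proved. -/
def Ineq (p : ℕ) [Fintype P] (φ : P →* MulAut V) : Prop :=
  (∏ x : P, Nat.card (fixSub φ x)) ^ p ≤
    Nat.card V ^ Fintype.card P * Nat.card (fixAll φ) ^ (Fintype.card P * (p - 1))

/-- The product over a full period is fixed. -/
theorem prod_range_fixed {W : Type v} [CommGroup W] (φ : P →* MulAut W) {a : P} {N : ℕ} (ha : a ^ N = 1) (w : W) :
    φ a (∏ m ∈ range N, φ (a ^ m) w) = ∏ m ∈ range N, φ (a ^ m) w := by
  rw [map_prod, prod_congr rfl fun m _ => (show φ a (φ (a ^ m) w) = φ (a ^ (m + 1)) w by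
    rw [← map_mul_apply', ← pow_succ'])]
  have h1 := prod_range_succ (fun m => φ (a ^ m) w) N
  have h2 := prod_range_succ' (fun m => φ (a ^ m) w) N
  rw [h1, ha, pow_zero] at h2
  exact (mul_right_cancel h2).symm

theorem abelian_aux {p : ℕ} [hp : Fact p.Prime] : ∀ (n : ℕ) {P : Type u} [Group P] [Fintype P] {W : Type v}
    [CommGroup W] [Finite W], Fintype.card P ≤ n → IsPGroup p P → ¬ p ∣ Nat.card W →
    ∀ φ : P →* MulAut W, Ineq p φ := by
  intro n
  induction n with
  | zero => intro P _ _ W _ _ h _ _ _; exact absurd h (not_le.mpr Fintype.card_pos)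
  | succ n ih =>
  intro P _ _ W _ _ hn hP hW φ
  classical
  rcases subsingleton_or_nontrivial P with hs | hs
  · have h1 : ∀ x : P, fixSub φ x = ⊤ := fun x => eq_top_iff.mpr fun v _ => by
      rw [mem_fixSub, Subsingleton.elim x 1, map_one_apply']
    have h2 : fixAll φ = ⊤ := eq_top_iff.mpr fun v _ => mem_fixAll.mpr fun x => mem_fixSub.mp (h1 x ▸ mem_top v)
    rw [Ineq, prod_congr rfl fun x _ => (show Nat.card (fixSub φ x) = Nat.card W by rw [h1 x, card_top]),
      prod_const, card_univ, h2, card_top, Fintype.card_le_one_iff_subsingleton.mpr hs |>.antisymm Fintype.card_pos,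
      pow_one, one_mul, ← pow_succ', Nat.sub_add_cancel hp.out.one_le]
  haveI : Nontrivial (center P) := hP.center_nontrivial
  obtain ⟨j, hj⟩ := IsPGroup.iff_card.mp (hP.to_subgroup (center P))
  have hpd : p ∣ Nat.card (center P) := by
    rw [hj]
    refine dvd_pow_self p fun h0 => ?_
    rw [h0, pow_zero] at hj
    exact absurd hj Finite.one_lt_card.ne'
  obtain ⟨⟨z, hzc⟩, hz⟩ := exists_prime_orderOf_dvd_card' p hpd
  rw [Subgroup.orderOf_mk] at hz
  have hcomm : ∀ a : P, a * z = z * a := fun a => mem_center_iff.mp hzc a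
  haveI : (zpowers z).Normal := ⟨fun x hx g => by
    rw [show g * x * g⁻¹ = x from ?_]
    · exact hx
    · rw [mem_center_iff.mp (zpowers_le.mpr hzc hx) g, mul_inv_cancel_right]⟩
  have hcardW : (Nat.card W).Coprime p := (hp.out.coprime_iff_not_dvd.mpr hW).symm
  have hroot : ∀ w : W, w ^ p = 1 → w = 1 := fun w h => by
    refine (powCoprime hcardW).injective ?_
    show w ^ p = (1 : W) ^ p
    rw [h, one_pow]
  have hzp : z ^ p = 1 := by rw [← hz]; exact pow_orderOf_eq_one z
  let e : W →* W :=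
    { toFun := fun v => ∏ m ∈ range p, φ (z ^ m) v
      map_one' := prod_eq_one fun m _ => map_one _
      map_mul' := fun a b => by rw [← prod_mul_distrib]; exact prod_congr rfl fun m _ => map_mul _ a b }
  have he : ∀ v, e v = ∏ m ∈ range p, φ (z ^ m) v := fun v => rfl
  set C := fixSub φ z with hCdef
  set K := e.ker with hKdef
  have heC : ∀ v, e v ∈ C := fun v => mem_fixSub.mpr (prod_range_fixed φ hzp v)
  have hCpow : ∀ v ∈ C, ∀ m : ℕ, φ (z ^ m) v = v := fun v hv m => by
    induction m with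
    | zero => rw [pow_zero, map_one_apply']
    | succ m ihm => rw [pow_succ, map_mul_apply', mem_fixSub.mp hv, ihm]
  have heCv : ∀ v ∈ C, e v = v ^ p := fun v hv => by
    rw [he, prod_congr rfl fun m _ => hCpow v hv m, prod_const, card_range]
  have hCK : ∀ v, v ∈ C → v ∈ K → v = 1 := fun v h1 h2 => hroot v ((heCv v h1).symm.trans h2)
  have hecomm : ∀ (x : P) (v : W), e (φ x v) = φ x (e v) := fun x v => by
    rw [he, he, map_prod]
    refine prod_congr rfl fun m _ => ?_
    rw [← map_mul_apply', ← map_mul_apply', ((show Commute x z from hcomm x).pow_right m).eq]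
  have hKinv : ∀ x : P, ∀ v ∈ K, φ x v ∈ K := fun x v hv => by
    rw [hKdef, MonoidHom.mem_ker, hecomm, MonoidHom.mem_ker.mp hv, map_one]
  have hCinv : ∀ x : P, ∀ v ∈ C, φ x v ∈ C := fun x v hv => by
    rw [hCdef, mem_fixSub, ← map_mul_apply', ← hcomm x, map_mul_apply', mem_fixSub.mp hv]
  have hsplit : ∀ F : Subgroup W, (∀ v ∈ F, e v ∈ F) →
      Nat.card F = Nat.card ↥(F ⊓ C) * Nat.card ↥(F ⊓ K) := by
    intro F hF
    have hr : (e.comp F.subtype).range = F ⊓ C := by
      refine le_antisymm ?_ fun v hv => ?_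
      · rintro _ ⟨v, rfl⟩
        exact mem_inf.mpr ⟨hF v v.2, heC v⟩
      · have hco : (Nat.card ↥(F ⊓ C)).Coprime p := hcardW.coprime_dvd_left (card_subgroup_dvd_card _)
        obtain ⟨u, hu⟩ := (powCoprime hco).surjective ⟨v, hv⟩
        refine ⟨⟨u.1, (mem_inf.mp u.2).1⟩, ?_⟩
        show e u.1 = v
        rw [heCv _ (mem_inf.mp u.2).2]
        exact congrArg Subtype.val hu
    have hk : Nat.card (e.comp F.subtype).ker = Nat.card ↥(F ⊓ K) := by
      rw [← card_map_of_injective F.subtype_injective]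
      refine congrArg (fun X : Subgroup W => Nat.card X) ?_
      ext v
      simp only [Subgroup.mem_map, mem_inf, MonoidHom.mem_ker]
      constructor
      · rintro ⟨w, hw, rfl⟩
        exact ⟨w.2, hw⟩
      · rintro ⟨hv, hvK⟩
        exact ⟨⟨v, hv⟩, hvK, rfl⟩
    rw [← card_mul_index (e.comp F.subtype).ker, index_ker, hr, hk, mul_comm]
  have hfix : ∀ x : P, Nat.card (fixSub φ x) = Nat.card ↥(fixSub φ x ⊓ C) * Nat.card ↥(fixSub φ x ⊓ K) :=
    fun x => hsplit _ fun v hv => by rw [mem_fixSub, ← hecomm, mem_fixSub.mp hv]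
  have hWsplit : Nat.card W = Nat.card C * Nat.card K := by
    have h := hsplit ⊤ fun v _ => mem_top _
    rwa [card_top, top_inf_eq, top_inf_eq] at h
  have hallC : fixAll φ ⊓ C = fixAll φ := inf_eq_left.mpr fun v hv => mem_fixSub.mpr (mem_fixAll.mp hv z)
  -- the part fixed by `z`
  let φC : P ⧸ zpowers z →* MulAut C := QuotientGroup.lift (zpowers z) (restrictHom φ C hCinv)
    (zpowers_le.mpr (MonoidHom.mem_ker.mpr (MulEquiv.ext fun v => Subtype.ext (mem_fixSub.mp v.2))))
  haveI := Fintype.ofFinite (P ⧸ zpowers z)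
  have hcardq : Fintype.card P = Fintype.card (P ⧸ zpowers z) * p := by
    rw [← Nat.card_eq_fintype_card, ← Nat.card_eq_fintype_card, card_eq_card_quotient_mul_card_subgroup (zpowers z),
      Nat.card_zpowers, hz]
  have hlt : Fintype.card (P ⧸ zpowers z) ≤ n := by
    have := hp.out.two_le
    have : 0 < Fintype.card (P ⧸ zpowers z) := Fintype.card_pos
    nlinarith
  have hCine := ih hlt (hP.to_quotient _) (fun h => hW (h.trans (card_subgroup_dvd_card C))) φC
  have hfC : ∀ x : P, Nat.card (fixSub φC (x : P ⧸ zpowers z)) = Nat.card ↥(fixSub φ x ⊓ C) := fun x => by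
    rw [← fixSub_restrict φ C hCinv x]
    rfl
  have hallfC : Nat.card (fixAll φC) = Nat.card (fixAll φ) := by
    rw [← hallC, ← fixAll_restrict φ C hCinv]
    refine congrArg (fun X : Subgroup C => Nat.card X) ?_
    ext v
    simp only [mem_fixAll]
    exact ⟨fun h x => h (x : P ⧸ zpowers z), fun h q => by
      obtain ⟨x, rfl⟩ := QuotientGroup.mk_surjective q
      exact h x⟩
  -- the coset decomposition
  have hcoset : Function.Bijective fun q : (P ⧸ zpowers z) × Fin p => q.1.out * z ^ (q.2 : ℕ) := by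
    refine (Fintype.bijective_iff_injective_and_card _).mpr ⟨?_, ?_⟩
    · rintro ⟨q, i⟩ ⟨q', i'⟩ h
      simp only at h
      have hq : q = q' := by
        have := congrArg (QuotientGroup.mk' (zpowers z)) h
        simp only [map_mul, QuotientGroup.mk'_apply, (QuotientGroup.eq_one_iff _).mpr (pow_mem (mem_zpowers z) _),
          mul_one, QuotientGroup.out_eq'] at this
        exact this
      subst hq
      refine Prod.ext rfl (Fin.ext ?_)
      exact pow_injOn_Iio_orderOf (hz.symm ▸ i.2) (hz.symm ▸ i'.2) (mul_left_cancel h)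
    · rw [Fintype.card_prod, Fintype.card_fin, hcardq]
  have hKine : ∀ x : P, ∏ i : Fin p, Nat.card ↥(fixSub φ (x * z ^ (i : ℕ)) ⊓ K) ≤ Nat.card K := by
    intro x
    let F : Fin p → Subgroup W := fun i => fixSub φ (x * z ^ (i : ℕ)) ⊓ K
    let Φ : (∀ i, F i) → K := fun w => ⟨∏ i, (w i : W), prod_mem fun i _ => (mem_inf.mp (w i).2).2⟩
    have hΦ : Function.Injective Φ := by
      intro a b hab
      have h1 : ∏ i, ((a i : W) * (b i : W)⁻¹) = 1 := by
        rw [prod_mul_distrib, prod_inv_distrib, mul_inv_eq_one]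
        exact congrArg Subtype.val hab
      funext j
      refine Subtype.ext (mul_inv_eq_one.mp ?_)
      set Q := Fintype.card P
      let N : W →* W :=
        { toFun := fun v => ∏ m ∈ range Q, φ ((x * z ^ (j : ℕ)) ^ m) v
          map_one' := prod_eq_one fun m _ => map_one _
          map_mul' := fun a b => by rw [← prod_mul_distrib]; exact prod_congr rfl fun m _ => map_mul _ a b }
      have hd : ∀ i, (a i : W) * (b i : W)⁻¹ ∈ F i := fun i => mul_mem (a i).2 (inv_mem (b i).2)
      have hNi : ∀ i, i ≠ j → N ((a i : W) * (b i : W)⁻¹) = 1 := by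
        intro i hij
        obtain ⟨hd1, hd2⟩ := mem_inf.mp (hd i)
        set d := (a i : W) * (b i : W)⁻¹
        set k := (j : ℕ) + p - (i : ℕ) with hk
        have hij' : (x * z ^ (j : ℕ)) = z ^ k * (x * z ^ (i : ℕ)) := by
          rw [← ((show Commute (x * z ^ (i : ℕ)) z from hcomm _).pow_right k).eq, mul_assoc, ← pow_add,
            show (i : ℕ) + k = j + p by omega, pow_add, hzp, mul_one]
        have hfixd : ∀ m : ℕ, φ ((x * z ^ (i : ℕ)) ^ m) d = d := fun m => by
          induction m with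
          | zero => rw [pow_zero, map_one_apply']
          | succ m ihm => rw [pow_succ, map_mul_apply', mem_fixSub.mp hd1, ihm]
        have hN : N d = ∏ m ∈ range Q, φ ((z ^ k) ^ m) d := by
          show ∏ m ∈ range Q, φ ((x * z ^ (j : ℕ)) ^ m) d = _
          refine prod_congr rfl fun m _ => ?_
          rw [hij', ((show Commute (x * z ^ (i : ℕ)) z from hcomm _).pow_right k).symm.mul_pow, map_mul_apply', hfixd]
        refine hCK _ ?_ (show ∏ m ∈ range Q, φ ((x * z ^ (j : ℕ)) ^ m) d ∈ K from prod_mem fun m _ => hKinv _ _ hd2)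
        have hzk : φ (z ^ k) (N d) = N d := by rw [hN]; exact prod_range_fixed φ pow_card_eq_one d
        have hkp : ¬ p ∣ k := by
          rintro ⟨c, hc⟩
          rcases c with _ | _ | c
          · omega
          · exact hij (Fin.ext (by omega))
          · have := Nat.mul_le_mul_left p (show 2 ≤ c + 1 + 1 by omega)
            omega
        obtain ⟨t, ht⟩ := exists_pow_eq_self_of_coprime (x := z) (n := k)
          (by rw [hz]; exact ((hp.out.coprime_iff_not_dvd).mpr hkp).symm)
        refine mem_fixSub.mpr ?_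
        rw [← ht]
        induction t with
        | zero => rw [pow_zero, map_one_apply']
        | succ t iht =>
          have : ∀ s : ℕ, φ ((z ^ k) ^ s) (N d) = N d := fun s => by
            induction s with
            | zero => rw [pow_zero, map_one_apply']
            | succ s ihs => rw [pow_succ, map_mul_apply', hzk, ihs]
          exact this _
      have h2 := congrArg N h1
      rw [map_prod, map_one, prod_eq_single_of_mem j (mem_univ j) (fun i _ hij => hNi i hij)] at h2
      obtain ⟨hd1, -⟩ := mem_inf.mp (hd j)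
      set d := (a j : W) * (b j : W)⁻¹
      have hfixd : ∀ m : ℕ, φ ((x * z ^ (j : ℕ)) ^ m) d = d := fun m => by
        induction m with
        | zero => rw [pow_zero, map_one_apply']
        | succ m ihm => rw [pow_succ, map_mul_apply', mem_fixSub.mp hd1, ihm]
      have hQ : (Nat.card W).Coprime Q := by
        obtain ⟨i, hi⟩ := IsPGroup.iff_card.mp hP
        rw [show Q = p ^ i by rw [← hi, Nat.card_eq_fintype_card]]
        exact hcardW.pow_right i
      refine (powCoprime hQ).injective ?_
      show d ^ Q = (1 : W) ^ Q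
      rw [one_pow, ← h2]
      show d ^ Q = ∏ m ∈ range Q, φ ((x * z ^ (j : ℕ)) ^ m) d
      rw [prod_congr rfl fun m _ => hfixd m, prod_const, card_range]
    have := Nat.card_le_card_of_injective Φ hΦ
    rwa [Nat.card_pi] at this
  have h1 : ∏ x : P, Nat.card ↥(fixSub φ x ⊓ C) = (∏ q, Nat.card (fixSub φC q)) ^ p := by
    rw [← Equiv.prod_comp (Equiv.ofBijective _ hcoset), Fintype.prod_prod_type, ← prod_pow]
    refine prod_congr rfl fun q _ => ?_
    rw [prod_congr rfl (g := fun _ => Nat.card (fixSub φC q)) fun i _ => ?_, prod_const, card_univ, Fintype.card_fin]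
    rw [Equiv.ofBijective_apply, ← hfC]
    congr 3
    rw [QuotientGroup.mk_mul, (QuotientGroup.eq_one_iff _).mpr (pow_mem (mem_zpowers z) _), mul_one,
      QuotientGroup.out_eq']
  have h2 : ∏ x : P, Nat.card ↥(fixSub φ x ⊓ K) ≤ Nat.card K ^ Fintype.card (P ⧸ zpowers z) := by
    rw [← Equiv.prod_comp (Equiv.ofBijective _ hcoset), Fintype.prod_prod_type, ← card_univ (α := P ⧸ zpowers z), ← prod_const]
    exact prod_le_prod' fun q _ => hKine q.out
  rw [Ineq, prod_congr rfl fun x _ => hfix x, prod_mul_distrib, mul_pow, h1, hWsplit, mul_pow]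
  have h3 := Nat.pow_le_pow_left hCine p
  have h4 := Nat.pow_le_pow_left h2 p
  simp only [mul_pow, ← pow_mul] at h3 ⊢
  rw [← hcardq, hallfC, mul_right_comm (Fintype.card (P ⧸ zpowers z)) (p - 1) p, ← hcardq] at h3
  rw [← pow_mul, ← hcardq] at h4
  rw [mul_right_comm]
  exact Nat.mul_le_mul h3 h4

variable {p : ℕ} [hp : Fact p.Prime]

/-- A fixed point in a finite set of order prime to `p`. -/
theorem exists_fixed_point {α : Type*} [Finite α] (hP : IsPGroup p P) (act : P → α → α) (h1 : ∀ a, act 1 a = a)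
    (h2 : ∀ x y a, act (x * y) a = act x (act y a)) (hα : ¬ p ∣ Nat.card α) : ∃ a, ∀ x, act x a = a := by
  letI : MulAction P α := { smul := act, one_smul := h1, mul_smul := h2 }
  exact hP.nonempty_fixed_point_of_prime_not_dvd_card α hα

theorem nilpotent_aux : ∀ (n : ℕ) {V : Type v} [Group V] [Finite V] [Group.IsNilpotent V] [Fintype P],
    Nat.card V ≤ n → IsPGroup p P → ¬ p ∣ Nat.card V → ∀ φ : P →* MulAut V, Ineq p φ := by
  intro n
  induction n with
  | zero => intro V _ _ _ _ h _ _ _; exact absurd h (not_le.mpr Nat.card_pos)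
  | succ n ih =>
  intro V _ _ _ _ hn hP hV φ
  classical
  by_cases hab : ∀ a b : V, a * b = b * a
  · letI : CommGroup V := { (inferInstance : Group V) with mul_comm := hab }
    exact abelian_aux (Fintype.card P) le_rfl hP hV φ
  set M := _root_.commutator V with hM
  have hMinv : ∀ x : P, ∀ v ∈ M, φ x v ∈ M := fun x v hv => by
    have := characteristic_iff_map_eq.mp (inferInstance : (_root_.commutator V).Characteristic) (φ x)
    have h2 : φ x v ∈ (_root_.commutator V).map (φ x).toMonoidHom := mem_map_of_mem _ hv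
    rwa [this] at h2
  have hMne : M ≠ ⊥ := fun h => hab fun a b => by
    have : ⁅a, b⁆ ∈ M := commutator_mem_commutator (mem_top a) (mem_top b)
    rw [h, mem_bot] at this
    exact commutatorElement_eq_one_iff_mul_comm.mp this
  haveI : Nontrivial V := by
    rcases subsingleton_or_nontrivial V with h | h
    · exact absurd (fun a b : V => Subsingleton.elim (a * b) (b * a)) hab
    · exact h
  have hMtop : M ≠ ⊤ := (Group.IsSolvable.commutator_lt_top_of_nontrivial V).ne
  let ψ : P →* MulAut (V ⧸ M) := MonoidHom.mk' (fun x => QuotientGroup.congr M M (φ x)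
      (characteristic_iff_map_eq.mp (inferInstance : (_root_.commutator V).Characteristic) (φ x)))
    fun a b => MulEquiv.ext fun q => by
      obtain ⟨v, rfl⟩ := QuotientGroup.mk_surjective q
      exact congrArg (fun t : V => (t : V ⧸ M)) (map_mul_apply' φ a b v)
  have hψ : ∀ x (v : V), ψ x (v : V ⧸ M) = ((φ x v : V) : V ⧸ M) := fun x v => rfl
  have hcard : Nat.card V = Nat.card (V ⧸ M) * Nat.card M := card_eq_card_quotient_mul_card_subgroup M
  have hM2 : 1 < Nat.card M := by
    haveI := (nontrivial_iff_ne_bot M).mpr hMne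
    exact Finite.one_lt_card
  have hQ2 : 1 < Nat.card (V ⧸ M) := by
    rw [← index_eq_card]
    exact one_lt_index_of_ne_top hMtop
  have hQpos : 0 < Nat.card (V ⧸ M) := Nat.card_pos
  have hMI := ih (V := M) (by nlinarith) hP (fun h => hV (h.trans (card_subgroup_dvd_card M))) (restrictHom φ M hMinv)
  have hQI := ih (V := V ⧸ M) (by nlinarith) hP (fun h => hV (hcard ▸ dvd_mul_of_dvd_left h _)) ψ
  have hsub : ∀ (F : Subgroup V), Nat.card F = Nat.card ↥(F.map (QuotientGroup.mk' M)) * Nat.card ↥(F ⊓ M) := fun F => by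
    rw [← relIndex_ker, QuotientGroup.ker_mk', ← inf_relIndex_right, inf_comm, mul_comm, ← relIndex_bot_left,
      ← relIndex_bot_left, relIndex_mul_relIndex ⊥ (F ⊓ M) F bot_le inf_le_left]
  have hx : ∀ x, Nat.card (fixSub φ x) ≤ Nat.card (fixSub ψ x) * Nat.card (fixSub (restrictHom φ M hMinv) x) := by
    intro x
    rw [hsub, fixSub_restrict]
    refine Nat.mul_le_mul_right _ (Subgroup.card_le_of_le ?_)
    rintro _ ⟨v, hv, rfl⟩
    exact mem_fixSub.mpr ((hψ x v).trans (congrArg _ (mem_fixSub.mp hv)))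
  have hall : Nat.card (fixAll φ) = Nat.card (fixAll ψ) * Nat.card (fixAll (restrictHom φ M hMinv)) := by
    rw [hsub, fixAll_restrict]
    congr 1
    refine congrArg (fun X : Subgroup (V ⧸ M) => Nat.card X) ?_
    refine le_antisymm ?_ fun q hq => ?_
    · rintro _ ⟨v, hv, rfl⟩
      exact mem_fixAll.mpr fun x => (hψ x v).trans (congrArg _ (mem_fixAll.mp hv x))
    · obtain ⟨v, rfl⟩ := QuotientGroup.mk_surjective q
      rw [mem_fixAll] at hq
      have hmem : ∀ (x : P) (w : V), (w : V ⧸ M) = v → ((φ x w : V) : V ⧸ M) = v := fun x w hw => by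
        rw [← hψ, hw]; exact hq x
      obtain ⟨⟨w, hw⟩, hfw⟩ := exists_fixed_point (α := {w : V // (w : V ⧸ M) = v}) hP
        (fun x w => ⟨φ x w.1, hmem x w.1 w.2⟩) (fun w => Subtype.ext (map_one_apply' φ w.1))
        (fun x y w => Subtype.ext (map_mul_apply' φ x y w.1)) (fun h => hV (h.trans (dvd_trans (dvd_of_eq
          (Nat.card_congr { toFun := fun w => ⟨v⁻¹ * w.1, QuotientGroup.eq.mp w.2.symm⟩
                            invFun := fun m => ⟨v * m.1, (QuotientGroup.eq.mpr (by simpa using m.2)).symm⟩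
                            left_inv := fun w => Subtype.ext (mul_inv_cancel_left _ _)
                            right_inv := fun m => Subtype.ext (inv_mul_cancel_left _ _) }))
          (card_subgroup_dvd_card M))))
      exact ⟨w, mem_fixAll.mpr fun x => congrArg Subtype.val (hfw x), hw⟩
  rw [Ineq] at hMI hQI ⊢
  rw [hcard, hall, mul_pow, mul_pow]
  refine le_trans (Nat.pow_le_pow_left (prod_le_prod' fun x _ => hx x) p) ?_
  rw [prod_mul_distrib, mul_pow]
  exact (Nat.mul_le_mul hQI hMI).trans (le_of_eq (mul_mul_mul_comm _ _ _ _))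

/-- An invariant Sylow subgroup. -/
theorem exists_invariant_sylow [Finite V] (hP : IsPGroup p P) (hV : ¬ p ∣ Nat.card V) (φ : P →* MulAut V)
    (r : ℕ) [Fact r.Prime] : ∃ R : Sylow r V, ∀ x : P, ∀ v ∈ (R : Subgroup V), φ x v ∈ (R : Subgroup V) := by
  letI : MulDistribMulAction P V := MulDistribMulAction.compHom V φ
  obtain ⟨R, hR⟩ := hP.nonempty_fixed_point_of_prime_not_dvd_card (Sylow r V)
    (fun h => hV (h.trans ((Sylow.card_dvd_index (Classical.arbitrary (Sylow r V))).trans (index_dvd_card _))))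
  refine ⟨R, fun x v hv => ?_⟩
  open scoped Pointwise in
  have h1 : x • v ∈ ((x • R : Sylow r V) : Subgroup V) := by
    rw [Sylow.pointwise_smul_def]
    exact smul_mem_pointwise_smul _ _ _ hv
  rw [hR x] at h1
  exact h1

/-- The fixed points of `x` have no more `r`-part than those in an invariant Sylow `r`-subgroup. -/
theorem pow_factorization_le [Finite V] (hP : IsPGroup p P) (hV : ¬ p ∣ Nat.card V) (φ : P →* MulAut V) (x : P)
    {r : ℕ} [hr : Fact r.Prime] (R : Sylow r V) (hR : ∀ v ∈ (R : Subgroup V), φ x v ∈ (R : Subgroup V)) :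
    r ^ (Nat.card (fixSub φ x)).factorization r ≤ Nat.card ↥(fixSub φ x ⊓ (R : Subgroup V)) := by
  classical
  set χ : zpowers x →* MulAut V := φ.comp (zpowers x).subtype with hχ
  have hinvZ : ∀ (T : Subgroup V), (∀ v ∈ T, φ x v ∈ T) → ∀ (y : zpowers x), ∀ v ∈ T, χ y v ∈ T := by
    intro T hT y v hv
    obtain ⟨i, hi⟩ := mem_zpowers_iff.mp y.2
    haveI := Fintype.ofFinite T
    have hbij : ∀ v, v ∈ T ↔ φ x v ∈ T := fun v => ⟨hT v, fun h => by
      obtain ⟨⟨w, hw⟩, he⟩ := (Finite.injective_iff_surjective.mp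
        (show Function.Injective (fun w : T => (⟨φ x w, hT w w.2⟩ : T)) from fun a b h => Subtype.ext
          ((φ x).injective (congrArg Subtype.val h)))) ⟨φ x v, h⟩
      rwa [← (φ x).injective (congrArg Subtype.val he)]⟩
    show φ (y : P) v ∈ T
    rw [← hi]
    clear hi
    induction i using Int.induction_on generalizing v with
    | zero => rwa [zpow_zero, map_one_apply']
    | succ k ihk =>
      rw [zpow_add_one, map_mul_apply']
      exact ihk _ (hT v hv)
    | pred k ihk =>
      rw [zpow_sub_one, map_mul_apply']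
      refine ihk _ ((hbij _).mpr ?_)
      rwa [← map_mul_apply', mul_inv_cancel, map_one_apply']
  obtain ⟨S⟩ : Nonempty (Sylow r (fixSub φ x)) := inferInstance
  set S' := (S : Subgroup (fixSub φ x)).map (fixSub φ x).subtype with hS'
  have hS'fix : ∀ v ∈ S', φ x v = v := by
    rintro _ ⟨w, -, rfl⟩
    exact w.2
  obtain ⟨T, ⟨hT, hST, hTx⟩, hTmax⟩ := Set.Finite.exists_maximal
    (s := {T : Subgroup V | IsPGroup r T ∧ S' ≤ T ∧ ∀ v ∈ T, φ x v ∈ T}) (Set.toFinite _)
    ⟨S', S.isPGroup'.map _, le_rfl, fun v hv => by rwa [hS'fix v hv]⟩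
  -- `T` is a Sylow subgroup
  have hTN : ∀ (y : zpowers x), ∀ v ∈ normalizer (T : Set V), χ y v ∈ normalizer (T : Set V) := by
    intro y v hv
    have hmap : T.map (χ y).toMonoidHom = T := by
      refine eq_of_le_of_card_ge ?_ (card_map_of_injective (χ y).injective).ge
      rintro _ ⟨w, hw, rfl⟩
      exact hinvZ T hTx y w hw
    have h1 : χ y v ∈ (normalizer (T : Set V)).map (χ y).toMonoidHom := mem_map_of_mem _ hv
    rwa [map_equiv_normalizer_eq, hmap] at h1
  obtain ⟨Q, hQ⟩ := exists_invariant_sylow (V := normalizer (T : Set V)) (hP.to_subgroup (zpowers x))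
    (fun h => hV (h.trans (card_subgroup_dvd_card _))) (restrictHom χ (normalizer (T : Set V)) hTN) r
  set Q' := (Q : Subgroup ↥(normalizer (T : Set V))).map (normalizer (T : Set V)).subtype with hQ'
  have hTQ : T ≤ Q' := by
    haveI : (T.subgroupOf (normalizer (T : Set V))).Normal := normal_in_normalizer
    have h1 := IsPGroup.to_sup_of_normal_left (hT.of_equiv (subgroupOfEquivOfLe le_normalizer).symm) Q.isPGroup'
    have h2 := Q.is_maximal' h1 le_sup_right
    intro v hv
    exact ⟨⟨v, le_normalizer hv⟩, h2 ▸ mem_sup_left (mem_subgroupOf.mpr hv), rfl⟩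
  have hQT : Q' = T := by
    refine le_antisymm (hTmax ⟨Q.isPGroup'.map _, hST.trans hTQ, ?_⟩ hTQ) hTQ
    rintro _ ⟨w, hw, rfl⟩
    exact ⟨_, hQ ⟨x, mem_zpowers x⟩ w hw, rfl⟩
  obtain ⟨T₀, hT₀⟩ := hT.exists_le_sylow
  have hTeq : T = (T₀ : Subgroup V) := by
    by_contra hne
    haveI := (T₀.isPGroup').isNilpotent
    have hlt : T.subgroupOf T₀ < ⊤ := lt_top_iff_ne_top.mpr fun h =>
      hne (le_antisymm hT₀ (subgroupOf_eq_top.mp h))
    obtain ⟨w, hw, hwT⟩ := SetLike.exists_of_lt (Group.normalizerCondition_of_isNilpotent _ hlt)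
    rw [← subgroupOf_normalizer_eq hT₀, mem_subgroupOf] at hw
    have h1 : IsPGroup r ((T₀ : Subgroup V).subgroupOf (normalizer (T : Set V))) := T₀.isPGroup'.comap_subtype
    have hle : (Q : Subgroup ↥(normalizer (T : Set V))) ≤ (T₀ : Subgroup V).subgroupOf (normalizer (T : Set V)) :=
      fun q hq => mem_subgroupOf.mpr (hT₀ (by
        have h3 : (q : V) ∈ Q' := mem_map_of_mem (normalizer (T : Set V)).subtype hq
        rw [hQT] at h3
        exact h3))
    have h2 := Q.is_maximal' h1 hle
    refine hwT (mem_subgroupOf.mpr ?_)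
    rw [← hQT]
    exact ⟨⟨w, hw⟩, h2 ▸ mem_subgroupOf.mpr w.2, rfl⟩
  obtain ⟨g₀, hg₀⟩ := MulAction.exists_smul_eq V T₀ R
  have hact : ∀ (y : zpowers x) (g : V), g • T₀ = R → χ y g • T₀ = R := by
    intro y g hg
    have he : ∀ g : V, ((g • T₀ : Sylow r V) : Subgroup V) = (T₀ : Subgroup V).map (MulAut.conj g).toMonoidHom :=
      fun g => by rw [Sylow.coe_subgroup_smul]; rfl
    refine Sylow.ext ((χ y g • T₀).is_maximal' R.isPGroup' ?_).symm
    rw [he]
    rintro _ ⟨t, ht, rfl⟩
    obtain ⟨t', ht', hte⟩ : ∃ t' ∈ T, χ y t' = t := by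
      obtain ⟨⟨w, hw⟩, he⟩ := (Finite.injective_iff_surjective.mp
        (show Function.Injective (fun w : T => (⟨χ y w, hinvZ T hTx y w w.2⟩ : T)) from fun a b h => Subtype.ext
          ((χ y).injective (congrArg Subtype.val h)))) ⟨t, hTeq ▸ ht⟩
      exact ⟨w, hw, congrArg Subtype.val he⟩
    show χ y g * t * (χ y g)⁻¹ ∈ (R : Subgroup V)
    rw [← hte, ← map_mul, ← map_inv, ← map_mul]
    refine hinvZ _ hR y _ ?_
    rw [← hg, he]
    exact mem_map_of_mem _ (hTeq ▸ ht')
  obtain ⟨⟨g, hg⟩, hgfix⟩ := exists_fixed_point (α := {g : V // g • T₀ = R}) (hP.to_subgroup (zpowers x))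
    (fun y g => ⟨χ y g.1, hact y g.1 g.2⟩) (fun g => Subtype.ext (map_one_apply' χ g.1))
    (fun y y' g => Subtype.ext (map_mul_apply' χ y y' g.1)) (fun h => hV (h.trans (dvd_trans (dvd_of_eq
      (Nat.card_congr { toFun := fun g => (⟨g₀⁻¹ * g.1, Sylow.smul_eq_iff_mem_normalizer.mp (by
                            rw [mul_smul, g.2, ← hg₀, inv_smul_smul])⟩ : normalizer ((T₀ : Subgroup V) : Set V))
                        invFun := fun m => ⟨g₀ * m.1, by rw [mul_smul, Sylow.smul_eq_iff_mem_normalizer.mpr m.2, hg₀]⟩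
                        left_inv := fun g => Subtype.ext (mul_inv_cancel_left _ _)
                        right_inv := fun m => Subtype.ext (inv_mul_cancel_left _ _) }))
      (card_subgroup_dvd_card _))))
  rw [← S.card_eq_multiplicity, ← card_map_of_injective (fixSub φ x).subtype_injective, ← hS',
    ← card_map_of_injective (K := S') (f := (MulAut.conj g).toMonoidHom) (MulAut.conj g).injective]
  refine card_le_of_le ?_
  rintro _ ⟨s, hs, rfl⟩
  refine mem_inf.mpr ⟨?_, ?_⟩
  · refine mul_mem (mul_mem ?_ (hS'fix s hs)) (inv_mem ?_) <;>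
      exact congrArg Subtype.val (hgfix ⟨x, mem_zpowers x⟩)
  · rw [← hg, Sylow.coe_subgroup_smul]
    exact smul_mem_pointwise_smul _ _ _ (hTeq ▸ hST hs)

/-- The inequality for a coprime action. -/
theorem ineq [Finite V] [Fintype P] (hP : IsPGroup p P) (hV : ¬ p ∣ Nat.card V) (φ : P →* MulAut V) : Ineq p φ := by
  classical
  have hR : ∀ r : (Nat.card V).primeFactors, ∃ R : Subgroup V, (∀ x : P, ∀ v ∈ R, φ x v ∈ R) ∧
      Group.IsNilpotent R ∧ Nat.card R = (r : ℕ) ^ (Nat.card V).factorization r ∧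
      ∀ x, (r : ℕ) ^ (Nat.card (fixSub φ x)).factorization r ≤ Nat.card ↥(fixSub φ x ⊓ R) := fun r => by
    haveI : Fact (r : ℕ).Prime := ⟨Nat.prime_of_mem_primeFactors r.2⟩
    obtain ⟨R, hR⟩ := exists_invariant_sylow hP hV φ r
    exact ⟨R, hR, R.isPGroup'.isNilpotent, R.card_eq_multiplicity, fun x => pow_factorization_le hP hV φ x R (hR x)⟩
  choose R hinv hnil hcard hle using hR
  have hV0 : Nat.card V ≠ 0 := Nat.card_pos.ne'
  have hprod : ∀ F : Subgroup V,
      ∏ r : (Nat.card V).primeFactors, (r : ℕ) ^ (Nat.card F).factorization r = Nat.card F := fun F => by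
    rw [prod_coe_sort (Nat.card V).primeFactors fun r => r ^ (Nat.card F).factorization r]
    conv_rhs => rw [← Nat.factorization_prod_pow_eq_self (Nat.card_pos (α := F)).ne']
    rw [Finsupp.prod, Nat.support_factorization]
    refine (prod_subset (Nat.primeFactors_mono (card_subgroup_dvd_card F) hV0) fun r hr hr' => ?_).symm
    rw [Finsupp.notMem_support_iff.mp (by rwa [Nat.support_factorization]), pow_zero]
  have hVprod : ∏ r : (Nat.card V).primeFactors, Nat.card (R r) = Nat.card V := by
    rw [prod_congr rfl fun r _ => hcard r]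
    simpa only [card_top] using hprod ⊤
  have hall : ∏ r : (Nat.card V).primeFactors, Nat.card ↥(fixAll φ ⊓ R r) ≤ Nat.card (fixAll φ) := by
    refine Nat.le_of_dvd Nat.card_pos ?_
    have key : ∀ s : Finset (Nat.card V).primeFactors, (∀ r ∈ s, ∀ t ∈ s, r ≠ t →
        (Nat.card ↥(fixAll φ ⊓ R r)).Coprime (Nat.card ↥(fixAll φ ⊓ R t))) →
        ∏ r ∈ s, Nat.card ↥(fixAll φ ⊓ R r) ∣ Nat.card (fixAll φ) := by
      intro s
      induction s using Finset.induction with
      | empty => intro _; rw [prod_empty]; exact one_dvd _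
      | @insert a s has ih =>
        intro hs
        rw [prod_insert has]
        exact Nat.Coprime.mul_dvd_of_dvd_of_dvd (Nat.Coprime.prod_right fun t ht =>
          hs a (mem_insert_self a s) t (mem_insert_of_mem ht) (fun h => has (h ▸ ht)))
          (card_dvd_of_le inf_le_left) (ih fun r hr t ht => hs r (mem_insert_of_mem hr) t (mem_insert_of_mem ht))
    refine key univ fun r _ s _ hrs => ?_
    have hd : ∀ t, Nat.card ↥(fixAll φ ⊓ R t) ∣ (t : ℕ) ^ (Nat.card V).factorization t := fun t =>
      hcard t ▸ card_dvd_of_le inf_le_right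
    refine (Nat.Coprime.coprime_dvd_left (hd r) ?_).coprime_dvd_right (hd s)
    exact Nat.Coprime.pow _ _ ((Nat.coprime_primes (Nat.prime_of_mem_primeFactors r.2)
      (Nat.prime_of_mem_primeFactors s.2)).mpr fun h => hrs (Subtype.ext h))
  have hI : ∀ r, (∏ x : P, Nat.card ↥(fixSub φ x ⊓ R r)) ^ p ≤
      Nat.card (R r) ^ Fintype.card P * Nat.card ↥(fixAll φ ⊓ R r) ^ (Fintype.card P * (p - 1)) := fun r => by
    haveI := hnil r
    have := nilpotent_aux (Nat.card (R r)) le_rfl hP (fun h => hV (h.trans (card_subgroup_dvd_card _)))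
      (restrictHom φ (R r) (hinv r))
    simpa only [Ineq, fixSub_restrict, fixAll_restrict] using this
  calc (∏ x : P, Nat.card (fixSub φ x)) ^ p
      ≤ (∏ x : P, ∏ r, Nat.card ↥(fixSub φ x ⊓ R r)) ^ p :=
        Nat.pow_le_pow_left (prod_le_prod' fun x _ => (hprod _).symm.trans_le (prod_le_prod' fun r _ => hle r x)) p
    _ = ∏ r, (∏ x : P, Nat.card ↥(fixSub φ x ⊓ R r)) ^ p := by rw [prod_comm, prod_pow]
    _ ≤ ∏ r, Nat.card (R r) ^ Fintype.card P * Nat.card ↥(fixAll φ ⊓ R r) ^ (Fintype.card P * (p - 1)) :=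
        prod_le_prod' fun r _ => hI r
    _ ≤ _ := by
        rw [prod_mul_distrib, prod_pow, prod_pow, hVprod]
        exact Nat.mul_le_mul_left _ (Nat.pow_le_pow_left hall _)

end Cfsg.Lib.CoprimeFixProduct
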