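import Cfsg.Agent.Lib.Fusion.Jordan
import Cfsg.Agent.Lib.Fusion.Abelian
import Cfsg.Agent.Lib.Core.Basic
import Mathlib.GroupTheory.Perm.Centralizer
import Mathlib.GroupTheory.SpecificGroups.Alternating
import Mathlib.Tactic.NormNum.GCD
import Mathlib.Tactic.NormNum.Prime
import Mathlib.Tactic.IntervalCases
import Mathlib.FieldTheory.Finite.Basic

/-!
# Primitive groups of degree 13 with an 11-cycle

They contain the alternating group.
-/

set_option autoImplicit false
set_option linter.style.haveILetI false

namespace Cfsg.Lib.Fusion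

open Equiv Equiv.Perm MulAction

variable {α : Type*} [Fintype α] [DecidableEq α]

theorem card_perm_thirteen (h13 : Fintype.card α = 13) (G : Subgroup (Perm α)) :
    Nat.card G ∣ 6227020800 := by
  refine (Subgroup.card_subgroup_dvd_card G).trans (dvd_of_eq ?_)
  rw [Nat.card_perm, Nat.card_eq_fintype_card, h13]
  rfl

theorem cycle_of_order_eleven (h13 : Fintype.card α = 13) {v : Perm α} (hv : orderOf v = 11) :
    v.IsCycle ∧ v.support.card = 11 := by
  obtain ⟨n, hn⟩ := cycleType_prime_order (σ := v) (by rw [hv]; norm_num)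
  rw [hv] at hn
  have hs : v.support.card = (n + 1) * 11 := by
    rw [← sum_cycleType, hn, Multiset.sum_replicate, smul_eq_mul]
  have hle := v.support.card_le_univ
  have hn0 : n = 0 := by omega
  subst hn0
  exact ⟨card_cycleType_eq_one.mp (by rw [hn]; simp), by omega⟩

/-- An element inverting an 11-cycle and fixing both other points is odd. -/
theorem sign_of_inverting {g n : Perm α} (hg : g.IsCycle) (hcard : g.support.card = 11)
    (hout : ∀ x, x ∉ g.support → n x = x) (hinv : n * g * n⁻¹ = g⁻¹) : sign n = -1 := by
  classical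
  have hord : orderOf g = 11 := by rw [hg.orderOf, hcard]
  have hconj : ∀ (j : ℤ) (x : α), n ((g ^ j) x) = (g ^ (-j)) (n x) := by
    intro j x
    have h1 : n * g ^ j * n⁻¹ = g ^ (-j) := by rw [← conj_zpow, hinv, inv_zpow, zpow_neg]
    rw [← h1]
    simp
  have hpres : ∀ x, x ∈ g.support → n x ∈ g.support := by
    intro x hx
    by_contra h
    exact h (by rw [n.injective (hout _ h)]; exact hx)
  obtain ⟨z0, hz0⟩ := Finset.card_pos.mp (show 0 < g.support.card by omega)
  obtain ⟨l, hl⟩ := hg.exists_pow_eq (mem_support.mp hz0) (mem_support.mp (hpres z0 hz0))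
  have hzp : ∀ i j : ℤ, (i - j) % 11 = 0 → g ^ i = g ^ j := by
    intro i j h
    rw [zpow_eq_zpow_iff_modEq, hord]
    rw [Int.modEq_iff_dvd]
    push_cast
    omega
  set z1 := (g ^ (6 * (l : ℤ))) z0 with hz1
  have hfix : n z1 = z1 := by
    rw [hz1, hconj, ← hl, ← zpow_natCast, ← Perm.mul_apply, ← zpow_add]
    rw [hzp (-(6 * (l : ℤ)) + l) (6 * l) (by omega)]
  have hz1s : z1 ∈ g.support := by rw [hz1, zpow_apply_mem_support]; exact hz0
  have horb : ∀ x, x ∈ g.support → ∃ j : ℕ, (g ^ j) z1 = x := fun x hx =>
    hg.exists_pow_eq (mem_support.mp hz1s) (mem_support.mp hx)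
  have hsq : n * n = 1 := by
    ext x
    by_cases hx : x ∈ g.support
    · obtain ⟨j, rfl⟩ := horb x hx
      rw [Perm.mul_apply, ← zpow_natCast, hconj, hfix, hconj, hfix, neg_neg, Perm.one_apply]
    · rw [Perm.mul_apply, hout x hx, hout x hx, Perm.one_apply]
  have hsupp : n.support = g.support.erase z1 := by
    ext x
    rw [Finset.mem_erase, mem_support]
    constructor
    · intro h
      exact ⟨fun he => h (he ▸ hfix), by_contra fun hx => h (hout x hx)⟩
    · rintro ⟨hne, hx⟩ h
      obtain ⟨j, rfl⟩ := horb x hx
      rw [← zpow_natCast, hconj, hfix] at h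
      have h2 : (g ^ ((2 : ℤ) * j)) z1 = z1 := by
        rw [two_mul, zpow_add, Perm.mul_apply]
        have := congrArg (g ^ (j : ℤ)) h
        rw [← Perm.mul_apply, ← zpow_add, add_neg_cancel, zpow_zero, Perm.one_apply] at this
        exact this.symm
      have h3 : g ^ ((2 : ℤ) * j) = 1 := by
        rw [show ((2 : ℤ) * j) = ((2 * j : ℕ) : ℤ) by push_cast; ring, zpow_natCast] at h2 ⊢
        exact hg.pow_eq_one_iff.mpr ⟨z1, mem_support.mp hz1s, h2⟩
      rw [← orderOf_dvd_iff_zpow_eq_one, hord] at h3
      have h4 : 11 ∣ j := by omega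
      rw [← hord, orderOf_dvd_iff_pow_eq_one] at h4
      exact hne (by rw [h4, Perm.one_apply])
  have hcard10 : n.support.card = 10 := by rw [hsupp, Finset.card_erase_of_mem hz1s, hcard]
  have hord2 : orderOf n = 2 := orderOf_eq_prime (by rw [pow_two, hsq]) (fun h => by
    rw [h, support_one, Finset.card_empty] at hcard10; omega)
  obtain ⟨k, hk⟩ := cycleType_prime_order (σ := n) (by rw [hord2]; norm_num)
  rw [hord2] at hk
  have hsum : (k + 1) * 2 = 10 := by
    rw [← hcard10, ← sum_cycleType, hk, Multiset.sum_replicate, smul_eq_mul]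
  obtain rfl : k = 4 := by omega
  rw [sign_of_cycleType, hk]
  decide

/-- A primitive group of even permutations of degree 13 containing an 11-cycle contains all even
permutations. -/
theorem alternatingGroup_le_of_degree_thirteen {G : Subgroup (Perm α)}
    (h13 : Fintype.card α = 13) (hG : IsPreprimitive G α) (hGA : G ≤ alternatingGroup α)
    {g : Perm α} (hgc : g.IsCycle) (hgp : g.support.card = 11) (hg : g ∈ G) :
    alternatingGroup α ≤ G := by
  classical
  haveI : Fact (Nat.Prime 11) := ⟨by norm_num⟩
  haveI : Fact (Nat.Prime 5) := ⟨by norm_num⟩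
  have hord : orderOf g = 11 := by rw [hgc.orderOf, hgp]
  have hGc := card_perm_thirteen h13 G
  have hs : Set.ncard ((g.support : Set α)ᶜ) = 1 + 1 := by
    rw [Set.ncard_compl, Set.ncard_coe_finset, hgp, Nat.card_eq_fintype_card, h13]
  haveI := isPretransitive_of_isCycle_mem hgc hg
  have hprim : IsPreprimitive (fixingSubgroup G (g.support : Set α)ᶜ)
      (SubMulAction.ofFixingSubgroup G (g.support : Set α)ᶜ) := by
    refine IsPreprimitive.of_prime_card ?_
    have : Nat.card (SubMulAction.ofFixingSubgroup G (g.support : Set α)ᶜ) = 11 := by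
      rw [← hgp, ← Nat.card_eq_finsetCard]
      exact Nat.card_congr (Equiv.subtypeEquivRight fun x => by
        simp [SubMulAction.mem_ofFixingSubgroup_iff])
    rw [this]; norm_num
  haveI h3t : IsMultiplyPretransitive G α 3 :=
    (hG.isMultiplyPreprimitive hs (by rw [Nat.card_eq_fintype_card, h13]; norm_num)
      hprim).isMultiplyPretransitive
  by_cases h5 : 5 ∣ Nat.card G
  · -- an element of order `5`
    obtain ⟨u', hu'⟩ := exists_prime_orderOf_dvd_card' 5 h5
    set u : Perm α := (u' : Perm α) with hudef
    have hu : orderOf u = 5 := by rw [hudef, Subgroup.orderOf_coe, hu']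
    obtain ⟨n, hn⟩ := cycleType_prime_order (σ := u) (by rw [hu]; norm_num)
    rw [hu] at hn
    have hsum : u.support.card = (n + 1) * 5 := by
      rw [← sum_cycleType, hn, Multiset.sum_replicate, smul_eq_mul]
    have hle := u.support.card_le_univ
    rcases (show n = 0 ∨ n = 1 by omega) with rfl | rfl
    · exact alternatingGroup_le_of_prime_cycle hG (p := 5) (by norm_num) (by omega)
        (card_cycleType_eq_one.mp (by rw [hn]; simp)) (by omega) u'.2
    by_cases h25 : 5 ^ 2 ∣ Nat.card G
    · -- a Sylow `5`-subgroup contains a single 5-cycle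
      set C := Subgroup.centralizer ({u} : Set (Perm α)) with hC
      have hCc : Nat.card C = 300 := by
        rw [hC, nat_card_centralizer, hn, h13]
        rfl
      have hz : IsPGroup 5 (Subgroup.zpowers u') :=
        IsPGroup.of_card (n := 1) (by rw [Nat.card_zpowers, hu', pow_one])
      obtain ⟨S, hS⟩ := hz.exists_le_sylow
      obtain ⟨e, he⟩ := IsPGroup.iff_card.mp S.2
      have he2 : Nat.card (S : Subgroup G) = 5 ^ 2 := by
        rw [he]
        have h1 : 5 ^ 2 ∣ Nat.card (S : Subgroup G) := Sylow.pow_dvd_card_of_pow_dvd_card (G := G) S h25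
        rw [he, Nat.pow_dvd_pow_iff_le_right (by norm_num)] at h1
        have h2 : 5 ^ e ∣ 6227020800 := he ▸ (Subgroup.card_subgroup_dvd_card _).trans hGc
        by_contra hne
        have he3 : 3 ≤ e := by
          rcases Nat.lt_or_ge e 3 with h | h
          · exact absurd (by rw [show e = 2 by omega]) hne
          · exact h
        have := (pow_dvd_pow 5 he3).trans h2
        norm_num at this
      haveI : IsMulCommutative (S : Subgroup G) := IsPGroup.isMulCommutative_of_card_eq_prime_sq he2
      set S₀ : Subgroup (Perm α) := (S : Subgroup G).map G.subtype with hS₀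
      have hSC : S₀ ≤ C := by
        rintro x ⟨y, hy, rfl⟩
        rw [hC, Subgroup.mem_centralizer_singleton_iff]
        have := setLike_mul_comm hy (hS (Subgroup.mem_zpowers u'))
        exact congrArg Subtype.val this
      have hS₀c : Nat.card S₀ = 5 ^ 2 := by
        rw [hS₀, Subgroup.card_map_of_injective G.subtype_injective, he2]
      let T : Sylow 5 C := Sylow.ofCard (S₀.subgroupOf C) (by
        rw [Nat.card_congr (Subgroup.subgroupOfEquivOfLe hSC).toEquiv, hS₀c, hCc,
          show (300 : ℕ) = 5 ^ 2 * 12 by norm_num, Nat.factorization_mul (by norm_num) (by norm_num),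
          Finsupp.add_apply, Nat.Prime.factorization_pow (by norm_num),
          Nat.factorization_eq_zero_of_not_dvd (show ¬ 5 ∣ 12 by norm_num)]
        simp)
      obtain ⟨c, hc⟩ : u.cycleFactorsFinset.Nonempty := by
        rw [← Finset.card_pos]
        have : Multiset.card u.cycleType = u.cycleFactorsFinset.card := by
          rw [cycleType_def, Multiset.card_map]; rfl
        rw [← this, hn, Multiset.card_replicate]; norm_num
      have hcc := (mem_cycleFactorsFinset_iff.mp hc).1
      have hc5 : c.support.card = 5 := by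
        have : c.support.card ∈ u.cycleType := by
          rw [cycleType_def]; exact Multiset.mem_map.mpr ⟨c, hc, rfl⟩
        rw [hn] at this
        exact Multiset.eq_of_mem_replicate this
      have hcC : c ∈ C := by
        rw [hC, Subgroup.mem_centralizer_singleton_iff]
        exact ((self_mem_cycle_factors_commute hc).eq)
      have hzc : IsPGroup 5 (Subgroup.zpowers (⟨c, hcC⟩ : C)) :=
        IsPGroup.of_card (n := 1) (by
          rw [Nat.card_zpowers, Subgroup.orderOf_mk, hcc.orderOf, hc5, pow_one])
      obtain ⟨T', hT'⟩ := hzc.exists_le_sylow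
      obtain ⟨k, hk⟩ := MulAction.exists_smul_eq C T' T
      have h1 : k * ⟨c, hcC⟩ * k⁻¹ ∈ ((k • T' : Sylow 5 C) : Subgroup C) := by
        rw [Sylow.coe_subgroup_smul]
        exact Subgroup.smul_mem_pointwise_smul _ _ _ (hT' (Subgroup.mem_zpowers _))
      rw [hk] at h1
      obtain ⟨y, hy, hy'⟩ := Subgroup.mem_subgroupOf.mp h1
      have hyG : (k : Perm α) * c * (k : Perm α)⁻¹ ∈ G := by
        have : (y : Perm α) = (k : Perm α) * c * (k : Perm α)⁻¹ := hy'
        exact this ▸ y.2
      exact alternatingGroup_le_of_prime_cycle hG (p := 5) (by norm_num) (by omega)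
        hcc.conj (by rw [card_support_conj, hc5]) hyG
    · have hk3 : Fintype.card {x : α // x ∉ u.support} = 3 := by
        rw [Fintype.card_subtype_compl, Fintype.card_coe, hsum, h13]
      have htrans : IsMultiplyPretransitive G α (Fintype.card {x : α // x ∉ u.support}) := by
        rw [hk3]; exact h3t
      obtain ⟨a, b, c, ha, hb, hc, hab, hac, hbc⟩ := Finset.two_lt_card_iff.mp
        (show 2 < (u.supportᶜ : Finset α).card by rw [Finset.card_compl, hsum]; omega)
      obtain ⟨w, hwG, hcomm, π, hπ, hπ1, hπ2⟩ := exists_commute_three_cycle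
        (fun σ hσ => exists_normalizing_of_card (p := 5) (by norm_num) hu u'.2
          (fun h => h25 (h.trans (Subgroup.card_dvd_of_le inf_le_left))) htrans σ hσ)
        (Finset.mem_compl.mp ha) (Finset.mem_compl.mp hb) (Finset.mem_compl.mp hc) hab hac hbc
      have hpres : ∀ x, w x ∈ u.support ↔ x ∈ u.support := by
        intro x
        have h : w (u x) = u (w x) := congrArg (fun f : Perm α => f x) hcomm.eq
        rw [mem_support, mem_support, ← h]
        exact w.injective.ne_iff
      set w' := w.subtypePerm hpres with hw'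
      set u₁ := u.subtypePerm (p := fun x => x ∈ u.support) (fun x => apply_mem_support) with hu₁
      have hu₁t : u₁.cycleType = Multiset.replicate 2 5 := by
        rw [← cycleType_ofSubtype, hu₁, ofSubtype_subtypePerm (f := u) (p := fun x => x ∈ u.support) _ (fun x hx => mem_support.mpr hx)]
        exact hn
      have hw'C : w' ∈ Subgroup.centralizer ({u₁} : Set (Perm {x // x ∈ u.support})) := by
        rw [Subgroup.mem_centralizer_singleton_iff]
        ext x
        exact congrArg (fun f : Perm α => f (x : α)) hcomm.eq
      have hw50 : w' ^ 50 = 1 := by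
        have hcardC : Nat.card (Subgroup.centralizer ({u₁} : Set (Perm {x // x ∈ u.support}))) = 50 := by
          rw [nat_card_centralizer, hu₁t, Fintype.card_coe, hsum]
          rfl
        have := pow_card_eq_one' (x := (⟨w', hw'C⟩ : Subgroup.centralizer ({u₁} : Set (Perm {x // x ∈ u.support}))))
        rw [hcardC] at this
        exact congrArg Subtype.val this
      have hout : ∀ (i : ℕ) (x : α), x ∉ u.support → (w ^ i) x = (π ^ i) x ∧ (π ^ i) x ∉ u.support := by
        intro i
        induction i with
        | zero => exact fun x hx => ⟨rfl, hx⟩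
        | succ i ih =>
          intro x hx
          obtain ⟨h1, h2⟩ := ih x hx
          rw [pow_succ', pow_succ', Perm.mul_apply, Perm.mul_apply, h1]
          refine ⟨hπ2 _ h2, fun h => h2 ?_⟩
          rw [← hπ2 _ h2] at h
          exact (hpres _).mp h
      have hπ50 : w ^ 50 = π ^ 2 := by
        ext x
        by_cases hx : x ∈ u.support
        · have h1 : (w ^ 50) x = x := by
            have := congrArg (fun f : Perm {x // x ∈ u.support} => ((f ⟨x, hx⟩ : {x // x ∈ u.support}) : α)) hw50
            rw [hw', subtypePerm_pow] at this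
            exact this
          rw [h1, pow_two, Perm.mul_apply, hπ1 x hx, hπ1 x hx]
        · rw [(hout 50 x hx).1, pow_eq_pow_mod 50 (n := 3) (by rw [← hπ.orderOf, pow_orderOf_eq_one])]
      have h3 : (π ^ 2).IsThreeCycle := by rw [pow_two]; exact hπ.isThreeCycle_sq
      exact alternatingGroup_le_of_isPreprimitive_of_isThreeCycle_mem hG h3
        (hπ50 ▸ G.pow_mem hwG 50)
  · exfalso
    obtain ⟨a, b, hab, hcompl⟩ := Finset.card_eq_two.mp
      (show (g.supportᶜ : Finset α).card = 2 by rw [Finset.card_compl, hgp, h13])
    have houtab : ∀ x, x ∉ g.support ↔ x = a ∨ x = b := fun x => by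
      rw [← Finset.mem_compl, hcompl]; simp
    have haout : a ∉ g.support := (houtab a).mpr (Or.inl rfl)
    have hbout : b ∉ g.support := (houtab b).mpr (Or.inr rfl)
    let H : Subgroup (Perm α) := G ⊓ stabilizer (Perm α) a
    have hgH : g ∈ H := ⟨hg, notMem_support.mp haout⟩
    have hHfix : ∀ h : H, (h : Perm α) a = a := fun h => h.2.2
    have hHG : Nat.card H ∣ Nat.card G := Subgroup.card_dvd_of_le inf_le_left
    set g' : H := ⟨g, hgH⟩ with hg'
    have hg'o : orderOf g' = 11 := by rw [hg', Subgroup.orderOf_mk, hord]
    obtain ⟨P, hP⟩ : ∃ P : Sylow 11 H, (P : Subgroup H) = Subgroup.zpowers g' := by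
      obtain ⟨P, hP⟩ := (IsPGroup.of_card (n := 1)
        (show Nat.card (Subgroup.zpowers g') = 11 ^ 1 by rw [Nat.card_zpowers, hg'o, pow_one])).exists_le_sylow
      refine ⟨P, (Subgroup.eq_of_le_of_card_ge hP ?_).symm⟩
      obtain ⟨i, hi⟩ := IsPGroup.iff_card.mp P.2
      have hd : 11 ^ i ∣ 6227020800 :=
        hi ▸ ((Subgroup.card_subgroup_dvd_card _).trans hHG).trans hGc
      rw [Nat.card_zpowers, hg'o, hi]
      rcases Nat.lt_or_ge i 2 with h2 | h2
      · calc 11 ^ i ≤ 11 ^ 1 := Nat.pow_le_pow_right (by norm_num) (by omega)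
          _ = 11 := pow_one 11
      · have := (pow_dvd_pow 11 h2).trans hd
        norm_num at this
    have hnc : Subgroup.normalizer ((P : Subgroup H) : Set H) ≤
        Subgroup.centralizer ((P : Subgroup H) : Set H) := by
      intro n hn
      rw [hP] at hn ⊢
      obtain ⟨i, hi⟩ : ∃ i : ℕ, g' ^ i = n * g' * n⁻¹ :=
        (isOfFinOrder_of_finite g').mem_powers_iff_mem_zpowers.mpr
          ((Subgroup.mem_normalizer_iff.mp hn g').mp (Subgroup.mem_zpowers g'))
      have hpow : ∀ k : ℕ, n ^ k * g' * (n ^ k)⁻¹ = g' ^ i ^ k := by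
        intro k
        induction k with
        | zero => simp
        | succ k ih =>
          calc n ^ (k + 1) * g' * (n ^ (k + 1))⁻¹ = n * (n ^ k * g' * (n ^ k)⁻¹) * n⁻¹ := by group
            _ = (n * g' * n⁻¹) ^ i ^ k := by rw [ih, conj_pow]
            _ = g' ^ i ^ (k + 1) := by rw [← hi, ← pow_mul, ← pow_succ']
      have h1 := hpow (orderOf n)
      rw [pow_orderOf_eq_one, one_mul, inv_one, mul_one] at h1
      nth_rewrite 1 [← pow_one g'] at h1
      rw [pow_eq_pow_iff_modEq, hg'o, ← ZMod.natCast_eq_natCast_iff, Nat.cast_one, Nat.cast_pow] at h1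
      have hd10 : orderOf (i : ZMod 11) ∣ 10 := ZMod.orderOf_dvd_card_sub_one (fun h0 => by
        rw [h0, zero_pow (orderOf_pos n).ne'] at h1; exact one_ne_zero h1)
      have hdn : orderOf (i : ZMod 11) ∣ orderOf n := orderOf_dvd_of_pow_eq_one h1.symm
      have hd2 : orderOf (i : ZMod 11) ∣ 2 := by
        have h5' : Nat.Coprime (orderOf (i : ZMod 11)) 5 :=
          Nat.coprime_comm.mp ((Nat.Prime.coprime_iff_not_dvd (by norm_num)).mpr fun h =>
            h5 (h.trans (hdn.trans ((orderOf_dvd_natCard n).trans hHG))))
        exact h5'.dvd_of_dvd_mul_right (show orderOf (i : ZMod 11) ∣ 2 * 5 from hd10)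
      have hsq : (i : ZMod 11) ^ 2 = 1 := orderOf_dvd_iff_pow_eq_one.mp hd2
      rcases sq_eq_one_iff.mp hsq with h | h
      · have hi1 : g' ^ i = g' := by
          nth_rewrite 2 [← pow_one g']
          rw [pow_eq_pow_iff_modEq, hg'o, ← ZMod.natCast_eq_natCast_iff, Nat.cast_one, h]
        rw [hi1] at hi
        intro y hy
        obtain ⟨k, rfl⟩ := Subgroup.mem_zpowers_iff.mp hy
        have : Commute n g' := mul_inv_eq_iff_eq_mul.mp hi.symm
        exact ((this.zpow_right k).eq).symm
      · exfalso
        have hi1 : g' ^ i = g' ^ 10 := by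
          rw [pow_eq_pow_iff_modEq, hg'o, ← ZMod.natCast_eq_natCast_iff, h]
          rfl
        rw [hi1] at hi
        have hinv : (n : Perm α) * g * (n : Perm α)⁻¹ = g⁻¹ := by
          have := congrArg Subtype.val hi
          refine this.symm.trans ?_
          show g ^ 10 = g⁻¹
          exact eq_inv_of_mul_eq_one_left (by
            rw [← pow_succ]; show g ^ 11 = 1; rw [← hord, pow_orderOf_eq_one])
        have hsn := sign_of_inverting hgc hgp (n := (n : Perm α)) (fun x hx => by
          rcases (houtab x).mp hx with rfl | rfl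
          · exact hHfix n
          · have hbs : (n : Perm α) x ∉ g.support := by
              intro hmem
              apply mem_support.mp hmem
              have h2 := congrArg (fun f : Perm α => f ((n : Perm α) x)) hinv
              simp only [Perm.mul_apply] at h2
              rw [show ((n : Perm α)⁻¹) ((n : Perm α) x) = x from (n : Perm α).symm_apply_apply x,
                notMem_support.mp hbout] at h2
              conv_lhs => rw [h2]
              exact g.apply_symm_apply _
            exact ((houtab _).mp hbs).resolve_left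
              fun h => hab ((n : Perm α).injective (h.trans (hHfix n).symm)).symm) hinv
        have hA : sign (n : Perm α) = 1 := hGA n.2.1
        rw [hA] at hsn
        exact absurd hsn (by decide)
    obtain ⟨P', K, hKn, hKc⟩ := hasNormalPComplement_of_normalizer_le_centralizer P hnc
    haveI := hKn
    obtain ⟨i', hi'⟩ := IsPGroup.iff_card.mp P'.2
    have hK11 : ¬ 11 ∣ Nat.card K := by
      rw [← hKc.index_eq_card]
      exact P'.not_dvd_index
    have hKbot : K = ⊥ := by
      by_contra hK
      obtain ⟨r, hr, hrd⟩ := Nat.exists_prime_and_dvd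
        (fun h => hK (Subgroup.eq_bot_of_card_eq K h))
      haveI := Fact.mk hr
      have hr11 : r ≠ 11 := fun h => hK11 (h ▸ hrd)
      let R : Sylow r K := Classical.arbitrary _
      have hfr := Sylow.normalizer_sup_eq_top R
      set R₁ : Subgroup H := (R : Subgroup K).map K.subtype with hR₁
      set N := Subgroup.normalizer (R₁ : Set H) with hN
      have h11 : 11 ∣ Nat.card N := by
        have h := Cfsg.Lib.Core.card_sup_dvd_mul N K
        rw [hfr, Subgroup.card_top] at h
        exact ((Nat.Prime.dvd_mul (by norm_num)).mp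
          ((hg'o ▸ orderOf_dvd_natCard g').trans h)).resolve_right hK11
      obtain ⟨v', hv'⟩ := exists_prime_orderOf_dvd_card' 11 h11
      set v : Perm α := ((v' : H) : Perm α) with hvdef
      have hv : orderOf v = 11 := by rw [hvdef, Subgroup.orderOf_coe, Subgroup.orderOf_coe, hv']
      obtain ⟨hvc, hvs⟩ := cycle_of_order_eleven h13 hv
      set R₀ : Subgroup (Perm α) := R₁.map H.subtype with hR₀
      have hR₀p : IsPGroup r R₀ := (R.2.map _).map _
      have hR₀a : ∀ x ∈ R₀, x a = a := by
        rintro x ⟨y, -, rfl⟩; exact hHfix y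
      have hnorm : ∀ x ∈ R₀, v * x * v⁻¹ ∈ R₀ := by
        rintro x ⟨y, hy, rfl⟩
        exact ⟨_, (Subgroup.mem_normalizer_iff.mp v'.2 y).mp hy, rfl⟩
      obtain ⟨x, hx, z, hz⟩ : ∃ x ∈ R₀, ∃ z, x z ≠ z := by
        by_contra hcon
        push Not at hcon
        have h1 : R₀ = ⊥ := (Subgroup.eq_bot_iff_forall _).mpr fun x hx => Perm.ext (hcon x hx)
        have h2 : Nat.card R₀ = Nat.card (R : Subgroup K) := by
          rw [hR₀, Subgroup.card_map_of_injective H.subtype_injective, hR₁,
            Subgroup.card_map_of_injective K.subtype_injective]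
        rw [h1, Subgroup.card_bot] at h2
        exact hr.not_dvd_one (h2.symm ▸ R.dvd_card_of_dvd_card hrd)
      -- the orbits of `R₀` are permuted by `v`
      have horbit : ∀ (i : ℕ) (y y' : α), y' ∈ orbit R₀ y → (v ^ i) y' ∈ orbit R₀ ((v ^ i) y) := by
        intro i
        induction i with
        | zero => exact fun y y' h => h
        | succ i ih =>
          intro y y' h
          obtain ⟨s, hs⟩ := ih y y' h
          refine ⟨⟨v * s * v⁻¹, hnorm s s.2⟩, ?_⟩
          have hs' : (s : Perm α) ((v ^ i) y) = (v ^ i) y' := hs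
          show (v * (s : Perm α) * v⁻¹) ((v ^ (i + 1)) y) = (v ^ (i + 1)) y'
          rw [pow_succ']
          simp only [Perm.mul_apply]
          rw [show (v⁻¹ : Perm α) (v ((v ^ i) y)) = (v ^ i) y from v.symm_apply_apply _, hs']
      set O := orbit R₀ z with hO
      have hsame : v z ∈ O := by
        by_contra hvz
        -- eleven disjoint orbits with two points each
        have hz' : x z ∈ O := ⟨⟨x, hx⟩, rfl⟩
        let f : Fin 11 × Bool → α := fun t => (v ^ (t.1 : ℕ)) (if t.2 then x z else z)
        have hkey : ∀ d : ℕ, (v ^ d) z ∈ O → 11 ∣ d := by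
          intro d hd
          by_contra hnd
          apply hvz
          obtain ⟨e, -, he⟩ := Nat.exists_mul_mod_eq_one_of_coprime
            ((Nat.Prime.coprime_iff_not_dvd (by norm_num)).mpr hnd).symm (by norm_num)
          have hmul : ∀ j : ℕ, (v ^ (d * j)) z ∈ O := by
            intro j
            induction j with
            | zero => exact mem_orbit_self z
            | succ j ih =>
              have h1 := horbit d z _ ih
              rw [← Perm.mul_apply, ← pow_add, show d + d * j = d * (j + 1) by ring] at h1
              rw [orbit_eq_iff.mpr hd] at h1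
              exact h1
          have := hmul e
          rwa [pow_eq_pow_mod _ (show v ^ 11 = 1 by rw [← hv, pow_orderOf_eq_one]), he, pow_one] at this
        have hfin : Function.Injective f := by
          have hlt : ∀ i j : Fin 11, ∀ y y' : α, y ∈ O → y' ∈ O → (i : ℕ) ≤ j →
              (v ^ (i : ℕ)) y = (v ^ (j : ℕ)) y' → i = j := by
            intro i j y y' hy hy' hij h
            have hyd : y = (v ^ ((j : ℕ) - i)) y' := by
              apply (v ^ (i : ℕ)).injective
              rw [h, ← Perm.mul_apply, ← pow_add, Nat.add_sub_cancel' hij]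
            have h1 := horbit ((j : ℕ) - i) z y' hy'
            rw [← hyd] at h1
            have h2 : (v ^ ((j : ℕ) - i)) z ∈ O := by
              rw [hO, ← orbit_eq_iff.mpr hy, orbit_eq_iff.mpr h1]
              exact mem_orbit_self _
            have := hkey _ h2
            have := i.2
            have := j.2
            exact Fin.ext (by omega)
          intro s t hst
          have hmem : ∀ bb : Bool, (if bb then x z else z) ∈ O := fun bb => by
            cases bb
            · exact mem_orbit_self z
            · exact hz'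
          have h12 : s.1 = t.1 := by
            rcases le_total (s.1 : ℕ) t.1 with h | h
            · exact hlt _ _ _ _ (hmem _) (hmem _) h hst
            · exact (hlt _ _ _ _ (hmem _) (hmem _) h hst.symm).symm
          refine Prod.ext h12 ?_
          change (v ^ (s.1 : ℕ)) _ = (v ^ (t.1 : ℕ)) _ at hst
          rw [h12] at hst
          have := (v ^ (t.1 : ℕ)).injective hst
          by_contra hne
          revert this hne
          cases s.2 <;> cases t.2 <;> intro this hne
          · exact hne rfl
          · exact hz this.symm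
          · exact hz this
          · exact hne rfl
        have := Fintype.card_le_of_injective f hfin
        simp [h13] at this
      -- so `v` fixes the orbit `O`
      have hcl : ∀ y ∈ O, v y ∈ O := fun y hy => by
        have := horbit 1 z y hy
        rw [pow_one] at this
        rw [hO, ← orbit_eq_iff.mpr hsame]
        exact this
      have hOa : a ∉ O := by
        rintro ha
        have hz2 : z ∈ orbit R₀ a := by rw [orbit_eq_iff.mpr ha]; exact mem_orbit_self z
        obtain ⟨s, hs⟩ := hz2
        have : z = a := hs.symm.trans (hR₀a s s.2)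
        exact hz (this.symm ▸ hR₀a x hx)
      obtain ⟨e, he⟩ := hR₀p.card_orbit z
      have hO2 : 2 ≤ Nat.card O := by
        rw [Nat.card_coe_set_eq]
        exact (Set.one_lt_ncard (Set.toFinite _)).mpr ⟨_, ⟨⟨x, hx⟩, rfl⟩, z, mem_orbit_self z, hz⟩
      have hO12 : Nat.card O ≤ 12 := by
        rw [Nat.card_coe_set_eq]
        have : O ⊆ ({a} : Set α)ᶜ := fun y hy h => hOa (h ▸ hy)
        refine (Set.ncard_le_ncard this).trans ?_
        rw [Set.ncard_compl, Set.ncard_singleton, Nat.card_eq_fintype_card, h13]
      by_cases hmoved : ∃ y ∈ O, v y ≠ y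
      · obtain ⟨y, hy, hvy⟩ := hmoved
        have hsub : (v.support : Set α) ⊆ O := fun y' hy' => by
          obtain ⟨j, rfl⟩ := hvc.exists_pow_eq hvy (mem_support.mp hy')
          clear hy'
          induction j with
          | zero => exact hy
          | succ j ih => rw [pow_succ', Perm.mul_apply]; exact hcl _ ih
        have h11' : 11 ≤ Nat.card O := by
          rw [← hvs, ← Set.ncard_coe_finset, Nat.card_coe_set_eq]
          exact Set.ncard_le_ncard hsub
        rw [he] at h11' hO12
        rcases (show r ^ e = 11 ∨ r ^ e = 12 by omega) with h | h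
        · exact hr11 ((Nat.Prime.pow_eq_iff (by norm_num : Nat.Prime 11)).mp h).1
        · have h3 : 3 ∣ r := Nat.Prime.dvd_of_dvd_pow Nat.prime_three ⟨4, h⟩
          have h2' : 2 ∣ r := Nat.Prime.dvd_of_dvd_pow Nat.prime_two ⟨6, h⟩
          exact absurd ((Nat.prime_dvd_prime_iff_eq Nat.prime_two hr).mp h2')
            (by rw [← (Nat.prime_dvd_prime_iff_eq Nat.prime_three hr).mp h3]; norm_num)
      · push Not at hmoved
        have hsub : O ⊆ ((v.supportᶜ.erase a : Finset α) : Set α) := fun y hy => by
          rw [Finset.mem_coe, Finset.mem_erase, Finset.mem_compl, notMem_support]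
          exact ⟨fun h => hOa (h ▸ hy), hmoved y hy⟩
        have := Set.ncard_le_ncard hsub
        rw [Set.ncard_coe_finset, Finset.card_erase_of_mem (Finset.mem_compl.mpr
          (notMem_support.mpr (hHfix (v' : H)))), Finset.card_compl, hvs, h13,
          ← Nat.card_coe_set_eq] at this
        omega
    -- hence the stabilizer of `a` fixes `b`
    have hHb : ∀ h : H, (h : Perm α) b = b := by
      intro h
      have hP'top : (P' : Subgroup H) = ⊤ := by
        rw [hKbot] at hKc
        exact Subgroup.isComplement'_bot_left.mp hKc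
      have htop : (P : Subgroup H) = ⊤ := by
        refine Subgroup.eq_top_of_card_eq _ ?_
        rw [P.card_eq_multiplicity, ← P'.card_eq_multiplicity, hP'top, Subgroup.card_top]
      have : h ∈ Subgroup.zpowers g' := hP ▸ (htop.symm ▸ Subgroup.mem_top h)
      obtain ⟨k, rfl⟩ := Subgroup.mem_zpowers_iff.mp this
      exact zpow_apply_eq_self_of_apply_eq_self (notMem_support.mp hbout) k
    obtain ⟨z, hz⟩ := Finset.card_pos.mp (show 0 < g.support.card by omega)
    haveI : IsMultiplyPretransitive G α 2 :=
      isMultiplyPretransitive_of_le (n := 3) (by norm_num) (by rw [Nat.card_eq_fintype_card, h13]; norm_num)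
    have haz : a ≠ z := fun h => haout (h ▸ hz)
    obtain ⟨h, hh1, hh2⟩ := is_two_pretransitive_iff.mp ‹_› hab haz
    have hh : (h : Perm α) ∈ H := ⟨h.2, hh1⟩
    exact hbout ((hHb ⟨_, hh⟩).symm.trans hh2 ▸ hz)

end Cfsg.Lib.Fusion
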