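import Cfsg.Agent.Lib.Fusion.Alperin
import Mathlib.GroupTheory.Sylow

/-!
# Fusion is generated by the conjugates of the local Sylow subgroups at radical centric subgroups

A reflexive transitive relation containing `x ↦ g x g⁻¹` for `g ∈ N(S)` and, for every fully
normalized, centric, radical `Q < S`, for the conjugates in `N(Q)` of the elements of `S ∩ N(Q)`,
contains all fusion in `S`: Alperin's theorem and the Frattini argument.
-/

set_option autoImplicit false
set_option linter.style.haveILetI false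

open Subgroup

namespace Cfsg.Lib.Fusion

variable {G : Type*} [Group G] [Finite G] {p : ℕ} [hp : Fact p.Prime]

/-- `Q ≤ S` is fully normalized: `S ∩ N(Q)` is Sylow in `N(Q)`. -/
def FullyNormalized (S : Sylow p G) (Q : Subgroup G) : Prop :=
  Q ≤ (S : Subgroup G) ∧
    ¬ p ∣ ((S : Subgroup G) ⊓ normalizer (Q : Set G)).relIndex (normalizer (Q : Set G))

/-- The subgroups `M` between `Q` and `S ∩ N(Q)` with image in `Aut Q` normalized by `N(Q)` are `Q`. -/
def Radical (S : Sylow p G) (Q : Subgroup G) : Prop :=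
  ∀ M : Subgroup G, Q ≤ M → M ≤ (S : Subgroup G) ⊓ normalizer (Q : Set G) →
    (∀ g ∈ normalizer (Q : Set G), ∀ m ∈ M, ∃ m' ∈ M, ∀ q ∈ Q,
      g * m * g⁻¹ * q * (g * m * g⁻¹)⁻¹ = m' * q * m'⁻¹) → M ≤ Q

/-- The Frattini step: a normal subgroup `K` of `N` and the Sylow subgroup `T` of `N` give
`g = k h` with `h` normalizing `T ∩ K`. -/
theorem exists_frattini {N T K : Subgroup G} (hTp : IsPGroup p T) (hTN : T ≤ N)
    (hT : ¬ p ∣ T.relIndex N) (hKN : K ≤ N) (hK : ∀ g ∈ N, ∀ k ∈ K, g * k * g⁻¹ ∈ K) {g : G}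
    (hg : g ∈ N) : ∃ k ∈ K, ∃ h ∈ normalizer ((T ⊓ K : Subgroup G) : Set G), h ∈ N ∧ g = k * h := by
  classical
  haveI : (K.subgroupOf N).Normal := ⟨fun k hk n => mem_subgroupOf.2 (hK n n.2 k (mem_subgroupOf.1 hk))⟩
  let T₀ : Sylow p N := (hTp.of_equiv (subgroupOfEquivOfLe hTN).symm).toSylow hT
  -- a Sylow subgroup of `K` inside `T`
  obtain ⟨PK, hPK⟩ := ((T₀.2.to_inf_left (K := K.subgroupOf N)).of_equiv
    (subgroupOfEquivOfLe inf_le_right).symm : IsPGroup p
      (((T₀ : Subgroup N) ⊓ K.subgroupOf N).subgroupOf (K.subgroupOf N))).exists_le_sylow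
  have hmap : (PK : Subgroup (K.subgroupOf N)).map (K.subgroupOf N).subtype =
      (T₀ : Subgroup N) ⊓ K.subgroupOf N := by
    refine (eq_of_le_of_card_ge ?_ ?_).symm
    · intro x hx
      exact ⟨⟨x, hx.2⟩, hPK (mem_subgroupOf.2 hx), rfl⟩
    obtain ⟨S', hS'⟩ := (PK.2.map (K.subgroupOf N).subtype).exists_le_sylow
    obtain ⟨n, hn⟩ := MulAction.exists_smul_eq N S' T₀
    refine Nat.le_of_dvd Nat.card_pos ?_
    rw [← card_map_of_injective (K := (PK : Subgroup (K.subgroupOf N)).map (K.subgroupOf N).subtype)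
      (f := (MulAut.conj n).toMonoidHom) (MulAut.conj n).injective]
    refine card_dvd_of_le ?_
    rintro _ ⟨x, hx, rfl⟩
    refine ⟨?_, ?_⟩
    · show MulAut.conj n x ∈ (T₀ : Subgroup N)
      rw [← hn, Sylow.coe_subgroup_smul]
      exact ⟨x, hS' hx, rfl⟩
    · obtain ⟨y, -, rfl⟩ := hx
      exact (inferInstance : (K.subgroupOf N).Normal).conj_mem _ y.2 _
  have htop := Sylow.normalizer_sup_eq_top PK
  obtain ⟨h, hh, k, hk, e⟩ := mem_sup_of_normal_right.1 (htop ▸ mem_top (⟨g, hg⟩ : N))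
  refine ⟨(h : G) * k * (h : G)⁻¹, hK h h.2 k (mem_subgroupOf.1 hk), h, ?_, h.2,
    by rw [inv_mul_cancel_right]; exact (congrArg Subtype.val e).symm⟩
  rw [hmap] at hh
  have hin : ∀ y : N, y ∈ (T₀ : Subgroup N) ⊓ K.subgroupOf N ↔ (y : G) ∈ T ⊓ K := fun y => Iff.rfl
  refine le_normalizer_of_conj_mem fun y hy => ?_
  exact (hin _).1 ((mem_normalizer_iff.1 hh ⟨y, hTN hy.1⟩).1 ((hin _).2 hy))

variable (S : Sylow p G) (R : G → G → Prop)

/-- Conjugation by `g` moves the elements of `D` along `R`. -/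
def Moves (g : G) (D : Subgroup G) : Prop := ∀ a ∈ D, R a (g * a * g⁻¹)

variable (hrefl : ∀ x, R x x) (htrans : ∀ x y z, R x y → R y z → R x z)

include htrans in
omit [Finite G] hp in
theorem Moves.mul {g h : G} {D : Subgroup G} (hD : ∀ a ∈ D, h * a * h⁻¹ ∈ D)
    (hg : Moves R g D) (hh : Moves R h D) : Moves R (g * h) D := fun a ha => by
  have := htrans _ _ _ (hh a ha) (hg _ (hD a ha))
  rwa [show g * h * a * (g * h)⁻¹ = g * (h * a * h⁻¹) * g⁻¹ by group]

include hrefl htrans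

/-- **Generation of fusion.** -/
theorem moves_of_local
    (hS : ∀ g ∈ normalizer ((S : Subgroup G) : Set G), ∀ x ∈ (S : Subgroup G), R x (g * x * g⁻¹))
    (hQ : ∀ Q : Subgroup G, Q < (S : Subgroup G) → FullyNormalized S Q →
      (∀ s ∈ (S : Subgroup G), (∀ q ∈ Q, s * q = q * s) → s ∈ Q) → Radical S Q →
      ∀ g ∈ normalizer (Q : Set G), ∀ t ∈ (S : Subgroup G) ⊓ normalizer (Q : Set G),
        Moves R (g * t * g⁻¹) Q)
    {x g : G} (hx : x ∈ (S : Subgroup G)) (hg : g * x * g⁻¹ ∈ (S : Subgroup G)) :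
    R x (g * x * g⁻¹) := by
  classical
  have hSS : ∀ s ∈ (S : Subgroup G), ∀ D : Subgroup G, D ≤ (S : Subgroup G) → Moves R s D :=
    fun s hs D hD a ha => hS s (le_normalizer hs) a (hD ha)
  -- everything reduces to the fully normalized subgroups
  suffices H : ∀ (n : ℕ) (D : Subgroup G), Nat.card G - Nat.card D = n → FullyNormalized S D →
      ∀ g ∈ normalizer (D : Set G), Moves R g D by
    have hl := alperin S (zpowers x) g⁻¹ (zpowers_le.2 hx) (conjR_le_iff.2 fun y hy => by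
      obtain ⟨i, rfl⟩ := mem_zpowers_iff.1 hy
      rw [inv_inv, ← conj_zpow]
      exact zpow_mem hg i)
    obtain ⟨l, hl, hlg⟩ := hl
    have key : ∀ (l : List (Sylow p G × G)) (D : Subgroup G), Chain S l D → ∀ a ∈ D,
        R a ((chainProd l)⁻¹ * a * chainProd l) := by
      intro l
      induction l with
      | nil => intro D _ a _; simpa [chainProd] using hrefl a
      | cons b l ih =>
        rintro D ⟨ht, hn, hle, hc⟩ a ha
        have h1 := H _ _ rfl ⟨inf_le_left, ht.1⟩ b.2⁻¹ (inv_mem hn) a (hle ha)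
        rw [inv_inv] at h1
        have h2 := ih _ hc _ (conj_mem_conjR ha)
        have h4 : chainProd (b :: l) = b.2 * chainProd l := by simp [chainProd]
        rw [h4, show (b.2 * chainProd l)⁻¹ * a * (b.2 * chainProd l) =
          (chainProd l)⁻¹ * (b.2⁻¹ * a * b.2) * chainProd l by group]
        exact htrans _ _ _ h1 h2
    have := key l _ hl x (mem_zpowers x)
    rwa [hlg, inv_inv] at this
  intro n
  induction n using Nat.strong_induction_on with
  | _ n ih =>
  intro D hn hD g hg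
  rcases eq_or_lt_of_le hD.1 with hDS | hDS
  · exact fun a ha => hS g (hDS ▸ hg) a (hD.1 ha)
  -- larger subgroups
  have big : ∀ M : Subgroup G, D < M → M ≤ (S : Subgroup G) →
      ∀ h ∈ normalizer (M : Set G), Moves R h D := by
    intro M hlt hM h hh a ha
    have hl := alperin S M h⁻¹ hM (conjR_le_iff.2 fun y hy => hM (by
      rw [inv_inv]; exact (mem_normalizer_iff.1 hh y).1 hy))
    obtain ⟨l, hl, hlg⟩ := hl
    have key : ∀ (l : List (Sylow p G × G)) (E : Subgroup G), Nat.card D < Nat.card E → Chain S l E →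
        ∀ a ∈ E, R a ((chainProd l)⁻¹ * a * chainProd l) := by
      intro l
      induction l with
      | nil => intro E _ _ a _; simpa [chainProd] using hrefl a
      | cons b l ih' =>
        rintro E hE ⟨ht, hn', hle, hc⟩ a ha
        have hlt' := hE.trans_le (Nat.le_of_dvd Nat.card_pos (card_dvd_of_le hle))
        have h1 := ih _ (by
          have := card_le_card_group ((S : Subgroup G) ⊓ (b.1 : Subgroup G))
          omega) _ rfl ⟨inf_le_left, ht.1⟩ b.2⁻¹ (inv_mem hn') a (hle ha)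
        rw [inv_inv] at h1
        have h2 := ih' _ (by rw [card_conjR]; exact hE) hc _ (conj_mem_conjR ha)
        have h4 : chainProd (b :: l) = b.2 * chainProd l := by simp [chainProd]
        rw [h4, show (b.2 * chainProd l)⁻¹ * a * (b.2 * chainProd l) =
          (chainProd l)⁻¹ * (b.2⁻¹ * a * b.2) * chainProd l by group]
        exact htrans _ _ _ h1 h2
    have := key l M (card_lt_card_of_lt hlt) hl a (hlt.le ha)
    rwa [hlg, inv_inv] at this
  obtain ⟨N, hN⟩ : ∃ N, N = normalizer (D : Set G) := ⟨_, rfl⟩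
  obtain ⟨T, hT⟩ : ∃ T, T = (S : Subgroup G) ⊓ N := ⟨_, rfl⟩
  have hTN : T ≤ N := hT ▸ inf_le_right
  have hTS : T ≤ (S : Subgroup G) := hT ▸ inf_le_left
  have hTp : IsPGroup p T := S.2.to_le hTS
  have hTi : ¬ p ∣ T.relIndex N := hT ▸ hN ▸ hD.2
  have hDT : D < T := hT ▸ hN ▸ lt_inf_normalizer S.2 hDS
  rw [← hN] at hg
  have hconj : ∀ {m : G}, m ∈ N → ∀ a ∈ D, m * a * m⁻¹ ∈ D := fun {m} hm a ha =>
    (mem_normalizer_iff.1 (hN ▸ hm) a).1 ha
  -- the step through a normal subgroup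
  have step : ∀ K : Subgroup G, K ≤ N → (∀ g ∈ N, ∀ k ∈ K, g * k * g⁻¹ ∈ K) →
      (∀ k ∈ K, Moves R k D) → D < T ⊓ K → Moves R g D := by
    intro K hKN hK hmove hlt
    obtain ⟨k, hk, h, hh, hhN, rfl⟩ := exists_frattini hTp hTN hTi hKN hK hg
    exact Moves.mul R htrans (hconj hhN) (hmove k hk)
      (big _ hlt (inf_le_left.trans hTS) h hh)
  -- the kernel of a normalized image
  have image : ∀ M : Subgroup G, D ≤ M → M ≤ T →
      (∀ g ∈ N, ∀ m ∈ M, ∃ m' ∈ M, ∀ q ∈ D,
        g * m * g⁻¹ * q * (g * m * g⁻¹)⁻¹ = m' * q * m'⁻¹) →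
      ∀ t ∈ T, (∃ m ∈ M, ∀ q ∈ D, t * q * t⁻¹ = m * q * m⁻¹) → t ∉ D → Moves R g D := by
    intro M hDM hMT hinv t ht htm htD
    let K : Subgroup G :=
      { carrier := {k | k ∈ N ∧ ∃ m ∈ M, ∀ q ∈ D, k * q * k⁻¹ = m * q * m⁻¹}
        one_mem' := ⟨one_mem _, 1, one_mem _, fun q _ => rfl⟩
        mul_mem' := by
          rintro k k' ⟨hk, m, hm, e⟩ ⟨hk', m', hm', e'⟩
          refine ⟨mul_mem hk hk', m * m', mul_mem hm hm', fun q hq => ?_⟩
          rw [show k * k' * q * (k * k')⁻¹ = k * (k' * q * k'⁻¹) * k⁻¹ by group,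
            e _ (hconj hk' q hq), e' q hq]
          group
        inv_mem' := by
          rintro k ⟨hk, m, hm, e⟩
          refine ⟨inv_mem hk, m⁻¹, inv_mem hm, fun q hq => ?_⟩
          have h1 := e _ (hconj (inv_mem hk) q hq)
          rw [show k * (k⁻¹ * q * k⁻¹⁻¹) * k⁻¹ = q by group] at h1
          conv_rhs => rw [h1]
          group }
    refine step K (fun k hk => hk.1) (fun g' hg' k hk => ?_) (fun k hk a ha => ?_) ?_
    · obtain ⟨hkN, m, hm, e⟩ := hk
      obtain ⟨m', hm', e'⟩ := hinv g' hg' m hm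
      refine ⟨mul_mem (mul_mem hg' hkN) (inv_mem hg'), m', hm', fun q hq => ?_⟩
      rw [← e' q hq, show g' * k * g'⁻¹ * q * (g' * k * g'⁻¹)⁻¹ =
        g' * (k * (g'⁻¹ * q * g'⁻¹⁻¹) * k⁻¹) * g'⁻¹ by group, e _ (hconj (inv_mem hg') q hq)]
      group
    · obtain ⟨-, m, hm, e⟩ := hk
      rw [e a ha]
      exact hSS m (hTS (hMT hm)) D hD.1 a ha
    · refine lt_of_le_not_ge (le_inf hDT.le fun d hd => ?_) fun hle => htD (hle ⟨ht, hTN ht, htm⟩)
      exact ⟨hN ▸ le_normalizer hd, d, hDM hd, fun q _ => rfl⟩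
  -- centric
  by_cases hcen : ∀ s ∈ (S : Subgroup G), (∀ q ∈ D, s * q = q * s) → s ∈ D
  swap
  · push Not at hcen
    obtain ⟨s, hs, hsc, hsD⟩ := hcen
    have hsN : s ∈ N := by
      rw [hN]
      refine le_normalizer_of_conj_mem fun y hy => ?_
      rw [hsc y hy, mul_inv_cancel_right]
      exact hy
    refine image D le_rfl hDT.le (fun g' hg' m hm => ⟨_, hconj hg' m hm, fun q _ => rfl⟩) s
      (hT ▸ ⟨hs, hsN⟩) ⟨1, one_mem _, fun q hq => ?_⟩ hsD
    rw [hsc q hq, mul_inv_cancel_right, inv_one, mul_one, one_mul]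
  -- radical
  by_cases hrad : Radical S D
  swap
  · simp only [Radical, not_forall] at hrad
    obtain ⟨M, hDM, hMT, hinv, hMD⟩ := hrad
    obtain ⟨t, htM, htD⟩ := SetLike.not_le_iff_exists.1 hMD
    rw [← hN] at hinv
    rw [← hN, ← hT] at hMT
    exact image M hDM hMT hinv t (hMT htM) ⟨t, htM, fun q _ => rfl⟩ htD
  -- the conjugates of `T`
  obtain ⟨K, hK⟩ : ∃ K : Subgroup G, K = closure {y | ∃ g ∈ N, ∃ t ∈ T, y = g * t * g⁻¹} :=
    ⟨_, rfl⟩
  have hKN : K ≤ N := hK ▸ (closure_le _).2 (by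
    rintro _ ⟨g', hg', t, ht, rfl⟩
    exact mul_mem (mul_mem hg' (hTN ht)) (inv_mem hg'))
  refine step K hKN (fun g' hg' k hk => ?_) (fun k hk => ?_) ?_
  · have hle : K.map (MulAut.conj g').toMonoidHom ≤ K := by
      rw [hK, MonoidHom.map_closure, closure_le]
      rintro _ ⟨_, ⟨g'', hg'', t, ht, rfl⟩, rfl⟩
      exact subset_closure ⟨g' * g'', mul_mem hg' hg'', t, ht, by simp [mul_assoc]⟩
    exact hle ⟨k, hk, rfl⟩
  · rw [hK] at hk
    have base : ∀ {g' t : G}, g' ∈ N → t ∈ T → Moves R (g' * t * g'⁻¹) D := fun {g' t} hg' ht =>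
      hQ D hDS hD hcen hrad g' (hN ▸ hg') t (by rw [← hN, ← hT]; exact ht)
    have main : ∀ y ∈ closure {y | ∃ g ∈ N, ∃ t ∈ T, y = g * t * g⁻¹},
        y ∈ N ∧ Moves R y D ∧ Moves R y⁻¹ D := by
      intro y hy
      induction hy using closure_induction with
      | mem y hy =>
        obtain ⟨g', hg', t, ht, rfl⟩ := hy
        refine ⟨mul_mem (mul_mem hg' (hTN ht)) (inv_mem hg'), base hg' ht, ?_⟩
        rw [conj_inv]
        exact base hg' (inv_mem ht)
      | one => exact ⟨one_mem _, fun a _ => by simpa using hrefl a, fun a _ => by simpa using hrefl a⟩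
      | mul y y' _ _ h1 h2 =>
        refine ⟨mul_mem h1.1 h2.1, Moves.mul R htrans (hconj h2.1) h1.2.1 h2.2.1, ?_⟩
        rw [mul_inv_rev]
        exact Moves.mul R htrans (hconj (inv_mem h1.1)) h2.2.2 h1.2.2
      | inv y _ h1 => exact ⟨inv_mem h1.1, h1.2.2, (inv_inv y).symm ▸ h1.2.1⟩
    exact (main k hk).2.1
  · refine lt_of_lt_of_le hDT (le_inf le_rfl fun t ht => ?_)
    rw [hK]
    exact subset_closure ⟨1, one_mem _, t, ht, by group⟩

end Cfsg.Lib.Fusion
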