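import Mathlib.GroupTheory.GroupAction.Jordan
import Mathlib.GroupTheory.Sylow
import Mathlib.GroupTheory.Perm.Cycle.Basic
import Mathlib.GroupTheory.Perm.Cycle.Concrete
import Mathlib.Data.Nat.Factorial.Basic
import Mathlib.Data.Nat.Prime.Factorial

/-!
# Jordan's theorem on primitive groups with a cycle of prime length

A primitive permutation group of degree `n` containing a cycle of prime length `p ≤ n - 3` contains
the alternating group.
-/

set_option autoImplicit false

namespace Cfsg.Lib.Fusion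

open Equiv Equiv.Perm MulAction

variable {α : Type*} [Fintype α] [DecidableEq α]

theorem not_sq_prime_dvd_factorial {p : ℕ} (hp : p.Prime) : ¬ p ^ 2 ∣ p.factorial := by
  intro h
  rw [pow_two, ← Nat.mul_factorial_pred hp.ne_zero] at h
  have := (hp.dvd_factorial).mp (Nat.dvd_of_mul_dvd_mul_left hp.pos h)
  have := hp.two_le
  omega

/-- The elements of `G` permute the fixed points of the cycle arbitrarily and normalize it. -/
theorem exists_normalizing_of_card {G : Subgroup (Perm α)} {p : ℕ} (hp : p.Prime) {g : Perm α}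
    (hord : orderOf g = p) (hg : g ∈ G)
    (hdvd : ¬ p ^ 2 ∣ Nat.card (G ⊓ (ofSubtype (p := fun x => x ∈ g.support)).range : Subgroup (Perm α)))
    (htrans : IsMultiplyPretransitive G α (Fintype.card {x : α // x ∉ g.support}))
    (σ : Perm α) (hσ : ∀ x, x ∈ g.support → σ x = x) :
    ∃ n ∈ G, (∀ x, x ∉ g.support → n x = σ x) ∧ n * g * n⁻¹ ∈ Subgroup.zpowers g := by
  classical
  haveI := Fact.mk hp
  have hσ' : ∀ x, x ∉ g.support → σ x ∉ g.support := fun x hx h =>
    hx (σ.injective (hσ _ h) ▸ h)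
  let k := Fintype.card {x : α // x ∉ g.support}
  let e : Fin k ≃ {x : α // x ∉ g.support} := (Fintype.equivFin _).symm
  let a : Fin k ↪ α := e.toEmbedding.trans (Function.Embedding.subtype _)
  let b : Fin k ↪ α := a.trans σ.toEmbedding
  obtain ⟨h, hh⟩ := htrans.exists_smul_eq a b
  have hh' : ∀ x, x ∉ g.support → (h : Perm α) x = σ x := by
    intro x hx
    have := DFunLike.congr_fun hh (e.symm ⟨x, hx⟩)
    simpa [a, b, Subgroup.smul_def] using this
  -- `g` and its conjugate are Sylow in the pointwise fixer of the fixed points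
  let H : Subgroup (Perm α) := G ⊓ (ofSubtype (p := fun x => x ∈ g.support)).range
  have hgH : g ∈ H := ⟨hg, mem_range_ofSubtype_iff.mpr fun x hx => hx⟩
  set g' : Perm α := (h : Perm α) * g * (h : Perm α)⁻¹ with hg'def
  have hg'H : g' ∈ H := by
    refine ⟨G.mul_mem (G.mul_mem h.2 hg) (G.inv_mem h.2), mem_range_ofSubtype_iff.mpr fun x hx => ?_⟩
    show x ∈ g.support
    by_contra hxs
    rw [Finset.mem_coe, mem_support] at hx
    apply hx
    obtain ⟨y, hy, rfl⟩ : ∃ y, y ∉ g.support ∧ σ y = x :=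
      ⟨σ.symm x, fun hy => hxs (by rw [← σ.apply_symm_apply x, hσ _ hy]; exact hy),
        σ.apply_symm_apply x⟩
    rw [hg'def, ← hh' y hy]
    simp [notMem_support.mp hy]
  have hord' : orderOf g' = p := by
    rw [hg'def, ← MulAut.conj_apply, MulEquiv.orderOf_eq, hord]
  have hsyl : ∀ x : Perm α, ∀ hx : x ∈ H, orderOf x = p →
      ∃ P : Sylow p H, (P : Subgroup H) = Subgroup.zpowers (⟨x, hx⟩ : H) := by
    intro x hx hox
    have hc : Nat.card (Subgroup.zpowers (⟨x, hx⟩ : H)) = p := by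
      rw [Nat.card_zpowers, Subgroup.orderOf_mk, hox]
    obtain ⟨P, hP⟩ := (IsPGroup.of_card (n := 1) (hc.trans (pow_one p).symm)).exists_le_sylow
    refine ⟨P, (Subgroup.eq_of_le_of_card_ge hP ?_).symm⟩
    obtain ⟨i, hi⟩ := IsPGroup.iff_card.mp P.2
    have hd : p ^ i ∣ Nat.card H := hi ▸ Subgroup.card_subgroup_dvd_card _
    rw [hc, hi]
    rcases Nat.lt_or_ge i 2 with h2 | h2
    · calc p ^ i ≤ p ^ 1 := Nat.pow_le_pow_right hp.pos (by omega)
        _ = p := pow_one p
    · exact absurd ((pow_dvd_pow p h2).trans hd) hdvd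
  obtain ⟨P, hP⟩ := hsyl g hgH hord
  obtain ⟨P', hP'⟩ := hsyl g' hg'H hord'
  obtain ⟨k, hk⟩ := MulAction.exists_smul_eq H P' P
  have hmem : (k : Perm α) * g' * (k : Perm α)⁻¹ ∈ Subgroup.zpowers g := by
    have h1 : k * (⟨g', hg'H⟩ : H) * k⁻¹ ∈ ((k • P' : Sylow p H) : Subgroup H) := by
      rw [Sylow.coe_subgroup_smul]
      exact Subgroup.smul_mem_pointwise_smul _ _ _ (hP'.symm ▸ Subgroup.mem_zpowers _)
    rw [hk, hP] at h1
    obtain ⟨i, hi⟩ := h1
    exact ⟨i, congrArg Subtype.val hi⟩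
  refine ⟨(k : Perm α) * h, G.mul_mem k.2.1 h.2, fun x hx => ?_, ?_⟩
  · rw [Perm.mul_apply, hh' x hx]
    have hk' : ((k : Perm α).support : Set α) ⊆ Set.ofPred (fun x => x ∈ g.support) :=
      mem_range_ofSubtype_iff.mp k.2.2
    by_contra hne
    exact hσ' x hx (hk' (Finset.mem_coe.mpr (mem_support.mpr hne)))
  · rwa [mul_inv_rev, ← mul_assoc, mul_assoc (k : Perm α) (h : Perm α) g, mul_assoc (k : Perm α),
      ← hg'def]

theorem exists_normalizing {G : Subgroup (Perm α)} {p : ℕ} (hp : p.Prime) {g : Perm α}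
    (hgc : g.IsCycle) (hgp : g.support.card = p) (hg : g ∈ G)
    (htrans : IsMultiplyPretransitive G α (Fintype.card {x : α // x ∉ g.support}))
    (σ : Perm α) (hσ : ∀ x, x ∈ g.support → σ x = x) :
    ∃ n ∈ G, (∀ x, x ∉ g.support → n x = σ x) ∧ n * g * n⁻¹ ∈ Subgroup.zpowers g := by
  refine exists_normalizing_of_card hp (by rw [hgc.orderOf, hgp]) hg (fun h => ?_) htrans σ hσ
  refine not_sq_prime_dvd_factorial hp (h.trans ((Subgroup.card_dvd_of_le inf_le_right).trans
    (dvd_of_eq ?_)))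
  rw [← Nat.card_congr (MonoidHom.ofInjective ofSubtype_injective).toEquiv, Nat.card_perm,
    Nat.card_eq_finsetCard, hgp]

/-- From two normalizing elements inducing the transpositions `(a b)`, `(b c)` on the fixed points,
an element commuting with `g` and inducing a three-cycle there. -/
theorem exists_commute_three_cycle {G : Subgroup (Perm α)} {g : Perm α}
    (hall : ∀ σ : Perm α, (∀ x, x ∈ g.support → σ x = x) →
      ∃ n ∈ G, (∀ x, x ∉ g.support → n x = σ x) ∧ n * g * n⁻¹ ∈ Subgroup.zpowers g)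
    {a b c : α} (ha : a ∉ g.support) (hb : b ∉ g.support) (hc : c ∉ g.support)
    (hab : a ≠ b) (hac : a ≠ c) (hbc : b ≠ c) :
    ∃ w ∈ G, Commute w g ∧ ∃ π : Perm α, π.IsThreeCycle ∧ (∀ x, x ∈ g.support → π x = x) ∧
      ∀ x, x ∉ g.support → w x = π x := by
  classical
  have hsw : ∀ u v : α, u ∉ g.support → v ∉ g.support → ∀ x, x ∈ g.support → swap u v x = x :=
    fun u v hu hv x hx => swap_apply_of_ne_of_ne (fun h => hu (h ▸ hx)) (fun h => hv (h ▸ hx))
  obtain ⟨s, hsG, hs1, hs2⟩ := hall _ (hsw a b ha hb)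
  obtain ⟨t, htG, ht1, ht2⟩ := hall _ (hsw b c hb hc)
  obtain ⟨i, hi⟩ := hs2
  obtain ⟨j, hj⟩ := ht2
  have hi' : s * g * s⁻¹ = g ^ i := hi.symm
  have hj' : t * g * t⁻¹ = g ^ j := hj.symm
  set w := (t * s)⁻¹ * (s * t) with hw
  have h1 : (s * t) * g * (s * t)⁻¹ = (t * s) * g * (t * s)⁻¹ := by
    calc (s * t) * g * (s * t)⁻¹ = s * (t * g * t⁻¹) * s⁻¹ := by group
      _ = (s * g * s⁻¹) ^ j := by rw [hj', conj_zpow]
      _ = (t * g * t⁻¹) ^ i := by rw [hi', hj', ← zpow_mul, ← zpow_mul, mul_comm]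
      _ = (t * s) * g * (t * s)⁻¹ := by rw [conj_zpow, ← hi']; group
  have hcomm : Commute w g := by
    show w * g = g * w
    calc w * g = (t * s)⁻¹ * ((s * t) * g * (s * t)⁻¹) * (s * t) := by rw [hw]; group
      _ = (t * s)⁻¹ * ((t * s) * g * (t * s)⁻¹) * (s * t) := by rw [h1]
      _ = g * w := by rw [hw]; group
  set σ : Perm α := swap a b with hσ
  set τ : Perm α := swap b c with hτ
  refine ⟨w, G.mul_mem (G.inv_mem (G.mul_mem htG hsG)) (G.mul_mem hsG htG), hcomm,
    σ * τ * (σ * τ), ?_, fun x hx => ?_, fun x hx => ?_⟩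
  · have h3c : IsThreeCycle (σ * τ) := by
      rw [hσ, hτ, swap_comm a b]
      exact isThreeCycle_swap_mul_swap_same hab.symm hbc hac
    exact h3c.isThreeCycle_sq
  · simp only [Perm.mul_apply, hσ, hτ, hsw a b ha hb x hx, hsw b c hb hc x hx]
  · have hout : ∀ (u : Perm α) (v v' : α) (y : α), v ∉ g.support → v' ∉ g.support →
        (∀ y, y ∉ g.support → u y = swap v v' y) → y ∉ g.support →
        u⁻¹ y = swap v v' y ∧ swap v v' y ∉ g.support := by
      intro u v v' y hv hv' hu hy
      have h3 : swap v v' y ∉ g.support := fun h => hy (by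
        have := hsw v v' hv hv' _ h
        rw [swap_apply_self] at this
        rw [this]; exact h)
      refine ⟨?_, h3⟩
      rw [Perm.inv_eq_iff_eq, hu _ h3, swap_apply_self]
    have e1 := ht1 x hx
    obtain ⟨-, m1⟩ := hout t b c x hb hc ht1 hx
    have e2 := hs1 _ m1
    obtain ⟨-, m2⟩ := hout s a b _ ha hb hs1 m1
    obtain ⟨e3, m3⟩ := hout t b c _ hb hc ht1 m2
    obtain ⟨e4, -⟩ := hout s a b _ ha hb hs1 m3
    simp only [hw, mul_inv_rev, Perm.mul_apply, e1, e2, e3, e4, hσ, hτ]

/-- Jordan: a primitive group with a `p`-cycle, `p ≤ n - 3` prime, contains the alternating group. -/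
theorem alternatingGroup_le_of_prime_cycle {G : Subgroup (Perm α)} (hG : IsPreprimitive G α)
    {p : ℕ} (hp : p.Prime) (hpn : p + 3 ≤ Fintype.card α) {g : Perm α} (hgc : g.IsCycle)
    (hgp : g.support.card = p) (hg : g ∈ G) : alternatingGroup α ≤ G := by
  classical
  have hp2 := hp.two_le
  set k := Fintype.card {x : α // x ∉ g.support} with hk
  have hkp : k + p = Fintype.card α := by
    rw [hk, Fintype.card_subtype_compl, Fintype.card_coe, hgp]
    omega
  have hs : Set.ncard ((g.support : Set α)ᶜ) = (k - 1) + 1 := by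
    rw [Set.ncard_compl, Set.ncard_coe_finset, hgp, Nat.card_eq_fintype_card]
    omega
  haveI := isPretransitive_of_isCycle_mem hgc hg
  have hprim : IsPreprimitive (fixingSubgroup G (g.support : Set α)ᶜ)
      (SubMulAction.ofFixingSubgroup G (g.support : Set α)ᶜ) := by
    refine IsPreprimitive.of_prime_card ?_
    have : Nat.card (SubMulAction.ofFixingSubgroup G (g.support : Set α)ᶜ) = p := by
      rw [← hgp, ← Nat.card_eq_finsetCard]
      exact Nat.card_congr (Equiv.subtypeEquivRight fun x => by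
        simp [SubMulAction.mem_ofFixingSubgroup_iff])
    rwa [this]
  have hmp := hG.isMultiplyPreprimitive hs (by rw [Nat.card_eq_fintype_card]; omega) hprim
  haveI := hmp.isMultiplyPretransitive
  have htrans : IsMultiplyPretransitive G α k :=
    isMultiplyPretransitive_of_le (n := k - 1 + 2) (by omega)
      (by rw [Nat.card_eq_fintype_card]; omega)
  obtain ⟨a, b, c, ha, hb, hc, hab, hac, hbc⟩ := Finset.two_lt_card_iff.mp
    (show 2 < (g.supportᶜ : Finset α).card by rw [Finset.card_compl, hgp]; omega)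
  obtain ⟨w, hwG, hcomm, π, hπ, hπ1, hπ2⟩ := exists_commute_three_cycle
    (fun σ hσ => exists_normalizing hp hgc hgp hg htrans σ hσ) (Finset.mem_compl.mp ha)
    (Finset.mem_compl.mp hb) (Finset.mem_compl.mp hc) hab hac hbc
  obtain ⟨hc', l, hl⟩ := hgc.commute_iff.mp hcomm
  have hl' : g ^ l = ofSubtype (w.subtypePerm hc') := hl
  have hinside : ∀ x, x ∈ g.support → (g ^ l) x = w x := fun x hx => by
    rw [hl', ofSubtype_apply_of_mem _ hx]; rfl
  have houtside : ∀ x, x ∉ g.support → (g ^ l) x = x := fun x hx => by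
    rw [hl', ofSubtype_apply_of_not_mem _ hx]
  have hzeq : w * (g ^ l)⁻¹ = π := by
    ext x
    by_cases hx : x ∈ g.support
    · have hy : ((g ^ l)⁻¹ : Perm α) x ∈ g.support := by
        by_contra hy
        have := houtside _ hy
        rw [show (g ^ l) (((g ^ l)⁻¹ : Perm α) x) = x from (g ^ l).apply_symm_apply x] at this
        exact hy (this ▸ hx)
      rw [Perm.mul_apply, ← hinside _ hy, hπ1 x hx]
      exact (g ^ l).apply_symm_apply x
    · have hy : ((g ^ l)⁻¹ : Perm α) x = x := by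
        rw [Perm.inv_eq_iff_eq]; exact (houtside x hx).symm
      rw [Perm.mul_apply, hy, hπ2 x hx]
  exact alternatingGroup_le_of_isPreprimitive_of_isThreeCycle_mem hG hπ
    (hzeq ▸ G.mul_mem hwG (G.inv_mem (G.zpow_mem hg l)))

end Cfsg.Lib.Fusion
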