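import Cfsg.Agent.Lib.PGroup.MaxClassUniform
import Cfsg.Agent.Lib.Core.Cores
import Cfsg.Prelude.Def_CaseTheorems

/-!
# Sylow subgroups of maximal class all of whose uniform elements are fused deeper

If no `p`-element has a centralizer with `p`-part `p²`, every uniform element `x` is conjugate to an
element `w` of some `γ_k` by an element normalizing all `γ_m`, `m > k`. Consequently every proper
normal subgroup is central, so the group is quasisimple.
-/

set_option autoImplicit false
set_option linter.unusedSectionVars false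

namespace Cfsg.Lib.Fusion.MaxClassSylow

open Subgroup Cfsg.Lib.PGroup.MaxClass Cfsg.Lib.PGroup.Uniform
open scoped commutatorElement

universe u v

variable {p : ℕ} [hp : Fact p.Prime]

local notation:max "γ[" k "]" => (Subgroup.lowerCentralSeries (⊤ : Subgroup _) k)

section
variable {X : Type u} [Group X] [Finite X] {n : ℕ} (h : IsMax p X n)
include h

theorem last_central {z : X} (hz : z ∈ γ[n - 2]) (g : X) : g * z = z * g := by
  have hn := h.three
  have h1 := mem_gamma_succ hz g
  rw [gamma_eq_bot h (show n - 1 ≤ n - 2 + 1 by omega), mem_bot, commutatorElement_eq_one_iff_mul_comm] at h1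
  exact h1.symm

theorem exists_last : ∃ z : X, orderOf z = p ∧ zpowers z = γ[n - 2] := by
  have hn := h.three
  have hc : Nat.card (γ[n - 2] : Subgroup X) = p := by
    rw [card_gamma h (n - 2) (by omega) (by omega), show n - 1 - (n - 2) = 1 by omega, pow_one]
  obtain ⟨z, hz, hz'⟩ := exists_of_level h (show 1 ≤ n - 2 by omega) (by omega)
  have hle : zpowers z ≤ γ[n - 2] := zpowers_le.2 hz
  have heq : zpowers z = γ[n - 2] := by
    have := sup_zpowers h (show 1 ≤ n - 2 by omega) hz hz'
    rwa [gamma_eq_bot h (show n - 1 ≤ n - 2 + 1 by omega), sup_bot_eq] at this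
  exact ⟨z, by rw [← Nat.card_zpowers, heq, hc], heq⟩

theorem centralizer_inf {x : X} (hx : x ∉ γ[1]) (hCx : Nat.card (centralizer ({x} : Set X)) = p ^ 2) :
    centralizer ({x} : Set X) ⊓ γ[1] = γ[n - 2] := by
  have hn := h.three
  refine (eq_of_le_of_card_ge (le_inf ?_ (Subgroup.lowerCentralSeries_antitone _ (by omega))) ?_).symm
  · intro z hz
    rw [mem_centralizer_singleton_iff]
    exact (last_central h hz x).symm
  · have hlt : centralizer ({x} : Set X) ⊓ γ[1] < centralizer ({x} : Set X) :=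
      lt_of_le_of_ne inf_le_left fun e => hx ((e.symm ▸ mem_centralizer_singleton_iff.2 rfl :
        x ∈ centralizer ({x} : Set X) ⊓ γ[1]).2)
    have h1 := Cfsg.Lib.Fusion.card_lt_card_of_lt hlt
    obtain ⟨i, hi⟩ := IsPGroup.iff_card.1 ((isPGroup h).to_subgroup (centralizer ({x} : Set X) ⊓ γ[1]))
    rw [hi, hCx] at h1
    rw [hi, card_gamma h (n - 2) (by omega) (by omega)]
    have := (Nat.pow_lt_pow_iff_right hp.out.one_lt).1 h1
    exact Nat.pow_le_pow_right hp.out.pos (by omega)

/-- A power of any noncentral element of the centralizer of a uniform `x` is conjugate to `x`. -/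
theorem exists_conj_pow {x : X} (hx : x ∉ γ[1]) (hCx : Nat.card (centralizer ({x} : Set X)) = p ^ 2)
    {e : X} (he : e ∈ centralizer ({x} : Set X)) (he' : e ∉ γ[n - 2]) :
    ∃ (a : ℤ) (u : X), u * x * u⁻¹ = e ^ a := by
  set C := centralizer ({x} : Set X) with hC
  have hn := h.three
  have heg : e ∉ γ[1] := fun hm => he' (centralizer_inf h hx hCx ▸ ⟨he, hm⟩)
  set D := (γ[1] : Subgroup X).subgroupOf C with hD
  have hDi : D.index = p := by
    have h1 := Cfsg.Lib.Core.card_mul_relIndex (inf_le_left : C ⊓ γ[1] ≤ C)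
    rw [inf_relIndex_left, centralizer_inf h hx hCx, hCx, card_gamma h (n - 2) (by omega) (by omega),
      show n - 1 - (n - 2) = 1 by omega, pow_one, sq] at h1
    exact Nat.eq_of_mul_eq_mul_left hp.out.pos h1
  haveI : D.Normal := inferInstance
  have htop := Cfsg.Lib.PGroup.sup_zpowers_eq_top_of_index (p := p) hDi
    (show (⟨e, he⟩ : C) ∉ D from fun hm => heg (mem_subgroupOf.1 hm))
  obtain ⟨d, hd, w, hw, hdw⟩ := mem_sup_of_normal_left.1
    (htop ▸ mem_top (⟨x, mem_centralizer_singleton_iff.2 rfl⟩ : C) :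
      (⟨x, mem_centralizer_singleton_iff.2 rfl⟩ : C) ∈ D ⊔ zpowers (⟨e, he⟩ : C))
  obtain ⟨a, rfl⟩ := mem_zpowers_iff.1 hw
  have h2 : (d : X) * e ^ a = x := by
    have := congrArg Subtype.val hdw
    simpa using this
  obtain ⟨u, hu⟩ := Cfsg.Lib.PGroup.Uniform.exists_conj h hCx (inv_mem (mem_subgroupOf.1 hd))
  refine ⟨a, u, ?_⟩
  rw [hu]
  exact inv_mul_eq_iff_eq_mul.2 h2.symm

end

/-- The fusion chain. -/
theorem exists_fused : ∀ (n : ℕ) {X : Type u} [Group X] [Finite X], IsMax p X n →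
    ∀ {G : Type v} [Group G] [Finite G] (τ : X →* G), Function.Injective τ → ¬ p ∣ τ.range.index →
    ∀ x : X, x ∉ γ[1] → Nat.card (centralizer ({x} : Set X)) = p ^ 2 →
    p ^ 3 ∣ Nat.card (centralizer ({τ x} : Set G)) →
    ∃ (k : ℕ) (g : G) (w : X), 1 ≤ k ∧ w ∈ γ[k] ∧ g * τ w * g⁻¹ = τ x ∧
      ∀ m, k < m → ∀ v ∈ (γ[m] : Subgroup X), g * τ v * g⁻¹ ∈ (γ[m] : Subgroup X).map τ := by
  intro n
  induction n using Nat.strong_induction_on with
  | _ n ih =>
  intro X _ _ h G _ _ τ hτ hidx x hx hCx hCG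
  have hn := h.three
  have hcase : (∃ (g : G) (w : X), w ∈ (γ[n - 2] : Subgroup X) ∧ g * τ w * g⁻¹ = τ x) →
      ∃ (k : ℕ) (g : G) (w : X), 1 ≤ k ∧ w ∈ γ[k] ∧ g * τ w * g⁻¹ = τ x ∧
        ∀ m, k < m → ∀ v ∈ (γ[m] : Subgroup X), g * τ v * g⁻¹ ∈ (γ[m] : Subgroup X).map τ := by
    rintro ⟨g, w, hw, hgw⟩
    refine ⟨n - 2, g, w, by omega, hw, hgw, fun m hm v hv => ?_⟩
    rw [gamma_eq_bot h (show n - 1 ≤ m by omega), mem_bot] at hv
    rw [hv, map_one, mul_one, mul_inv_cancel]
    exact one_mem _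
  have hX := isPGroup h
  have hPc : Nat.card τ.range = p ^ n := by
    rw [← h.card]; exact (Nat.card_congr (MonoidHom.ofInjective hτ).toEquiv).symm
  have hP : IsPGroup p τ.range := IsPGroup.of_card hPc
  set C := centralizer ({τ x} : Set G) with hC
  rcases Nat.eq_or_lt_of_le hn with hn3 | hn4
  · -- order `p³`
    apply hcase
    obtain ⟨K⟩ : Nonempty (Sylow p C) := inferInstance
    have hKc : p ^ 3 ∣ Nat.card K := by
      rw [K.card_eq_multiplicity]
      exact pow_dvd_pow p ((hp.out.pow_dvd_iff_le_factorization (Nat.card_pos).ne').1 hCG)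
    have hxC : τ x ∈ C := mem_centralizer_singleton_iff.2 rfl
    set xC : C := ⟨τ x, hxC⟩
    have hxc : ∀ c : C, c * xC = xC * c := fun c => Subtype.ext (mem_centralizer_singleton_iff.1 c.2)
    haveI : (zpowers xC).Normal := ⟨fun a ha g => by
      obtain ⟨i, rfl⟩ := mem_zpowers_iff.1 ha
      rw [((show Commute g xC from hxc g).zpow_right i).eq, mul_inv_cancel_right]
      exact ⟨i, rfl⟩⟩
    have hxp : IsPGroup p (zpowers xC) := by
      obtain ⟨k, hk⟩ := hX x
      refine IsPGroup.of_card (n := (Nat.card (zpowers xC)).factorization p) ?_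
      rw [Nat.card_zpowers]
      have hd : orderOf xC ∣ p ^ k := orderOf_dvd_of_pow_eq_one (Subtype.ext (by
        show τ x ^ p ^ k = 1
        rw [← map_pow, hk, map_one]))
      obtain ⟨i, -, hi⟩ := (Nat.dvd_prime_pow hp.out).1 hd
      rw [hi, hp.out.factorization_pow]
      simp
    have hxK : xC ∈ (K : Subgroup C) := by
      have h1 := K.3 (hxp.to_sup_of_normal_left K.2) le_sup_right
      exact h1 ▸ mem_sup_left (mem_zpowers xC)
    let P' : Sylow p G := IsPGroup.toSylow hP hidx
    have hK' : IsPGroup p ((K : Subgroup C).map C.subtype) := K.2.map _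
    obtain ⟨Q, hQ⟩ := hK'.exists_le_sylow
    have hQeq : (K : Subgroup C).map C.subtype = Q := by
      refine eq_of_le_of_card_ge hQ ?_
      rw [card_map_of_injective C.subtype_injective]
      refine Nat.le_of_dvd Nat.card_pos (dvd_trans ?_ hKc)
      rw [Q.card_eq_multiplicity, ← P'.card_eq_multiplicity]
      show Nat.card τ.range ∣ _
      rw [hPc, ← hn3]
    obtain ⟨g, hg⟩ := MulAction.exists_smul_eq G Q P'
    have hgr : ∀ q ∈ (Q : Subgroup G), g * q * g⁻¹ ∈ τ.range := by
      intro q hq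
      have h1 : g * q * g⁻¹ ∈ ((g • Q : Sylow p G) : Subgroup G) := by
        rw [Sylow.coe_subgroup_smul]
        exact Subgroup.mem_pointwise_smul_iff_inv_smul_mem.2 (by simpa [MulAut.smul_def, mul_assoc] using hq)
      rw [hg] at h1
      exact h1
    have hgr' : ∀ y : X, g⁻¹ * τ y * g ∈ C := by
      intro y
      have h1 : τ y ∈ ((g • Q : Sylow p G) : Subgroup G) := by rw [hg]; exact ⟨y, rfl⟩
      rw [Sylow.coe_subgroup_smul, Subgroup.mem_pointwise_smul_iff_inv_smul_mem] at h1
      have h2 : g⁻¹ * τ y * g ∈ (Q : Subgroup G) := by simpa [MulAut.smul_def, mul_assoc] using h1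
      rw [← hQeq] at h2
      exact map_subtype_le _ h2
    obtain ⟨w, hw⟩ := hgr (τ x) (hQeq ▸ mem_map_of_mem C.subtype hxK)
    have hwc : w ∈ center X := by
      refine mem_center_iff.2 fun y => hτ ?_
      have := mem_centralizer_singleton_iff.1 (hgr' y)
      rw [map_mul, map_mul, hw]
      calc τ y * (g * τ x * g⁻¹) = g * ((g⁻¹ * τ y * g) * τ x) * g⁻¹ := by group
        _ = g * (τ x * (g⁻¹ * τ y * g)) * g⁻¹ := by rw [this]
        _ = _ := by group
    refine ⟨g⁻¹, w, mem_last_of_central h ?_ hwc, by rw [hw]; group⟩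
    by_contra hne
    exact not_mem_center h hne hwc
  obtain ⟨z, hzo, hzg⟩ := exists_last h
  have hzmem : z ∈ (γ[n - 2] : Subgroup X) := hzg ▸ mem_zpowers z
  have hzc : ∀ g : X, g * z = z * g := last_central h hzmem
  set L := centralizer ({τ z} : Set G) with hL
  have hPL : ∀ v : X, τ v ∈ L := fun v => mem_centralizer_singleton_iff.2 (by
    rw [← map_mul, ← map_mul, hzc v])
  by_cases hA : ∃ (g : G) (w : X), w ∈ (γ[n - 2] : Subgroup X) ∧ g * τ w * g⁻¹ = τ x
  · exact hcase hA
  -- the centralizer of `x` has `p`-part at least `p³` inside `L` as well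
  have hCL : p ^ 3 ∣ Nat.card ↥(C ⊓ L) := by
    set E := (centralizer ({x} : Set X)).map τ with hE
    have hEc : Nat.card E = p ^ 2 := by rw [hE, card_map_of_injective hτ, hCx]
    have hEC : E ≤ C := by
      rintro _ ⟨e, he, rfl⟩
      rw [hC, mem_centralizer_singleton_iff, ← map_mul, ← map_mul, mem_centralizer_singleton_iff.1 he]
    obtain ⟨K, hK⟩ := ((IsPGroup.of_card hEc).comap_subtype (K := C)).exists_le_sylow
    set K' := (K : Subgroup C).map C.subtype with hK'
    have hEK : E ≤ K' := fun e he => ⟨⟨e, hEC he⟩, hK he, rfl⟩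
    have hK'p : IsPGroup p K' := K.2.map _
    have hK'c : p ^ 3 ∣ Nat.card K' := by
      rw [hK', card_map_of_injective C.subtype_injective, K.card_eq_multiplicity]
      exact pow_dvd_pow p ((hp.out.pow_dvd_iff_le_factorization (Nat.card_pos).ne').1 hCG)
    haveI := hK'p.isNilpotent
    have hne : E.subgroupOf K' < ⊤ := lt_top_iff_ne_top.2 fun e => by
      rw [subgroupOf_eq_top] at e
      have := hK'c
      rw [le_antisymm e hEK, hEc] at this
      exact absurd ((Nat.pow_dvd_pow_iff_le_right hp.out.one_lt).1 this) (by omega)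
    have hlt := Group.normalizerCondition_of_isNilpotent (G := K') _ hne
    obtain ⟨r, hr, hr'⟩ := SetLike.exists_of_lt hlt
    have hrE : ∀ e ∈ E, (r : G) * e * (r : G)⁻¹ ∈ E := fun e he => by
      have := (mem_normalizer_iff.1 hr ⟨e, hEK he⟩).1 (mem_subgroupOf.2 he)
      exact mem_subgroupOf.1 this
    obtain ⟨e, he, hre⟩ := hrE (τ z) (mem_map_of_mem τ (by
      rw [mem_centralizer_singleton_iff]; exact (hzc x).symm))
    have heZ : e ∈ (γ[n - 2] : Subgroup X) := by
      by_contra hne
      obtain ⟨a, u, hu⟩ := exists_conj_pow h hx hCx he hne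
      refine hA ⟨(τ u)⁻¹ * (r : G), z ^ a, zpow_mem hzmem a, ?_⟩
      have h1 : τ u * τ x * (τ u)⁻¹ = (r : G) * τ (z ^ a) * (r : G)⁻¹ := by
        rw [← map_inv, ← map_mul, ← map_mul, hu, map_zpow, hre, map_zpow, conj_zpow]
      rw [mul_inv_rev, inv_inv]
      calc (τ u)⁻¹ * (r : G) * τ (z ^ a) * ((r : G)⁻¹ * τ u)
          = (τ u)⁻¹ * ((r : G) * τ (z ^ a) * (r : G)⁻¹) * τ u := by group
        _ = τ x := by rw [← h1]; group
    -- so `r` centralizes `z`
    obtain ⟨i, hi⟩ := mem_zpowers_iff.1 (hzg.symm ▸ heZ : e ∈ zpowers z)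
    have hpow : ∀ j : ℕ, (r : G) ^ j * τ z * ((r : G) ^ j)⁻¹ = τ z ^ (i ^ j) := by
      intro j
      induction j with
      | zero => simp
      | succ j ihj =>
        calc (r : G) ^ (j + 1) * τ z * ((r : G) ^ (j + 1))⁻¹
            = (r : G) * ((r : G) ^ j * τ z * ((r : G) ^ j)⁻¹) * (r : G)⁻¹ := by rw [pow_succ']; group
          _ = (r : G) * τ z ^ (i ^ j) * (r : G)⁻¹ := by rw [ihj]
          _ = ((r : G) * τ z * (r : G)⁻¹) ^ (i ^ j) := conj_zpow.symm
          _ = τ z ^ (i ^ (j + 1)) := by rw [← hre, ← hi, map_zpow, ← zpow_mul, pow_succ']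
    obtain ⟨b, hb⟩ := hK'p r
    have hb' : (r : G) ^ p ^ b = 1 := by rw [← SubgroupClass.coe_pow, hb]; rfl
    have hiz : τ z ^ i = τ z := by
      have h1 := hpow (p ^ b)
      rw [hb', one_mul, inv_one, mul_one] at h1
      have ho : orderOf (τ z) = p := by rw [orderOf_injective τ hτ, hzo]
      nth_rewrite 1 [← zpow_one (τ z)] at h1
      rw [zpow_eq_zpow_iff_modEq, ho, ← ZMod.intCast_eq_intCast_iff] at h1
      push_cast at h1
      rw [ZMod.pow_card_pow] at h1
      nth_rewrite 2 [← zpow_one (τ z)]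
      rw [zpow_eq_zpow_iff_modEq, ho, ← ZMod.intCast_eq_intCast_iff, ← h1]
      simp
    have hrL : (r : G) ∈ L := by
      rw [hL, mem_centralizer_singleton_iff]
      have h2 : (r : G) * τ z * (r : G)⁻¹ = τ z := by rw [← hre, ← hi, map_zpow, hiz]
      exact mul_inv_eq_iff_eq_mul.1 h2
    set E1 := E ⊔ zpowers (r : G) with hE1
    have hEL : E ≤ L := by rintro _ ⟨v, -, rfl⟩; exact hPL v
    have hE1le : E1 ≤ C ⊓ L := sup_le (le_inf hEC hEL)
      (zpowers_le.2 ⟨map_subtype_le _ r.2, hrL⟩)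
    have hE1K : E1 ≤ K' := sup_le hEK (zpowers_le.2 r.2)
    obtain ⟨j, hj⟩ := IsPGroup.iff_card.1 (hK'p.to_le hE1K)
    have h1 : E < E1 := lt_of_le_of_ne le_sup_left fun e =>
      hr' (mem_subgroupOf.2 (e ▸ mem_sup_right (mem_zpowers (r : G))))
    have h2 := Cfsg.Lib.Fusion.card_lt_card_of_lt h1
    rw [hEc, hj] at h2
    refine dvd_trans ?_ (card_dvd_of_le hE1le)
    rw [hj]
    exact pow_dvd_pow p ((Nat.pow_lt_pow_iff_right hp.out.one_lt).1 h2)
  -- pass to `L / ⟨z⟩`
  let τL : X →* L := τ.codRestrict L hPL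
  set N := zpowers (τL z) with hN
  have hzL : ∀ l : L, l * τL z = τL z * l := fun l => Subtype.ext (mem_centralizer_singleton_iff.1 l.2)
  haveI hNn : N.Normal := ⟨fun a ha g => by
    obtain ⟨j, rfl⟩ := mem_zpowers_iff.1 ha
    rw [((show Commute g (τL z) from hzL g).zpow_right j).eq, mul_inv_cancel_right]
    exact ⟨j, rfl⟩⟩
  set π := QuotientGroup.mk' (γ[n - 2] : Subgroup X) with hπ
  have hle : (γ[n - 2] : Subgroup X) ≤ N.comap τL := by
    rw [← hzg, zpowers_le]; exact mem_zpowers _
  let τ' : X ⧸ (γ[n - 2] : Subgroup X) →* L ⧸ N := QuotientGroup.map _ N τL hle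
  have hτLinj : Function.Injective τL := fun a b hab => hτ (congrArg Subtype.val hab)
  have hcomap : N.comap τL = γ[n - 2] := by
    rw [hN, ← MonoidHom.map_zpowers, comap_map_eq_self_of_injective hτLinj, hzg]
  have hτ'inj : Function.Injective τ' := by
    rw [← MonoidHom.ker_eq_bot_iff, eq_bot_iff]
    intro q hq
    obtain ⟨v, rfl⟩ := QuotientGroup.mk'_surjective _ q
    rw [MonoidHom.mem_ker] at hq
    rw [mem_bot, QuotientGroup.mk'_apply, QuotientGroup.eq_one_iff, ← hcomap, mem_comap]
    exact (QuotientGroup.eq_one_iff _).1 hq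
  have hidx' : ¬ p ∣ τ'.range.index := by
    intro hd
    apply hidx
    refine dvd_trans hd ?_
    have h1 : τ'.range = τL.range.map (QuotientGroup.mk' N) := by
      rw [← MonoidHom.range_comp]
      refine le_antisymm ?_ ?_
      · rintro _ ⟨q, rfl⟩
        obtain ⟨v, rfl⟩ := QuotientGroup.mk'_surjective _ q
        exact ⟨v, rfl⟩
      · rintro _ ⟨v, rfl⟩
        exact ⟨π v, rfl⟩
    rw [h1, index_map, QuotientGroup.ker_mk', MonoidHom.range_eq_top.2 (QuotientGroup.mk'_surjective _),
      index_top, mul_one]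
    refine dvd_trans (index_dvd_of_le le_sup_left) ?_
    have h2 : τL.range = τ.range.subgroupOf L := by
      ext l
      constructor
      · rintro ⟨v, rfl⟩; exact mem_subgroupOf.2 ⟨v, rfl⟩
      · intro hl; obtain ⟨v, hv⟩ := mem_subgroupOf.1 hl; exact ⟨v, Subtype.ext hv⟩
    rw [h2]
    refine Dvd.intro L.index (relIndex_mul_index ?_)
    rintro _ ⟨v, rfl⟩
    exact hPL v
  have hq := isMax_quotient h (m := n - 2) (by omega) (by omega)
  rw [show n - 2 + 1 = n - 1 by omega] at hq
  have hx' : π x ∉ (γ[1] : Subgroup (X ⧸ (γ[n - 2] : Subgroup X))) := fun hm =>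
    hx ((mk_mem_gamma h (by omega)).1 hm)
  have hCx' : Nat.card (centralizer ({π x} : Set (X ⧸ (γ[n - 2] : Subgroup X)))) = p ^ 2 := by
    refine le_antisymm ?_ (sq_le_card_centralizer hq hx')
    set D := (centralizer ({π x} : Set (X ⧸ (γ[n - 2] : Subgroup X)))).comap π with hD
    have hDc : Nat.card D = Nat.card (centralizer ({π x} : Set (X ⧸ (γ[n - 2] : Subgroup X)))) * p := by
      have h1 := D.card_mul_index
      rw [hD, index_comap_of_surjective _ (QuotientGroup.mk'_surjective _), h.card] at h1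
      have h2 := card_mul_index (centralizer ({π x} : Set (X ⧸ (γ[n - 2] : Subgroup X))))
      rw [hq.card] at h2
      refine Nat.eq_of_mul_eq_mul_right (Nat.pos_of_ne_zero (index_ne_zero_of_finite
        (H := centralizer ({π x} : Set (X ⧸ (γ[n - 2] : Subgroup X)))))) ?_
      rw [h1, mul_right_comm, h2, ← pow_succ]
      congr 1; omega
    have hmem : ∀ g : D, ⁅(g : X), x⁆ ∈ (γ[n - 2] : Subgroup X) := fun g => by
      rw [← QuotientGroup.eq_one_iff, ← QuotientGroup.mk'_apply, map_commutatorElement,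
        commutatorElement_eq_one_iff_mul_comm]
      exact mem_centralizer_singleton_iff.1 g.2
    let f : D →* (γ[n - 2] : Subgroup X) := MonoidHom.mk' (fun g => ⟨⁅(g : X), x⁆, hmem g⟩) (by
      intro g g'
      refine Subtype.ext ?_
      show ⁅(g : X) * (g' : X), x⁆ = ⁅(g : X), x⁆ * ⁅(g' : X), x⁆
      have e : ⁅(g : X) * (g' : X), x⁆ = (g : X) * ⁅(g' : X), x⁆ * (g : X)⁻¹ * ⁅(g : X), x⁆ := by
        simp only [commutatorElement_def]; group
      rw [e, last_central h (hmem g') (g : X), mul_inv_cancel_right, last_central h (hmem g) ⁅(g' : X), x⁆])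
    have hker : Nat.card f.ker ≤ p ^ 2 := by
      rw [← hCx]
      refine Nat.card_le_card_of_injective (fun g => ⟨((g : D) : X), mem_centralizer_singleton_iff.2
        (commutatorElement_eq_one_iff_mul_comm.1 (congrArg Subtype.val (MonoidHom.mem_ker.1 g.2)))⟩) ?_
      intro a b hab
      exact Subtype.ext (Subtype.ext (Subtype.mk.inj hab))
    have hrng : Nat.card f.range ≤ p := by
      refine (card_le_card_group _).trans (le_of_eq ?_)
      rw [card_gamma h (n - 2) (by omega) (by omega), show n - 1 - (n - 2) = 1 by omega, pow_one]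
    have h3 : Nat.card D ≤ p ^ 2 * p := by
      rw [← card_mul_index f.ker, index_ker]
      exact Nat.mul_le_mul hker hrng
    rw [hDc] at h3
    exact Nat.le_of_mul_le_mul_right h3 hp.out.pos
  have hCG' : p ^ 3 ∣ Nat.card (centralizer ({τ' (π x)} : Set (L ⧸ N))) := by
    set D := (centralizer ({τ' (π x)} : Set (L ⧸ N))).comap (QuotientGroup.mk' N) with hD
    have hNc : Nat.card N = p := by
      rw [hN, Nat.card_zpowers, orderOf_injective τL hτLinj, hzo]
    have hDc : Nat.card D = Nat.card (centralizer ({τ' (π x)} : Set (L ⧸ N))) * p := by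
      have h1 := D.card_mul_index
      rw [hD, index_comap_of_surjective _ (QuotientGroup.mk'_surjective _)] at h1
      have h2 := card_mul_index (centralizer ({τ' (π x)} : Set (L ⧸ N)))
      refine Nat.eq_of_mul_eq_mul_right (Nat.pos_of_ne_zero (index_ne_zero_of_finite
        (H := centralizer ({τ' (π x)} : Set (L ⧸ N))))) ?_
      rw [h1, mul_right_comm, h2, ← hNc, ← card_eq_card_quotient_mul_card_subgroup]
    have hmem : ∀ g : D, ⁅(g : L), τL x⁆ ∈ N := fun g => by
      rw [← QuotientGroup.eq_one_iff, ← QuotientGroup.mk'_apply, map_commutatorElement,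
        commutatorElement_eq_one_iff_mul_comm]
      exact mem_centralizer_singleton_iff.1 g.2
    have hNcen : ∀ a ∈ N, ∀ l : L, l * a = a * l := by
      intro a ha l
      obtain ⟨j, rfl⟩ := mem_zpowers_iff.1 ha
      exact ((show Commute l (τL z) from hzL l).zpow_right j).eq
    let f : D →* N := MonoidHom.mk' (fun g => ⟨⁅(g : L), τL x⁆, hmem g⟩) (by
      intro g g'
      refine Subtype.ext ?_
      show ⁅(g : L) * (g' : L), τL x⁆ = ⁅(g : L), τL x⁆ * ⁅(g' : L), τL x⁆
      have e : ⁅(g : L) * (g' : L), τL x⁆ =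
          (g : L) * ⁅(g' : L), τL x⁆ * (g : L)⁻¹ * ⁅(g : L), τL x⁆ := by
        simp only [commutatorElement_def]; group
      rw [e, hNcen _ (hmem g') (g : L), mul_inv_cancel_right, hNcen _ (hmem g) ⁅(g' : L), τL x⁆])
    have hker : p ^ 3 ∣ Nat.card f.ker := by
      refine dvd_trans hCL (dvd_of_eq (Nat.card_congr
        { toFun := fun c => ⟨⟨⟨c.1, c.2.2⟩, ?_⟩, ?_⟩
          invFun := fun g => ⟨((g : D) : L), ⟨?_, ((g : D) : L).2⟩⟩
          left_inv := fun c => rfl
          right_inv := fun g => rfl }))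
      · rw [hD, mem_comap, mem_centralizer_singleton_iff]
        show QuotientGroup.mk' N _ * QuotientGroup.mk' N (τL x) = QuotientGroup.mk' N (τL x) * QuotientGroup.mk' N _
        rw [← map_mul, ← map_mul]
        exact congrArg _ (Subtype.ext (mem_centralizer_singleton_iff.1 c.2.1))
      · rw [MonoidHom.mem_ker]
        exact Subtype.ext (commutatorElement_eq_one_iff_mul_comm.2
          (Subtype.ext (mem_centralizer_singleton_iff.1 c.2.1)))
      · refine mem_centralizer_singleton_iff.2 ?_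
        exact congrArg Subtype.val (commutatorElement_eq_one_iff_mul_comm.1
          (congrArg Subtype.val (MonoidHom.mem_ker.1 g.2)))
    have hrng : Nat.card f.range = p := by
      rcases (Nat.dvd_prime hp.out).1 (hNc ▸ card_subgroup_dvd_card f.range) with h1 | h1
      · exfalso
        obtain ⟨y, hy, hy'⟩ := exists_of_level h (show 1 ≤ n - 3 by omega) (by omega)
        rw [show n - 3 + 1 = n - 2 by omega] at hy'
        have hyx : ⁅y, x⁆ ∈ (γ[n - 2] : Subgroup X) := by
          have := mem_gamma_succ hy x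
          rwa [show n - 3 + 1 = n - 2 by omega] at this
        have hyD : τL y ∈ D := by
          rw [hD, mem_comap, mem_centralizer_singleton_iff]
          show QuotientGroup.mk' N (τL y) * QuotientGroup.mk' N (τL x) =
            QuotientGroup.mk' N (τL x) * QuotientGroup.mk' N (τL y)
          rw [← commutatorElement_eq_one_iff_mul_comm, ← map_commutatorElement, ← map_commutatorElement]
          exact (QuotientGroup.eq_one_iff _).2 (hle hyx)
        have h2 : f ⟨τL y, hyD⟩ = 1 := by
          have h3 : f ⟨τL y, hyD⟩ ∈ f.range := ⟨_, rfl⟩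
          rw [card_eq_one.1 h1, mem_bot] at h3
          exact h3
        have h4 : ⁅y, x⁆ = 1 := hτLinj (by
          rw [map_commutatorElement, map_one]; exact congrArg Subtype.val h2)
        refine hy' (centralizer_inf h hx hCx ▸ ⟨?_, Subgroup.lowerCentralSeries_antitone _ (by omega) hy⟩)
        refine mem_centralizer_singleton_iff.2 ?_
        exact commutatorElement_eq_one_iff_mul_comm.1 h4
      · exact h1
    have h3 : p ^ 3 * p ∣ Nat.card D := by
      rw [← card_mul_index f.ker, index_ker, hrng]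
      exact Nat.mul_dvd_mul_right hker p
    rw [hDc] at h3
    exact (Nat.mul_dvd_mul_iff_right hp.out.pos).1 h3
  obtain ⟨k, g', w', hk, hw', hgw', hnorm⟩ :=
    ih (n - 1) (by omega) hq τ' hτ'inj hidx' (π x) hx' hCx' hCG'
  obtain ⟨gL, rfl⟩ := QuotientGroup.mk'_surjective N g'
  obtain ⟨w, rfl⟩ := QuotientGroup.mk'_surjective _ w'
  have hk2 : k < n - 2 := by
    by_contra hc
    rw [gamma_eq_bot hq (show n - 1 - 1 ≤ k by omega), mem_bot] at hw'
    rw [hw', map_one, mul_one, mul_inv_cancel, eq_comm, ← map_one τ'] at hgw'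
    exact hx' (hτ'inj hgw' ▸ one_mem _)
  have hwk : w ∈ (γ[k] : Subgroup X) := (mk_mem_gamma h (by omega)).1 hw'
  -- lifting equations from the quotient
  have hlift : ∀ v v'' : X, QuotientGroup.mk' N gL * τ' (π v) * (QuotientGroup.mk' N gL)⁻¹ = τ' (π v'') →
      ∃ c ∈ (γ[n - 2] : Subgroup X), (gL : G) * τ v * (gL : G)⁻¹ = τ (v'' * c) := by
    intro v v'' hv
    have h1 : QuotientGroup.mk' N ((τL v'')⁻¹ * (gL * τL v * gL⁻¹)) = 1 := by
      rw [map_mul, map_inv, map_mul, map_mul, map_inv]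
      exact inv_mul_eq_one.2 hv.symm
    obtain ⟨j, hj⟩ := mem_zpowers_iff.1 ((QuotientGroup.eq_one_iff _).1 h1)
    refine ⟨z ^ j, zpow_mem hzmem j, ?_⟩
    have h2 : gL * τL v * gL⁻¹ = τL (v'' * z ^ j) := by rw [map_mul, map_zpow, hj, mul_inv_cancel_left]
    exact congrArg Subtype.val h2
  obtain ⟨c, hc, hgc⟩ := hlift w x hgw'
  obtain ⟨u, hu⟩ := Cfsg.Lib.PGroup.Uniform.exists_conj h hCx
    (Subgroup.lowerCentralSeries_antitone _ (show 1 ≤ n - 2 by omega) hc)
  refine ⟨k, (τ u)⁻¹ * (gL : G), w, hk, hwk, ?_, fun m hm v hv => ?_⟩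
  · skip
    skip
    rw [mul_inv_rev, inv_inv]
    calc (τ u)⁻¹ * (gL : G) * τ w * ((gL : G)⁻¹ * τ u)
        = (τ u)⁻¹ * ((gL : G) * τ w * (gL : G)⁻¹) * τ u := by group
      _ = (τ u)⁻¹ * τ (u * x * u⁻¹) * τ u := by rw [hgc, hu, last_central h hc x]
      _ = τ x := by rw [map_mul, map_mul, map_inv]; group
  · rcases Nat.lt_or_ge (n - 2) m with hm2 | hm2
    · rw [gamma_eq_bot h (show n - 1 ≤ m by omega), mem_bot] at hv
      rw [hv, map_one, mul_one, mul_inv_cancel]
      exact one_mem _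
    obtain ⟨v₁, hv₁, hv₁'⟩ := hnorm m hm (π v) ((mk_mem_gamma h hm2).2 hv)
    obtain ⟨v'', rfl⟩ := QuotientGroup.mk'_surjective _ v₁
    obtain ⟨c', hc', hgc'⟩ := hlift v v'' hv₁'.symm
    refine ⟨u⁻¹ * (v'' * c') * u, ?_, ?_⟩
    · have h1 := (inferInstance : (γ[m] : Subgroup X).Normal).conj_mem _
        (mul_mem ((mk_mem_gamma h hm2).1 hv₁) (Subgroup.lowerCentralSeries_antitone _ hm2 hc')) u⁻¹
      rwa [inv_inv] at h1
    · rw [map_mul, map_mul, map_inv, ← hgc']
      group

/-- For a normal subgroup `N`, the index of `T ⊓ N` in `N` divides the index of `T`. -/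
theorem relIndex_dvd_index_of_normal_right {G : Type v} [Group G] [Finite G] (T N : Subgroup G) [N.Normal] :
    T.relIndex N ∣ T.index := by
  have h1 := Cfsg.Lib.Core.card_mul_relIndex (le_sup_left : T ≤ T ⊔ N)
  have h2 := Cfsg.Lib.Core.card_mul_relIndex (le_sup_right : N ≤ T ⊔ N)
  rw [relIndex_sup_right] at h2
  have h3 := Cfsg.Lib.Core.card_mul_relIndex (inf_le_left : T ⊓ N ≤ T)
  rw [inf_relIndex_left] at h3
  have h4 := Cfsg.Lib.Core.card_mul_relIndex (inf_le_right : T ⊓ N ≤ N)
  rw [inf_relIndex_right] at h4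
  rw [← h2, ← h3, ← h4] at h1
  have h5 : T.relIndex (T ⊔ N) = T.relIndex N := by
    refine Nat.eq_of_mul_eq_mul_left (Nat.mul_pos (Nat.card_pos (α := ↥(T ⊓ N))) (Nat.pos_of_ne_zero
      (show N.relIndex T ≠ 0 from index_ne_zero_of_finite (H := N.subgroupOf T)))) ?_
    show Nat.card ↥(T ⊓ N) * N.relIndex T * T.relIndex (T ⊔ N) = Nat.card ↥(T ⊓ N) * N.relIndex T * T.relIndex N
    rw [h1]; ring
  exact h5 ▸ Dvd.intro _ (relIndex_mul_index le_sup_left)

section Main

variable {X : Type u} [Group X] [Finite X] {n : ℕ} (h : IsMax p X n) {G : Type v} [Group G] [Finite G]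
  (τ : X →* G) (hτ : Function.Injective τ) (hidx : ¬ p ∣ τ.range.index)
  (hall : ∀ x : X, Nat.card (centralizer ({x} : Set X)) = p ^ 2 → p ^ 3 ∣ Nat.card (centralizer ({τ x} : Set G)))
  (hcore : Cfsg.pPrimeCore p G = ⊥)
  (hres : ∀ N : Subgroup G, N.Normal → (N.index).Coprime p → N = ⊤)

include h hτ hidx hall hcore hres

theorem card_comap_le {N : Subgroup G} (hN : N.Normal) (hne : N ≠ ⊤) : Nat.card (N.comap τ) ≤ p := by
  have hn := h.three
  set T := N.comap τ with hT
  have hTtop : T ≠ ⊤ := fun e => hne (hres N hN (by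
    rw [Cfsg.Lib.Core.coprime_iff_not_dvd']
    intro hd
    refine hidx (dvd_trans hd (index_dvd_of_le ?_))
    rintro _ ⟨v, rfl⟩
    exact mem_comap.1 (e ▸ mem_top v : v ∈ T)))
  by_contra hlt
  push Not at hlt
  obtain ⟨x, hxT, hxg, hxC⟩ := exists_uniform h hTtop
  obtain ⟨k, g, w, hk, hw, hgw, hnorm⟩ := exists_fused n h τ hτ hidx x hxg hxC (hall x hxC)
  have hwT : w ∉ T := fun hm => hxT (mem_comap.2 (hgw ▸ hN.conj_mem _ (mem_comap.1 hm) g))
  haveI hTn : T.Normal := hN.comap τ
  have hTg : T ≤ γ[1] := by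
    by_contra hc
    have hab : (commutator X).index = p ^ 2 := by
      rw [← Subgroup.top_lowerCentralSeries_one]
      refine Nat.eq_of_mul_eq_mul_left (pow_pos hp.out.pos (n - 1 - 1)) ?_
      rw [← pow_add, show n - 1 - 1 + 2 = n by omega, ← h.card, ← card_gamma h 1 le_rfl (by omega), card_mul_index]
    rw [Subgroup.top_lowerCentralSeries_one] at hc
    rcases Cfsg.Lib.PGroup.CentralizerSq.eq_top_or_index (isPGroup h) hab hc with h1 | h1
    · exact hTtop h1
    · refine hwT (h1.2 ?_)
      rw [← Subgroup.top_lowerCentralSeries_one]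
      exact Subgroup.lowerCentralSeries_antitone _ hk hw
  classical
  have hTb : ¬ T ≤ γ[n - 1] := by
    rw [gamma_eq_bot h le_rfl, le_bot_iff]
    intro e
    rw [e, card_bot] at hlt
    have := hp.out.two_le
    omega
  have hex : ∃ m, ¬ T ≤ γ[m + 1] := ⟨n - 2, by rwa [show n - 2 + 1 = n - 1 by omega]⟩
  obtain ⟨m, hm1, hm2, hTm⟩ : ∃ m, 1 ≤ m ∧ m ≤ n - 2 ∧ T = γ[m] := by
    have h1 : ¬ T ≤ γ[Nat.find hex + 1] := Nat.find_spec hex
    have h2 : Nat.find hex ≤ n - 2 := Nat.find_min' hex (by rwa [show n - 2 + 1 = n - 1 by omega])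
    have h3 : 1 ≤ Nat.find hex := by
      by_contra hc
      exact h1 (by rw [show Nat.find hex = 0 by omega]; exact hTg)
    have h4 : T ≤ γ[Nat.find hex] := by
      have := Nat.find_min hex (show Nat.find hex - 1 < Nat.find hex by omega)
      rwa [not_not, show Nat.find hex - 1 + 1 = Nat.find hex by omega] at this
    exact ⟨_, h3, h2, eq_gamma_of_normal h h3 h4 h1⟩
  have hm3 : m + 3 ≤ n := by
    rw [hTm, card_gamma h m hm1 (by omega)] at hlt
    by_contra hc
    rw [show n - 1 - m = 1 by omega, pow_one] at hlt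
    exact lt_irrefl p hlt
  have hkm : k < m := by
    by_contra hc
    exact hwT (hTm ▸ Subgroup.lowerCentralSeries_antitone _ (le_of_not_gt hc) hw)
  set R := (γ[m] : Subgroup X) ⊓ centralizer ({x} : Set X) with hR
  have hmap : ∀ v : (γ[n - 3] : Subgroup X), ∃ r : R, τ (r : X) = g * τ (v : X) * g⁻¹ := by
    intro v
    obtain ⟨r, hr, hre⟩ := hnorm m hkm v (Subgroup.lowerCentralSeries_antitone _ (by omega) v.2)
    refine ⟨⟨r, hr, ?_⟩, hre⟩
    refine mem_centralizer_singleton_iff.2 ?_
    refine hτ ?_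
    have hcomm : (v : X) * w = w * (v : X) := by
      refine commutatorElement_eq_one_iff_mul_comm.1 ?_
      have := commutator_lcs_mem (k := n - 1) (i := n - 3) (j := 1) (by omega)
        (commutator_mem_commutator v.2 (Subgroup.lowerCentralSeries_antitone _ hk hw))
      rwa [gamma_eq_bot h le_rfl, mem_bot] at this
    rw [map_mul, map_mul, hre, ← hgw]
    calc g * τ v * g⁻¹ * (g * τ w * g⁻¹) = g * τ ((v : X) * w) * g⁻¹ := by rw [map_mul]; group
      _ = g * τ (w * (v : X)) * g⁻¹ := by rw [hcomm]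
      _ = _ := by rw [map_mul]; group
  choose r hr using hmap
  have hinj : Function.Injective r := fun a b hab => by
    have h1 := hr a
    rw [hab, hr b, mul_left_inj, mul_right_inj] at h1
    exact Subtype.ext (hτ h1.symm)
  have hcard := Nat.card_le_card_of_injective r hinj
  rw [card_gamma h (n - 3) (by omega) (by omega), show n - 1 - (n - 3) = 2 by omega, ← hxC] at hcard
  have heq : R = centralizer ({x} : Set X) := eq_of_le_of_card_ge inf_le_right hcard
  have h5 : x ∈ R := heq ▸ mem_centralizer_singleton_iff.2 rfl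
  exact hxT (hTm ▸ h5.1)

theorem comap_eq_last {N : Subgroup G} (hN : N.Normal) (hne : N ≠ ⊤) (hbot : N ≠ ⊥) :
    N.comap τ = γ[n - 2] := by
  have hn := h.three
  have hle := card_comap_le h τ hτ hidx hall hcore hres hN hne
  set T := N.comap τ with hT
  have hTb : T ≠ ⊥ := by
    intro e
    refine hbot (le_bot_iff.1 (hcore ▸ Cfsg.Lib.Core.le_pPrimeCore' hN ?_))
    rw [Cfsg.Lib.Core.coprime_iff_not_dvd']
    intro hd
    haveI := hN
    have h1 : τ.range ⊓ N = ⊥ := by
      rw [eq_bot_iff]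
      rintro _ ⟨⟨v, rfl⟩, hv⟩
      have h2 : v ∈ T := hv
      rw [e, mem_bot] at h2
      rw [mem_bot, h2, map_one]
    refine hidx (dvd_trans hd ?_)
    rw [← relIndex_bot_left N, ← h1, inf_relIndex_right]
    exact relIndex_dvd_index_of_normal_right _ N
  haveI hTn : T.Normal := hN.comap τ
  obtain ⟨i, hi⟩ := IsPGroup.iff_card.1 ((isPGroup h).to_subgroup T)
  have hTp : Nat.card T = p := by
    refine le_antisymm hle ?_
    rw [hi]
    refine Nat.le_self_pow ?_ p
    rintro rfl
    exact hTb (card_eq_one.1 (by rw [hi, pow_zero]))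
  haveI := (isPGroup h).isNilpotent
  have hc : T ≤ center X := by
    have h1 : (T ⊓ center X : Subgroup X) ≠ ⊥ := Cfsg.Lib.PGroup.inf_center_ne_bot (isPGroup h) hTb
    rcases (Nat.dvd_prime hp.out).1 (hTp ▸ card_dvd_of_le (inf_le_left : T ⊓ center X ≤ T)) with h2 | h2
    · exact absurd (card_eq_one.1 h2) h1
    · exact (eq_of_le_of_card_ge (inf_le_left : T ⊓ center X ≤ T) (by rw [h2, hTp])).ge.trans inf_le_right
  refine eq_of_le_of_card_ge (fun t ht => mem_last_of_central h ?_ (hc ht)) ?_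
  · by_contra hne'
    exact not_mem_center h hne' (hc ht)
  · rw [hTp, card_gamma h (n - 2) (by omega) (by omega), show n - 1 - (n - 2) = 1 by omega, pow_one]

theorem normal_structure {N : Subgroup G} (hN : N.Normal) (hne : N ≠ ⊤) (hbot : N ≠ ⊥) :
    N = (γ[n - 2] : Subgroup X).map τ ∧ N ≤ center G := by
  haveI := hN
  have hn := h.three
  obtain ⟨z, hzo, hzg⟩ := exists_last h
  have hzmem : z ∈ (γ[n - 2] : Subgroup X) := hzg ▸ mem_zpowers z
  set Z := zpowers (τ z) with hZ
  have hZe : Z = (γ[n - 2] : Subgroup X).map τ := by rw [← hzg, MonoidHom.map_zpowers]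
  have hcomap := comap_eq_last h τ hτ hidx hall hcore hres hN hne hbot
  have hrN : τ.range ⊓ N = Z := by
    rw [hZe, ← hcomap, map_comap_eq]
  have hZN : Z ≤ N := hrN ▸ inf_le_right
  have hzN : τ z ∈ N := hZN (mem_zpowers _)
  have hZc : Nat.card Z = p := by rw [hZ, Nat.card_zpowers, orderOf_injective τ hτ, hzo]
  have hZi : ¬ p ∣ Z.relIndex N := by
    intro hd
    refine hidx (dvd_trans hd ?_)
    rw [← hrN, inf_relIndex_right]
    exact relIndex_dvd_index_of_normal_right _ N
  have hNp : ¬ p ^ 2 ∣ Nat.card N := by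
    rw [← Cfsg.Lib.Core.card_mul_relIndex hZN, hZc, sq]
    exact fun hd => hZi ((Nat.mul_dvd_mul_iff_left hp.out.pos).1 hd)
  have hzZ : ∀ g : X, τ g * τ z = τ z * τ g := fun g => by rw [← map_mul, ← map_mul, last_central h hzmem g]
  by_cases hcen : ∀ a ∈ N, a ∈ normalizer (Z : Set G) → a * τ z = τ z * a
  · -- Burnside
    let S : Sylow p N := IsPGroup.toSylow (P := Z.subgroupOf N)
      (IsPGroup.of_card (n := 1) (by rw [pow_one, Nat.card_congr (subgroupOfEquivOfLe hZN).toEquiv, hZc])) hZi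
    have hnc : normalizer ((S : Subgroup N) : Set N) ≤ centralizer ((S : Subgroup N) : Set N) := by
      intro a ha
      have ha' : (a : G) ∈ normalizer (Z : Set G) := by
        refine mem_normalizer_fintype ?_
        intro q hq
        exact mem_subgroupOf.1 ((mem_normalizer_iff.1 ha ⟨q, hZN hq⟩).1 (mem_subgroupOf.2 hq))
      rw [mem_centralizer_iff]
      intro q hq
      obtain ⟨j, hj⟩ := mem_zpowers_iff.1 (mem_subgroupOf.1 hq)
      refine Subtype.ext ?_
      show (q : G) * (a : G) = (a : G) * (q : G)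
      rw [← hj]
      exact ((show Commute (a : G) (τ z) from hcen a a.2 ha').zpow_right j).eq.symm
    set K := (MonoidHom.transferSylow S hnc).ker with hK
    have hKbot : K = ⊥ := by
      have hKc : (Nat.card K).Coprime p :=
        Cfsg.Lib.Core.coprime_iff_not_dvd'.2 (MonoidHom.not_dvd_card_ker_transferSylow S hnc)
      have h1 : K ≤ Cfsg.pPrimeCore p N := Cfsg.Lib.Core.le_pPrimeCore' inferInstance hKc
      have h2 := (Subgroup.map_mono (f := N.subtype) h1).trans
        (Cfsg.Lib.Core.pPrimeCore_map_le_of_isSubnormal (p := p) (H := N) hN.isSubnormal)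
      rw [hcore, le_bot_iff, Subgroup.map_eq_bot_iff_of_injective _ N.subtype_injective] at h2
      exact h2
    have hS : (S : Subgroup N) = ⊤ := by
      have h1 := MonoidHom.ker_transferSylow_isComplement' S hnc
      rw [← hK, hKbot] at h1
      exact Subgroup.isComplement'_bot_left.1 h1
    have hNZ : N = Z := le_antisymm (fun a ha => by
      have h1 : (⟨a, ha⟩ : N) ∈ (S : Subgroup N) := hS ▸ mem_top _
      exact mem_subgroupOf.1 h1) hZN
    refine ⟨hNZ.trans hZe, ?_⟩
    haveI : IsCyclic N := by rw [hNZ, hZ]; infer_instance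
    let f : G →* MulAut N := MulAut.conjNormal
    have hker : f.ker = ⊤ := by
      refine hres _ inferInstance ?_
      rw [Cfsg.Lib.Core.coprime_iff_not_dvd', index_ker]
      intro hd
      have h1 := dvd_trans hd (card_subgroup_dvd_card f.range)
      rw [IsCyclic.card_mulAut, hNZ, hZc, Nat.totient_prime hp.out] at h1
      have := Nat.le_of_dvd (by have := hp.out.two_le; omega) h1
      have := hp.out.two_le
      omega
    intro a ha
    rw [mem_center_iff]
    intro g
    have h1 : f g = 1 := MonoidHom.mem_ker.1 (hker ▸ mem_top g)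
    have h2 := congrArg Subtype.val (DFunLike.congr_fun h1 (⟨a, ha⟩ : N))
    simp only [f, MulAut.conjNormal_apply, MulAut.one_apply] at h2
    exact mul_inv_eq_iff_eq_mul.1 h2
  · exfalso
    push Not at hcen
    obtain ⟨a, haN, haZ, hne'⟩ := hcen
    set C0 := N ⊓ centralizer ({τ z} : Set G) with hC0
    have hZC : Z ≤ C0 := zpowers_le.2 ⟨hzN, mem_centralizer_singleton_iff.2 rfl⟩
    have hzc0 : (⟨τ z, hZC (mem_zpowers _)⟩ : C0) ∈ center C0 :=
      mem_center_iff.2 fun q => Subtype.ext (mem_centralizer_singleton_iff.1 q.2.2)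
    obtain ⟨j, hj⟩ : p ∣ Nat.card (center C0) := by
      have h1 := orderOf_dvd_natCard (⟨_, hzc0⟩ : center C0)
      rwa [Subgroup.orderOf_mk, Subgroup.orderOf_mk, orderOf_injective τ hτ, hzo] at h1
    set i := (center C0).index with hi
    have hcard : Nat.card C0 = p * (j * i) := by rw [← card_mul_index (center C0), hj, mul_assoc]
    have hm : ¬ p ∣ j * i := fun hd => hNp (dvd_trans (by
      rw [hcard, sq]; exact Nat.mul_dvd_mul_left p hd) (card_dvd_of_le (inf_le_left : C0 ≤ N)))
    let σ : C0 →* C0 := MonoidHom.mk' (fun c => c ^ (i * j)) (by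
      intro c d
      have h1 := congrArg Subtype.val (map_mul (MonoidHom.transferCenterPow C0) c d)
      rw [MonoidHom.transferCenterPow_apply, Subgroup.coe_mul, MonoidHom.transferCenterPow_apply,
        MonoidHom.transferCenterPow_apply, ← hi] at h1
      show (c * d) ^ (i * j) = c ^ (i * j) * d ^ (i * j)
      rw [pow_mul, pow_mul, pow_mul, h1]
      refine Commute.mul_pow ?_ j
      exact (mem_center_iff.1 ((center C0).pow_index_mem c) _).symm)
    have hσZ : ∀ c : C0, ((σ c : C0) : G) ∈ Z := by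
      intro c
      set e : C0 := σ c with he
      have hep : e ^ p = 1 := by
        show (c ^ (i * j)) ^ p = 1
        rw [← pow_mul, show i * j * p = Nat.card C0 by rw [hcard]; ring]
        exact pow_card_eq_one'
      set zC : C0 := ⟨τ z, hZC (mem_zpowers _)⟩
      haveI : (zpowers zC).Normal := ⟨fun b hb g => by
        obtain ⟨l, rfl⟩ := mem_zpowers_iff.1 hb
        rw [((show Commute g zC from mem_center_iff.1 hzc0 g).zpow_right l).eq, mul_inv_cancel_right]
        exact ⟨l, rfl⟩⟩
      have hE : IsPGroup p (zpowers e) := by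
        rcases (Nat.dvd_prime hp.out).1 (orderOf_dvd_of_pow_eq_one hep) with h1 | h1
        · exact IsPGroup.of_card (n := 0) (by rw [Nat.card_zpowers, h1, pow_zero])
        · exact IsPGroup.of_card (n := 1) (by rw [Nat.card_zpowers, h1, pow_one])
      have hzCc : Nat.card (zpowers zC) = p := by
        rw [Nat.card_zpowers, Subgroup.orderOf_mk, orderOf_injective τ hτ, hzo]
      have hB := hE.to_sup_of_normal_right (IsPGroup.of_card (n := 1) (by rw [pow_one, hzCc]) :
        IsPGroup p (zpowers zC))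
      obtain ⟨l, hl⟩ := IsPGroup.iff_card.1 hB
      have hl1 : l ≤ 1 := by
        by_contra hc
        refine hNp (dvd_trans ?_ (card_dvd_of_le (inf_le_left : C0 ≤ N)))
        exact dvd_trans (hl ▸ pow_dvd_pow p (by omega : 2 ≤ l)) (card_subgroup_dvd_card _)
      have heq : zpowers zC = zpowers e ⊔ zpowers zC := by
        refine eq_of_le_of_card_ge le_sup_right ?_
        rw [hl, hzCc]
        exact le_of_le_of_eq (Nat.pow_le_pow_right hp.out.pos hl1) (pow_one p)
      obtain ⟨l, hl⟩ := mem_zpowers_iff.1 (heq ▸ mem_sup_left (mem_zpowers e) : e ∈ zpowers zC)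
      rw [← hl]
      exact ⟨l, rfl⟩
    have haz : ∀ {a : G}, a ∈ normalizer (Z : Set G) → ∀ g : X, τ g * (a * τ z * a⁻¹) = a * τ z * a⁻¹ * τ g := by
      intro a ha g
      obtain ⟨l, hl⟩ := mem_zpowers_iff.1 ((mem_normalizer_iff.1 ha (τ z)).1 (mem_zpowers _))
      rw [← hl]
      exact ((show Commute (τ g) (τ z) from hzZ g).zpow_right l).eq
    have hcmem : ∀ g : X, ⁅a, τ g⁆ ∈ C0 := by
      intro g
      refine ⟨?_, ?_⟩
      · rw [SetLike.mem_coe, commutatorElement_def, show a * τ g * a⁻¹ * (τ g)⁻¹ = a * (τ g * a⁻¹ * (τ g)⁻¹) by group]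
        exact mul_mem haN (hN.conj_mem _ (inv_mem haN) (τ g))
      · refine mem_centralizer_singleton_iff.2 ?_
        have e1 := haz (inv_mem haZ) g
        rw [inv_inv] at e1
        have e2 := hzZ g
        rw [commutatorElement_def]
        calc a * τ g * a⁻¹ * (τ g)⁻¹ * τ z = a * τ g * a⁻¹ * ((τ g)⁻¹ * τ z) := by group
          _ = a * τ g * a⁻¹ * (τ z * (τ g)⁻¹) := by
              rw [((show Commute (τ g) (τ z) from e2).inv_left).eq]
          _ = a * (τ g * (a⁻¹ * τ z * a)) * a⁻¹ * (τ g)⁻¹ := by group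
          _ = a * ((a⁻¹ * τ z * a) * τ g) * a⁻¹ * (τ g)⁻¹ := by rw [e1]
          _ = _ := by group
    let δ₀ : X → C0 := fun g => σ ⟨⁅a, τ g⁆, hcmem g⟩
    have hδ : ∀ g g' : X, δ₀ (g * g') = δ₀ g * δ₀ g' := by
      intro g g'
      refine Subtype.ext ?_
      obtain ⟨l, hl⟩ := mem_zpowers_iff.1 (hσZ ⟨⁅a, τ g'⁆, hcmem g'⟩)
      have hconj : τ g * ⁅a, τ g'⁆ * (τ g)⁻¹ ∈ C0 := by
        refine ⟨hN.conj_mem _ (hcmem g').1 _, ?_⟩
        refine mem_centralizer_singleton_iff.2 ?_
        have e2 := mem_centralizer_singleton_iff.1 (hcmem g').2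
        calc τ g * ⁅a, τ g'⁆ * (τ g)⁻¹ * τ z = τ g * ⁅a, τ g'⁆ * ((τ g)⁻¹ * τ z) := by group
          _ = τ g * ⁅a, τ g'⁆ * (τ z * (τ g)⁻¹) := by
              rw [((show Commute (τ g) (τ z) from hzZ g).inv_left).eq]
          _ = τ g * (⁅a, τ g'⁆ * τ z) * (τ g)⁻¹ := by group
          _ = τ g * (τ z * ⁅a, τ g'⁆) * (τ g)⁻¹ := by rw [e2]
          _ = τ g * τ z * ⁅a, τ g'⁆ * (τ g)⁻¹ := by group
          _ = τ z * τ g * ⁅a, τ g'⁆ * (τ g)⁻¹ := by rw [hzZ g]
          _ = _ := by group
      have e : (⟨⁅a, τ (g * g')⁆, hcmem (g * g')⟩ : C0) =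
          ⟨⁅a, τ g⁆, hcmem g⟩ * ⟨τ g * ⁅a, τ g'⁆ * (τ g)⁻¹, hconj⟩ := by
        refine Subtype.ext ?_
        show ⁅a, τ (g * g')⁆ = ⁅a, τ g⁆ * (τ g * ⁅a, τ g'⁆ * (τ g)⁻¹)
        simp only [map_mul, commutatorElement_def]; group
      show ((σ ⟨⁅a, τ (g * g')⁆, hcmem (g * g')⟩ : C0) : G) = _
      rw [e, map_mul, Subgroup.coe_mul, Subgroup.coe_mul]
      congr 1
      show (τ g * ⁅a, τ g'⁆ * (τ g)⁻¹) ^ (i * j) = _
      rw [conj_pow]
      have h3 : ⁅a, τ g'⁆ ^ (i * j) = τ z ^ l := hl.symm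
      show τ g * ⁅a, τ g'⁆ ^ (i * j) * (τ g)⁻¹ = ⁅a, τ g'⁆ ^ (i * j)
      rw [h3, ((show Commute (τ g) (τ z) from hzZ g).zpow_right l).eq, mul_inv_cancel_right]
    let δ : X →* C0 := MonoidHom.mk' δ₀ hδ
    have hδc : ∀ g g' : X, δ g * δ g' = δ g' * δ g := by
      intro g g'
      refine Subtype.ext ?_
      obtain ⟨l, hl⟩ := mem_zpowers_iff.1 (hσZ ⟨⁅a, τ g⁆, hcmem g⟩)
      obtain ⟨l', hl'⟩ := mem_zpowers_iff.1 (hσZ ⟨⁅a, τ g'⁆, hcmem g'⟩)
      show ((σ _ : C0) : G) * ((σ _ : C0) : G) = _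
      rw [Subgroup.coe_mul]
      show _ = ((σ ⟨⁅a, τ g'⁆, hcmem g'⟩ : C0) : G) * ((σ ⟨⁅a, τ g⁆, hcmem g⟩ : C0) : G)
      rw [← hl, ← hl', ← zpow_add, ← zpow_add, add_comm]
    have hδz : δ z = 1 := by
      have hzc : z ∈ commutator X := by
        rw [← Subgroup.top_lowerCentralSeries_one]
        exact Subgroup.lowerCentralSeries_antitone _ (by omega) hzmem
      refine MonoidHom.mem_ker.1 ((?_ : commutator X ≤ δ.ker) hzc)
      rw [_root_.commutator_def, commutator_le]
      intro b _ c _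
      rw [MonoidHom.mem_ker, map_commutatorElement, commutatorElement_eq_one_iff_mul_comm]
      exact hδc b c
    have h1 : ⁅a, τ z⁆ ^ (i * j) = 1 := congrArg Subtype.val hδz
    have h2 : ⁅a, τ z⁆ ∈ Z := by
      rw [commutatorElement_def]
      exact mul_mem ((mem_normalizer_iff.1 haZ (τ z)).1 (mem_zpowers _)) (inv_mem (mem_zpowers _))
    have h3 : orderOf ⁅a, τ z⁆ ∣ Nat.gcd (i * j) p :=
      Nat.dvd_gcd (orderOf_dvd_of_pow_eq_one h1) (hZc ▸ Subgroup.orderOf_dvd_natCard _ h2)
    rw [Nat.coprime_comm.1 (hp.out.coprime_iff_not_dvd.2 (mul_comm j i ▸ hm)), Nat.dvd_one,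
      orderOf_eq_one_iff, commutatorElement_eq_one_iff_mul_comm] at h3
    exact hne' h3

/-- The group is quasisimple, with centre of order at most `p`. -/
theorem quasisimple : Cfsg.IsQuasisimple G ∧ Nat.card (center G) ≤ p := by
  have hn := h.three
  obtain ⟨x, -, hxg, hxC⟩ := exists_uniform h (T := γ[1]) (fun e => by
    have h1 := card_gamma h 1 le_rfl (by omega)
    rw [e, card_top, h.card] at h1
    have := Nat.pow_right_injective hp.out.two_le h1
    omega)
  have hna : ¬ ∀ a b : G, a * b = b * a := fun hc => not_mem_center h hxg (mem_center_iff.2 fun y =>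
    hτ (by rw [map_mul, map_mul, hc]))
  have hperf : commutator G = ⊤ := by
    by_contra hne
    have hbot : commutator G ≠ ⊥ := fun e => hna fun a b => by
      refine commutatorElement_eq_one_iff_mul_comm.1 ?_
      have := commutator_mem_commutator (mem_top a) (mem_top b)
      rwa [← commutator_def, e, mem_bot] at this
    obtain ⟨hN, -⟩ := normal_structure h τ hτ hidx hall hcore hres inferInstance hne hbot
    have hr : commutator G ≤ τ.range := by
      rw [hN]; rintro _ ⟨v, -, rfl⟩; exact ⟨v, rfl⟩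
    haveI hrn : τ.range.Normal := ⟨fun b hb g => by
      have h1 := mul_mem (hr (commutator_mem_commutator (mem_top g) (mem_top b))) hb
      rwa [commutatorElement_def, inv_mul_cancel_right] at h1⟩
    have hcop : (Nat.card τ.range).Coprime τ.range.index := by
      rw [← Nat.card_congr (MonoidHom.ofInjective hτ).toEquiv, h.card]
      exact Nat.Coprime.pow_left _ (hp.out.coprime_iff_not_dvd.2 hidx)
    have h3 := hall x hxC
    obtain ⟨K⟩ : Nonempty (Sylow p (centralizer ({τ x} : Set G))) := inferInstance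
    have hle : (K : Subgroup (centralizer ({τ x} : Set G))).map (centralizer ({τ x} : Set G)).subtype ≤
        τ.range ⊓ centralizer ({τ x} : Set G) := by
      refine le_inf ?_ (map_subtype_le _)
      let P' : Sylow p G := IsPGroup.toSylow (IsPGroup.of_card (n := n) (by
        rw [← Nat.card_congr (MonoidHom.ofInjective hτ).toEquiv, h.card]) : IsPGroup p τ.range) hidx
      exact le_trans le_sup_left (P'.3 ((K.2.map _).to_sup_of_normal_right (show IsPGroup p τ.range from P'.2)) le_sup_right).le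
    have hc2 : Nat.card ↥(τ.range ⊓ centralizer ({τ x} : Set G)) = p ^ 2 := by
      rw [← hxC, ← card_map_of_injective (K := centralizer ({x} : Set X)) (f := τ) hτ]
      congr 1
      congr 1
      ext q
      constructor
      · rintro ⟨⟨v, rfl⟩, hv⟩
        exact mem_map_of_mem τ (mem_centralizer_singleton_iff.2 (hτ (by
          rw [map_mul, map_mul]; exact mem_centralizer_singleton_iff.1 hv)))
      · rintro ⟨v, hv, rfl⟩
        refine ⟨⟨v, rfl⟩, ?_⟩
        exact mem_centralizer_singleton_iff.2 (by rw [← map_mul, ← map_mul, mem_centralizer_singleton_iff.1 hv])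
    have h4 := card_dvd_of_le hle
    rw [card_map_of_injective (Subgroup.subtype_injective _), K.card_eq_multiplicity, hc2] at h4
    have h5 := (Nat.pow_dvd_pow_iff_le_right hp.out.one_lt).1 h4
    have h6 := (hp.out.pow_dvd_iff_le_factorization (Nat.card_pos (α := centralizer ({τ x} : Set G))).ne').1 h3
    omega
  have hZtop : center G ≠ ⊤ := fun e => hna fun a b =>
    (mem_center_iff.1 (e ▸ mem_top a : a ∈ center G) b).symm
  have hcc : ∀ N : Subgroup G, N.Normal → N ≠ ⊤ → N ≤ center G := by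
    intro N hN hne
    by_cases hb : N = ⊥
    · rw [hb]; exact bot_le
    · exact (normal_structure h τ hτ hidx hall hcore hres hN hne hb).2
  refine ⟨⟨⟨hperf⟩, ?_⟩, ?_⟩
  · haveI : Nontrivial (G ⧸ center G) := by
      rw [← Finite.one_lt_card_iff_nontrivial, ← index_eq_card]
      exact one_lt_index_of_ne_top hZtop
    refine ⟨fun M hM => ?_⟩
    by_cases htop : M.comap (QuotientGroup.mk' (center G)) = ⊤
    · right
      rw [← map_comap_eq_self_of_surjective (QuotientGroup.mk'_surjective (center G)) M, htop,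
        map_top_of_surjective _ (QuotientGroup.mk'_surjective _)]
    · left
      rw [← map_comap_eq_self_of_surjective (QuotientGroup.mk'_surjective (center G)) M, Subgroup.map_eq_bot_iff,
        QuotientGroup.ker_mk']
      exact hcc _ (hM.comap _) htop
  · by_cases hb : center G = ⊥
    · rw [hb, card_bot]; exact hp.out.one_lt.le
    · rw [(normal_structure h τ hτ hidx hall hcore hres inferInstance hZtop hb).1, card_map_of_injective hτ,
        card_gamma h (n - 2) (by omega) (by omega), show n - 1 - (n - 2) = 1 by omega, pow_one]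

end Main

end Cfsg.Lib.Fusion.MaxClassSylow
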