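import Mathlib.GroupTheory.Transfer
import Mathlib.GroupTheory.SpecificGroups.Cyclic
import Mathlib.GroupTheory.GroupAction.Quotient
import Mathlib.Tactic.IntervalCases
import Mathlib.Tactic.NormNum.Prime
import Mathlib.Tactic.NormNum.DivMod
import Mathlib.GroupTheory.Perm.Fin
import Mathlib.GroupTheory.IndexNormal

/-!
# Normalizers in a simple group of order 1092

In a simple group of order 1092 the normalizer of every non-trivial proper subgroup is maximal.
-/

set_option linter.style.haveILetI false
set_option autoImplicit false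

namespace Cfsg.Lib.Fusion.Order1092

open Subgroup
open scoped Pointwise

variable {G : Type*} [Group G] [Finite G] [IsSimpleGroup G] (hG : Nat.card G = 1092)

theorem normal_cases {H : Subgroup G} (hH : H.Normal) : H = ⊥ ∨ H = ⊤ :=
  hH.eq_bot_or_eq_top

theorem fact7 : Fact (Nat.Prime 7) := ⟨by norm_num⟩
theorem fact13 : Fact (Nat.Prime 13) := ⟨by norm_num⟩

include hG

theorem card_sylow_seven (P : Sylow 7 G) : Nat.card (P : Subgroup G) = 7 := by
  haveI := fact7
  rw [P.card_eq_multiplicity, hG, show (1092 : ℕ) = 7 ^ 1 * 156 by norm_num,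
    Nat.factorization_mul_apply_of_coprime (by norm_num), Nat.Prime.factorization_pow Fact.out,
    Nat.factorization_eq_zero_of_not_dvd (show ¬ 7 ∣ 156 by norm_num)]
  simp

theorem card_sylow_thirteen (P : Sylow 13 G) : Nat.card (P : Subgroup G) = 13 := by
  haveI := fact13
  rw [P.card_eq_multiplicity, hG, show (1092 : ℕ) = 13 ^ 1 * 84 by norm_num,
    Nat.factorization_mul_apply_of_coprime (by norm_num), Nat.Prime.factorization_pow Fact.out,
    Nat.factorization_eq_zero_of_not_dvd (show ¬ 13 ∣ 84 by norm_num)]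
  simp

theorem card_sylow_three (P : Sylow 3 G) : Nat.card (P : Subgroup G) = 3 := by
  haveI : Fact (Nat.Prime 3) := ⟨Nat.prime_three⟩
  rw [P.card_eq_multiplicity, hG, show (1092 : ℕ) = 3 ^ 1 * 364 by norm_num,
    Nat.factorization_mul_apply_of_coprime (by norm_num), Nat.Prime.factorization_pow Fact.out,
    Nat.factorization_eq_zero_of_not_dvd (show ¬ 3 ∣ 364 by norm_num)]
  simp

theorem card_sylow_two (P : Sylow 2 G) : Nat.card (P : Subgroup G) = 4 := by
  haveI : Fact (Nat.Prime 2) := ⟨Nat.prime_two⟩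
  rw [P.card_eq_multiplicity, hG, show (1092 : ℕ) = 2 ^ 2 * 273 by norm_num,
    Nat.factorization_mul_apply_of_coprime (by norm_num), Nat.Prime.factorization_pow Fact.out,
    Nat.factorization_eq_zero_of_not_dvd (show ¬ 2 ∣ 273 by norm_num)]
  simp

theorem normalizer_ne_top {H : Subgroup G} (h1 : H ≠ ⊥) (h2 : H ≠ ⊤) :
    normalizer (H : Set G) ≠ ⊤ := fun h =>
  (normal_cases (normalizer_eq_top_iff.mp h)).elim h1 h2

theorem sylow_normalizer_ne_top {p : ℕ} [hp : Fact p.Prime] (P : Sylow p G) {e : ℕ}
    (hP : Nat.card (P : Subgroup G) = e) (h1 : e ≠ 1) (h2 : e ≠ 1092) :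
    normalizer ((P : Subgroup G) : Set G) ≠ ⊤ := by
  refine normalizer_ne_top hG (fun h => h1 ?_) (fun h => h2 ?_)
  · rw [← hP, h, card_bot]
  · rw [← hP, h, card_top, hG]

/-- A subgroup of index less than 14 is everything. -/
theorem index_ge {H : Subgroup G} (hH : H ≠ ⊤) : 14 ≤ H.index := by
  classical
  by_contra hlt
  have hi1 : H.index ≠ 1 := fun h => hH (index_eq_one.mp h)
  have hdvd : H.index ∣ 1092 := hG ▸ H.index_dvd_card
  have hinj : Function.Injective (MulAction.toPermHom G (G ⧸ H)) := by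
    rw [← MonoidHom.ker_eq_bot_iff]
    refine (normal_cases (MonoidHom.normal_ker _)).resolve_right fun h => hH ?_
    rw [← normalCore_eq_ker] at h
    exact top_le_iff.mp (h ▸ normalCore_le H)
  have h13 : 13 ∣ H.index.factorial := by
    refine dvd_trans ?_ ((dvd_of_eq hG.symm).trans ((Subgroup.card_dvd_of_injective _ hinj).trans
      (dvd_of_eq (Nat.card_perm (α := G ⧸ H)))))
    norm_num
  rw [Nat.Prime.dvd_factorial (by norm_num)] at h13
  have h84 : Nat.card H = 84 := by
    have := H.card_mul_index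
    rw [hG, show H.index = 13 by omega] at this
    omega
  haveI := fact7
  obtain ⟨P⟩ : Nonempty (Sylow 7 H) := inferInstance
  have hPc : Nat.card (P : Subgroup H) = 7 := by
    rw [P.card_eq_multiplicity, h84, show (84 : ℕ) = 7 ^ 1 * 12 by norm_num,
      Nat.factorization_mul_apply_of_coprime (by norm_num), Nat.Prime.factorization_pow Fact.out,
      Nat.factorization_eq_zero_of_not_dvd (show ¬ 7 ∣ 12 by norm_num)]
    simp
  have hn : Nat.card (Sylow 7 H) = 1 := by
    have h1 : Nat.card (Sylow 7 H) ∣ 12 := by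
      have := P.card_dvd_index
      have h2 := (P : Subgroup H).card_mul_index
      rw [hPc, h84] at h2
      rwa [show (P : Subgroup H).index = 12 by omega] at this
    have h2 := card_sylow_modEq_one 7 H
    have h3 : Nat.card (Sylow 7 H) ≤ 12 := Nat.le_of_dvd (by norm_num) h1
    unfold Nat.ModEq at h2
    interval_cases hk : Nat.card (Sylow 7 H) <;> omega
  haveI := (Nat.card_eq_one_iff_unique.mp hn).1
  have hPn : (P : Subgroup H).Normal := Sylow.normal_of_subsingleton P
  set Q := (P : Subgroup H).map H.subtype with hQ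
  have hQc : Nat.card Q = 7 := by rw [hQ, card_map_of_injective H.subtype_injective, hPc]
  have hle : H ≤ normalizer (Q : Set G) := by
    intro h hh
    refine mem_normalizer_iff_map_conj_eq.mpr
      (eq_of_le_of_card_ge ?_ (card_map_of_injective (MulAut.conj h).injective).ge)
    rintro _ ⟨_, ⟨x, hx, rfl⟩, rfl⟩
    exact ⟨_, hPn.conj_mem x hx ⟨h, hh⟩, rfl⟩
  have hne : normalizer (Q : Set G) ≠ ⊤ := normalizer_ne_top hG
    (fun h => by rw [h, card_bot] at hQc; omega) (fun h => by rw [h, card_top, hG] at hQc; omega)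
  have hQs : ¬ 7 ∣ Q.index := by
    have := Q.card_mul_index
    rw [hQc, hG] at this
    omega
  have hnd := Sylow.card_eq_index_normalizer ((IsPGroup.of_card (n := 1) (by rw [hQc]; rfl) : IsPGroup 7 Q).toSylow hQs)
  have h2 := card_sylow_modEq_one 7 G
  rw [hnd] at h2
  have hd : (normalizer (Q : Set G)).index ∣ 13 := (show H.index = 13 by omega) ▸ index_dvd_of_le hle
  rcases (Nat.dvd_prime (by norm_num : (13 : ℕ).Prime)).mp hd with h | h
  · exact hne (index_eq_one.mp h)
  · have h3 : (normalizer (Q : Set G)).index % 7 = 1 % 7 := h2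
    rw [h] at h3
    norm_num at h3

theorem card_le {H : Subgroup G} (hH : H ≠ ⊤) : Nat.card H ≤ 78 := by
  have h1 := index_ge hG hH
  have h2 := H.card_mul_index
  rw [hG] at h2
  have h3 : Nat.card H * 14 ≤ 1092 := h2 ▸ Nat.mul_le_mul_left _ h1
  omega

omit [IsSimpleGroup G] in
theorem card_dvd (H : Subgroup G) : Nat.card H ∣ 1092 := hG ▸ H.card_subgroup_dvd_card

/-- The candidates for a Sylow normalizer. -/
theorem sylow_normalizer_data {p : ℕ} [hp : Fact p.Prime] (P : Sylow p G) {e : ℕ}
    (hP : Nat.card (P : Subgroup G) = e) (h1 : e ≠ 1) (h2 : e ≠ 1092) :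
    ∃ n, Nat.card (normalizer ((P : Subgroup G) : Set G)) * n = 1092 ∧ n % p = 1 ∧ n * e ∣ 1092 ∧
      14 ≤ n := by
  refine ⟨(normalizer ((P : Subgroup G) : Set G)).index, ?_, ?_, ?_,
    index_ge hG (sylow_normalizer_ne_top hG P hP h1 h2)⟩
  · rw [Subgroup.card_mul_index, hG]
  · have := card_sylow_modEq_one p G
    rw [Sylow.card_eq_index_normalizer P] at this
    rwa [Nat.ModEq, Nat.one_mod_eq_one.mpr hp.out.ne_one] at this
  · rw [← hP, ← hG, ← (normalizer ((P : Subgroup G) : Set G)).card_mul_index, mul_comm (Nat.card _)]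
    exact mul_dvd_mul_left _ (card_dvd_of_le le_normalizer)

theorem normalizer_seven (P : Sylow 7 G) : Nat.card (normalizer ((P : Subgroup G) : Set G)) = 14 := by
  haveI := fact7
  obtain ⟨n, h1, h2, h3, h4⟩ := sylow_normalizer_data hG P (card_sylow_seven hG P) (by norm_num) (by norm_num)
  have hn : n ∣ 156 := Nat.dvd_of_mul_dvd_mul_right (by norm_num : 0 < 7) h3
  have : n = 78 := by
    have := Nat.le_of_dvd (by norm_num) hn
    interval_cases n <;> omega
  subst this
  omega

theorem normalizer_thirteen (P : Sylow 13 G) : Nat.card (normalizer ((P : Subgroup G) : Set G)) = 78 := by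
  haveI := fact13
  obtain ⟨n, h1, h2, h3, h4⟩ := sylow_normalizer_data hG P (card_sylow_thirteen hG P) (by norm_num) (by norm_num)
  have hn : n ∣ 84 := Nat.dvd_of_mul_dvd_mul_right (by norm_num : 0 < 13) h3
  have : n = 14 := by
    have := Nat.le_of_dvd (by norm_num) hn
    interval_cases n <;> omega
  subst this
  omega

/-- A Sylow subgroup is not central in its normalizer. -/
theorem not_normalizer_le_centralizer {p : ℕ} [hp : Fact p.Prime] (P : Sylow p G) {e : ℕ}
    (hP : Nat.card (P : Subgroup G) = e) (h1 : e ≠ 1) (h2 : e ≠ 1092) :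
    ¬ normalizer ((P : Subgroup G) : Set G) ≤ centralizer ((P : Subgroup G) : Set G) := by
  intro hle
  have hc := MonoidHom.ker_transferSylow_isComplement' P hle
  have hm := hc.card_mul_card
  rcases normal_cases (MonoidHom.normal_ker (MonoidHom.transferSylow P hle)) with h | h
  · rw [h, card_bot, one_mul, hG] at hm
    exact h2 (hP ▸ hm)
  · rw [h, card_top, hP, hG] at hm
    exact h1 (by omega)

omit [IsSimpleGroup G] hG in
/-- The automizer of a cyclic group has order dividing the totient. -/
theorem relIndex_centralizer_dvd (Q : Subgroup G) [IsCyclic Q] :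
    (centralizer (Q : Set G)).relIndex (normalizer (Q : Set G)) ∣ (Nat.card Q).totient := by
  rw [← IsCyclic.card_mulAut Q, relIndex, ← Q.normalizerMonoidHom_ker, index_ker]
  exact card_subgroup_dvd_card _

omit [IsSimpleGroup G] hG in
theorem card_centralizer_mul (Q : Subgroup G) :
    Nat.card (centralizer (Q : Set G)) * (centralizer (Q : Set G)).relIndex (normalizer (Q : Set G)) =
      Nat.card (normalizer (Q : Set G)) := by
  rw [← relIndex_bot_left (centralizer (Q : Set G)), ← relIndex_bot_left (normalizer (Q : Set G))]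
  exact relIndex_mul_relIndex ⊥ _ _ bot_le (centralizer_le_normalizer _)

theorem normalizer_le_seven {p : ℕ} (hp : p = 7 ∨ p = 13) {H : Subgroup G} (hH : H ≠ ⊤)
    (hdvd : p ∣ Nat.card H) :
    ∃ Q : Subgroup G, Q ≤ H ∧ Nat.card Q = p ∧ H ≤ normalizer (Q : Set G) ∧
      Nat.card (normalizer (Q : Set G)) = if p = 7 then 14 else 78 := by
  haveI : Fact p.Prime := ⟨by rcases hp with rfl | rfl <;> norm_num⟩
  obtain ⟨P⟩ : Nonempty (Sylow p H) := inferInstance
  obtain ⟨S, hS⟩ := (P.2.map H.subtype).exists_le_sylow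
  have hSc : Nat.card (S : Subgroup G) = p := by
    rcases hp with rfl | rfl
    · exact card_sylow_seven hG S
    · exact card_sylow_thirteen hG S
  have hPc : Nat.card (P : Subgroup H) = p := by
    have h1 := card_dvd_of_le hS
    rw [card_map_of_injective H.subtype_injective, hSc] at h1
    refine ((Nat.dvd_prime Fact.out).mp h1).resolve_left fun h => ?_
    have h3 : p ∣ Nat.card (P : Subgroup H) := P.dvd_card_of_dvd_card hdvd
    rw [h] at h3
    exact (Fact.out : p.Prime).one_lt.ne' (Nat.dvd_one.mp h3)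
  have hmap : Nat.card ((P : Subgroup H).map H.subtype) = p := by
    rw [card_map_of_injective H.subtype_injective, hPc]
  have hSeq : (P : Subgroup H).map H.subtype = (S : Subgroup G) :=
    eq_of_le_of_card_ge hS (by rw [hmap, hSc])
  have hle78 := card_le hG hH
  have hn : Nat.card (Sylow p H) = 1 := by
    have h1 := P.card_dvd_index
    have h2 := (P : Subgroup H).card_mul_index
    rw [hPc] at h2
    have h3 := card_sylow_modEq_one p H
    have h4 : Nat.card (Sylow p H) ≤ (P : Subgroup H).index :=
      Nat.le_of_dvd (Nat.pos_of_ne_zero index_ne_zero_of_finite) h1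
    have h5 : (P : Subgroup H).index ∣ 1092 / p := by
      refine Nat.dvd_div_of_mul_dvd ?_
      rw [h2]; exact card_dvd hG H
    rcases hp with rfl | rfl
    · unfold Nat.ModEq at h3
      have h6 : Nat.card (Sylow 7 H) ∣ 156 := h1.trans h5
      have h7 : Nat.card (Sylow 7 H) ≤ 11 := by omega
      interval_cases hk : Nat.card (Sylow 7 H) <;> omega
    · unfold Nat.ModEq at h3
      have h7 : Nat.card (Sylow 13 H) ≤ 6 := by omega
      omega
  haveI := (Nat.card_eq_one_iff_unique.mp hn).1
  have hPn : (P : Subgroup H).Normal := Sylow.normal_of_subsingleton P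
  refine ⟨S, hSeq ▸ map_subtype_le _, hSc, ?_, ?_⟩
  · intro h hh
    refine mem_normalizer_iff_map_conj_eq.mpr
      (eq_of_le_of_card_ge ?_ (card_map_of_injective (MulAut.conj h).injective).ge)
    rw [← hSeq]
    rintro _ ⟨_, ⟨x, hx, rfl⟩, rfl⟩
    exact ⟨_, hPn.conj_mem x hx ⟨h, hh⟩, rfl⟩
  · rcases hp with rfl | rfl
    · rw [if_pos rfl]; exact normalizer_seven hG S
    · rw [if_neg (by norm_num)]; exact normalizer_thirteen hG S

/-- The orders of proper subgroups. -/
theorem card_cases {H : Subgroup G} (hH : H ≠ ⊤) :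
    (13 ∣ Nat.card H ∧ Nat.card H ∣ 78) ∨ (7 ∣ Nat.card H ∧ Nat.card H ∣ 14) ∨ Nat.card H ∣ 12 := by
  by_cases h13 : 13 ∣ Nat.card H
  · obtain ⟨Q, -, -, hle, hc⟩ := normalizer_le_seven hG (Or.inr rfl) hH h13
    rw [if_neg (by norm_num)] at hc
    exact Or.inl ⟨h13, hc ▸ card_dvd_of_le hle⟩
  by_cases h7 : 7 ∣ Nat.card H
  · obtain ⟨Q, -, -, hle, hc⟩ := normalizer_le_seven hG (Or.inl rfl) hH h7
    rw [if_pos rfl] at hc
    exact Or.inr (Or.inl ⟨h7, hc ▸ card_dvd_of_le hle⟩)
  refine Or.inr (Or.inr ?_)
  have h1 : (Nat.card H).Coprime 13 := ((Nat.Prime.coprime_iff_not_dvd (by norm_num)).mpr h13).symm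
  have h2 : (Nat.card H).Coprime 7 := ((Nat.Prime.coprime_iff_not_dvd (by norm_num)).mpr h7).symm
  exact h2.dvd_of_dvd_mul_right (h1.dvd_of_dvd_mul_right (show Nat.card H ∣ 12 * 7 * 13 by
    norm_num; exact card_dvd hG H))

theorem normalizer_three (P : Sylow 3 G) : Nat.card (normalizer ((P : Subgroup G) : Set G)) = 12 := by
  haveI : Fact (Nat.Prime 3) := ⟨Nat.prime_three⟩
  have hPc := card_sylow_three hG P
  haveI : IsCyclic (P : Subgroup G) := isCyclic_of_prime_card hPc
  have hne := sylow_normalizer_ne_top hG P hPc (by norm_num) (by norm_num)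
  have hd := relIndex_centralizer_dvd (P : Subgroup G)
  rw [hPc, Nat.totient_prime Nat.prime_three] at hd
  have hm := card_centralizer_mul (P : Subgroup G)
  have hrel : (centralizer ((P : Subgroup G) : Set G)).relIndex
      (normalizer ((P : Subgroup G) : Set G)) = 2 :=
    ((Nat.dvd_prime Nat.prime_two).mp hd).resolve_left fun h =>
      not_normalizer_le_centralizer hG P hPc (by norm_num) (by norm_num) (relIndex_eq_one.mp h)
  rw [hrel] at hm
  obtain ⟨n, h1, h2, h3, h4⟩ := sylow_normalizer_data hG P hPc (by norm_num) (by norm_num)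
  have hn : n ∣ 364 := Nat.dvd_of_mul_dvd_mul_right (by norm_num : 0 < 3) h3
  rcases card_cases hG hne with ⟨h5, h6⟩ | ⟨h5, h6⟩ | h5
  · exfalso
    have h7 := Nat.le_of_dvd (by norm_num) hn
    obtain ⟨k, hk⟩ := h5
    have h8 : k * n = 84 := by
      have h9 : 13 * (k * n) = 1092 := by rw [← mul_assoc, ← hk]; exact h1
      omega
    have h9 : n ∣ 84 := ⟨k, by rw [mul_comm]; exact h8.symm⟩
    have := Nat.le_of_dvd (by norm_num) h9
    interval_cases n <;> omega
  · exfalso
    have h7 : 3 ∣ Nat.card (normalizer ((P : Subgroup G) : Set G)) := by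
      have := card_dvd_of_le (le_normalizer (H := (P : Subgroup G)))
      rwa [hPc] at this
    have := Nat.le_of_dvd (by norm_num) h6
    interval_cases hk : Nat.card (normalizer ((P : Subgroup G) : Set G)) <;> omega
  · have h7 : 3 ∣ Nat.card (normalizer ((P : Subgroup G) : Set G)) := by
      have := card_dvd_of_le (le_normalizer (H := (P : Subgroup G)))
      rwa [hPc] at this
    have := Nat.le_of_dvd (by norm_num) h5
    interval_cases hk : Nat.card (normalizer ((P : Subgroup G) : Set G)) <;> omega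

theorem normalizer_two (V : Sylow 2 G) : Nat.card (normalizer ((V : Subgroup G) : Set G)) = 12 := by
  haveI : Fact (Nat.Prime 2) := ⟨Nat.prime_two⟩
  have hVc := card_sylow_two hG V
  have hne := sylow_normalizer_ne_top hG V hVc (by norm_num) (by norm_num)
  have h4 : 4 ∣ Nat.card (normalizer ((V : Subgroup G) : Set G)) := by
    have := card_dvd_of_le (le_normalizer (H := (V : Subgroup G)))
    rwa [hVc] at this
  rcases card_cases hG hne with ⟨-, h6⟩ | ⟨-, h6⟩ | h6
  · exact absurd (h4.trans h6) (by norm_num)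
  · exact absurd (h4.trans h6) (by norm_num)
  refine le_antisymm (Nat.le_of_dvd (by norm_num) h6) ?_
  by_contra hlt
  have h7 : Nat.card (normalizer ((V : Subgroup G) : Set G)) ≤ 4 := by
    have := Nat.le_of_dvd (by norm_num) h6
    interval_cases hk : Nat.card (normalizer ((V : Subgroup G) : Set G)) <;> omega
  have heq : (V : Subgroup G) = normalizer ((V : Subgroup G) : Set G) :=
    eq_of_le_of_card_ge le_normalizer (by rw [hVc]; exact h7)
  haveI : IsMulCommutative (V : Subgroup G) :=
    IsPGroup.isMulCommutative_of_card_eq_prime_sq (p := 2) (by rw [hVc]; norm_num)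
  exact not_normalizer_le_centralizer hG V hVc (by norm_num) (by norm_num)
    (heq ▸ le_centralizer (V : Subgroup G))

/-- Any two non-identity elements of a Sylow 2-subgroup are conjugate. -/
theorem conj_in_sylow_two (V : Sylow 2 G) {v w : G} (hv : v ∈ (V : Subgroup G))
    (hw : w ∈ (V : Subgroup G)) (hv1 : v ≠ 1) (hw1 : w ≠ 1) : ∃ g : G, g * v * g⁻¹ = w := by
  classical
  haveI : Fact (Nat.Prime 2) := ⟨Nat.prime_two⟩
  haveI : Fact (Nat.Prime 3) := ⟨Nat.prime_three⟩
  have hVc := card_sylow_two hG V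
  set N := normalizer ((V : Subgroup G) : Set G) with hN
  haveI hVab : IsMulCommutative (V : Subgroup G) :=
    IsPGroup.isMulCommutative_of_card_eq_prime_sq (p := 2) (by rw [hVc]; norm_num)
  obtain ⟨y', hy'⟩ := exists_prime_orderOf_dvd_card' (G := N) 3 (by rw [normalizer_two hG V]; norm_num)
  set y := (y' : G) with hy
  have hyo : orderOf y = 3 := by rw [hy, Subgroup.orderOf_coe, hy']
  have hy3 : y ^ 3 = 1 := hyo ▸ pow_orderOf_eq_one y
  have hmem : ∀ u ∈ (V : Subgroup G), y * u * y⁻¹ ∈ (V : Subgroup G) := fun u hu =>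
    (mem_normalizer_iff.mp y'.2 u).mp hu
  haveI := Fintype.ofFinite G
  set S := Finset.univ.filter (fun u => u ∈ (V : Subgroup G) ∧ u ≠ 1) with hS
  have hScard : S.card = 3 := by
    have h1 : S = (Finset.univ.filter (· ∈ (V : Subgroup G))).erase 1 := by ext x; simp [hS, and_comm]
    rw [h1, Finset.card_erase_of_mem (by simp [one_mem]), ← Fintype.card_subtype,
      ← Nat.card_eq_fintype_card]
    rw [show Nat.card {x // x ∈ (V : Subgroup G)} = 4 from hVc]
  have hfix : ∀ u ∈ (V : Subgroup G), u ≠ 1 → y * u * y⁻¹ ≠ u := by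
    intro u hu hu1 he
    -- then `y` centralizes all of `V`
    have hall : ∀ z ∈ (V : Subgroup G), y * z * y⁻¹ = z := by
      intro z hz
      by_cases hzu : z = u ∨ z = 1
      · rcases hzu with rfl | rfl
        · exact he
        · group
      push Not at hzu
      have hsub : ({u, z, y * z * y⁻¹, y * (y * z * y⁻¹) * y⁻¹} : Finset G) ⊆ S := by
        intro x hx
        simp only [Finset.mem_insert, Finset.mem_singleton] at hx
        refine Finset.mem_filter.mpr ⟨Finset.mem_univ x, ?_⟩
        rcases hx with rfl | rfl | rfl | rfl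
        · exact ⟨hu, hu1⟩
        · exact ⟨hz, hzu.2⟩
        · exact ⟨hmem z hz, by rw [Ne, conj_eq_one_iff]; exact hzu.2⟩
        · exact ⟨hmem _ (hmem z hz), by rw [Ne, conj_eq_one_iff, conj_eq_one_iff]; exact hzu.2⟩
      by_contra hne
      have hd1 : u ≠ y * z * y⁻¹ := fun e => hzu.1 (by
        have h1 : y * u * y⁻¹ = y * z * y⁻¹ := he.trans e
        exact (mul_left_cancel (mul_right_cancel h1)).symm)
      have hd2 : u ≠ y * (y * z * y⁻¹) * y⁻¹ := fun e => hd1 (by
        have h1 : y * u * y⁻¹ = y * (y * z * y⁻¹) * y⁻¹ := he.trans e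
        exact mul_left_cancel (mul_right_cancel h1))
      have hd3 : y * z * y⁻¹ ≠ y * (y * z * y⁻¹) * y⁻¹ := fun e =>
        hne (mul_left_cancel (mul_right_cancel e)).symm
      have hd4 : z ≠ y * (y * z * y⁻¹) * y⁻¹ := fun e => hne (by
        have h1 : y * z * y⁻¹ = y ^ 3 * z * (y ^ 3)⁻¹ :=
          (congrArg (fun a => y * a * y⁻¹) e).trans (by simp only [pow_succ, pow_zero, one_mul]; group)
        rw [h1, hy3]; group)
      have hc : ({u, z, y * z * y⁻¹, y * (y * z * y⁻¹) * y⁻¹} : Finset G).card = 4 := by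
        rw [Finset.card_insert_of_notMem (by simp [Ne.symm hzu.1, hd1, hd2]),
          Finset.card_insert_of_notMem (by simp [Ne.symm hne, hd4]),
          Finset.card_insert_of_notMem (by simp [hd3]), Finset.card_singleton]
      have := Finset.card_le_card hsub
      omega
    have hyC : y ∈ centralizer ((V : Subgroup G) : Set G) := mem_centralizer_iff.mpr fun z hz =>
      (mul_inv_eq_iff_eq_mul.mp (hall z hz)).symm
    have hle := le_centralizer (V : Subgroup G)
    have h1 : 4 ∣ Nat.card (centralizer ((V : Subgroup G) : Set G)) := hVc ▸ card_dvd_of_le hle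
    have h2 : 3 ∣ Nat.card (centralizer ((V : Subgroup G) : Set G)) := hyo ▸ orderOf_dvd_natCard _ hyC
    have h3 : 12 ≤ Nat.card (centralizer ((V : Subgroup G) : Set G)) :=
      Nat.le_of_dvd Nat.card_pos ((show Nat.Coprime 4 3 by norm_num).mul_dvd_of_dvd_of_dvd h1 h2)
    have h4 := eq_of_le_of_card_ge (centralizer_le_normalizer ((V : Subgroup G) : Set G))
      (by rw [normalizer_two hG V]; exact h3)
    exact not_normalizer_le_centralizer hG V hVc (by norm_num) (by norm_num) h4.ge
  have hv2 : y * v * y⁻¹ ≠ 1 := by rw [Ne, conj_eq_one_iff]; exact hv1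
  have hsub : ({v, y * v * y⁻¹, y * (y * v * y⁻¹) * y⁻¹} : Finset G) ⊆ S := by
    intro x hx
    simp only [Finset.mem_insert, Finset.mem_singleton] at hx
    refine Finset.mem_filter.mpr ⟨Finset.mem_univ x, ?_⟩
    rcases hx with rfl | rfl | rfl
    · exact ⟨hv, hv1⟩
    · exact ⟨hmem v hv, hv2⟩
    · exact ⟨hmem _ (hmem v hv), by rw [Ne, conj_eq_one_iff]; exact hv2⟩
  have hd4 : v ≠ y * (y * v * y⁻¹) * y⁻¹ := fun e => hfix v hv hv1 (by
    have h1 : y * v * y⁻¹ = y ^ 3 * v * (y ^ 3)⁻¹ :=
      (congrArg (fun a => y * a * y⁻¹) e).trans (by simp only [pow_succ, pow_zero, one_mul]; group)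
    rw [h1, hy3]; group)
  have hc : ({v, y * v * y⁻¹, y * (y * v * y⁻¹) * y⁻¹} : Finset G).card = 3 := by
    rw [Finset.card_insert_of_notMem (by simp [Ne.symm (hfix v hv hv1), hd4]),
      Finset.card_insert_of_notMem (by simp [(hfix _ (hmem v hv) hv2).symm]), Finset.card_singleton]
  have hw' : w ∈ S := Finset.mem_filter.mpr ⟨Finset.mem_univ w, hw, hw1⟩
  rw [← Finset.eq_of_subset_of_card_le hsub (by omega)] at hw'
  simp only [Finset.mem_insert, Finset.mem_singleton] at hw'
  rcases hw' with rfl | rfl | rfl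
  · exact ⟨1, by group⟩
  · exact ⟨y, rfl⟩
  · exact ⟨y * y, by group⟩

theorem centralizer_involution {t : G} (ht : orderOf t = 2) :
    12 ∣ Nat.card (centralizer ({t} : Set G)) := by
  haveI : Fact (Nat.Prime 2) := ⟨Nat.prime_two⟩
  haveI : Fact (Nat.Prime 3) := ⟨Nat.prime_three⟩
  obtain ⟨P⟩ : Nonempty (Sylow 3 G) := inferInstance
  have hPc := card_sylow_three hG P
  haveI : IsCyclic (P : Subgroup G) := isCyclic_of_prime_card hPc
  have hd := relIndex_centralizer_dvd (P : Subgroup G)
  rw [hPc, Nat.totient_prime Nat.prime_three] at hd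
  have hm := card_centralizer_mul (P : Subgroup G)
  rw [((Nat.dvd_prime Nat.prime_two).mp hd).resolve_left fun h =>
      not_normalizer_le_centralizer hG P hPc (by norm_num) (by norm_num) (relIndex_eq_one.mp h),
    normalizer_three hG P] at hm
  obtain ⟨s', hs'⟩ := exists_prime_orderOf_dvd_card' (G := centralizer ((P : Subgroup G) : Set G)) 2
    (by omega)
  set s := (s' : G) with hs
  have hso : orderOf s = 2 := by rw [hs, Subgroup.orderOf_coe, hs']
  have hsyl : ∀ u : G, orderOf u = 2 → ∃ V : Sylow 2 G, u ∈ (V : Subgroup G) := fun u hu => by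
    obtain ⟨V, hV⟩ := (IsPGroup.of_card (p := 2) (n := 1) (G := zpowers u)
      (by rw [Nat.card_zpowers, hu]; rfl)).exists_le_sylow
    exact ⟨V, hV (mem_zpowers u)⟩
  obtain ⟨Vt, hVt⟩ := hsyl t ht
  obtain ⟨Vs, hVs⟩ := hsyl s hso
  have hs12 : 12 ∣ Nat.card (centralizer ({s} : Set G)) := by
    haveI : IsMulCommutative (Vs : Subgroup G) :=
      IsPGroup.isMulCommutative_of_card_eq_prime_sq (p := 2) (by rw [card_sylow_two hG Vs]; norm_num)
    have h1 : (Vs : Subgroup G) ≤ centralizer ({s} : Set G) :=
      (le_centralizer (Vs : Subgroup G)).trans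
        (centralizer_le (Set.singleton_subset_iff.mpr hVs))
    have h2 : (P : Subgroup G) ≤ centralizer ({s} : Set G) := fun x hx =>
      mem_centralizer_singleton_iff.mpr (mem_centralizer_iff.mp s'.2 x hx)
    have h3 := card_dvd_of_le h1
    have h4 := card_dvd_of_le h2
    rw [card_sylow_two hG Vs] at h3
    rw [hPc] at h4
    exact (show Nat.Coprime 4 3 by norm_num).mul_dvd_of_dvd_of_dvd h3 h4
  obtain ⟨g, hg⟩ := MulAction.exists_smul_eq G Vs Vt
  have hgs : g * s * g⁻¹ ∈ (Vt : Subgroup G) := by
    rw [← hg, Sylow.coe_subgroup_smul]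
    exact ⟨s, hVs, rfl⟩
  have hs1 : g * s * g⁻¹ ≠ 1 := by
    rw [Ne, conj_eq_one_iff]
    intro h; rw [h, orderOf_one] at hso; omega
  have ht1 : t ≠ 1 := fun h => by rw [h, orderOf_one] at ht; omega
  obtain ⟨k, hk⟩ := conj_in_sylow_two hG Vt hgs hVt hs1 ht1
  have hmap : (centralizer ({s} : Set G)).map (MulAut.conj (k * g)).toMonoidHom ≤
      centralizer ({t} : Set G) := by
    rintro _ ⟨x, hx, rfl⟩
    rw [SetLike.mem_coe, mem_centralizer_singleton_iff] at hx
    rw [mem_centralizer_singleton_iff]
    show (k * g) * x * (k * g)⁻¹ * t = t * ((k * g) * x * (k * g)⁻¹)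
    rw [← hk]
    calc _ = (k * g) * (x * s) * (k * g)⁻¹ := by group
      _ = (k * g) * (s * x) * (k * g)⁻¹ := by rw [hx]
      _ = _ := by group
  exact hs12.trans ((card_map_of_injective (MulAut.conj (k * g)).injective).symm.dvd.trans
    (card_dvd_of_le hmap))

theorem centralizer_thirteen (Q : Subgroup G) (hQ : Nat.card Q = 13) :
    centralizer (Q : Set G) = Q := by
  haveI : Fact (Nat.Prime 2) := ⟨Nat.prime_two⟩
  haveI : Fact (Nat.Prime 3) := ⟨Nat.prime_three⟩
  haveI := fact13
  haveI : IsCyclic Q := isCyclic_of_prime_card hQ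
  have hQi : ¬ 13 ∣ Q.index := by
    have := Q.card_mul_index
    rw [hQ, hG] at this
    omega
  have hN : Nat.card (normalizer (Q : Set G)) = 78 :=
    normalizer_thirteen hG ((IsPGroup.of_card (n := 1) (by rw [hQ]; rfl) : IsPGroup 13 Q).toSylow hQi)
  have hle : Q ≤ centralizer (Q : Set G) := le_centralizer Q
  refine (eq_of_le_of_card_ge hle ?_).symm
  have hd : Nat.card (centralizer (Q : Set G)) ∣ 78 :=
    hN ▸ card_dvd_of_le (centralizer_le_normalizer _)
  have h13 : 13 ∣ Nat.card (centralizer (Q : Set G)) := hQ ▸ card_dvd_of_le hle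
  have hC : ∀ (p : ℕ) [Fact p.Prime], p ∣ Nat.card (centralizer (Q : Set G)) →
      ∃ u : G, orderOf u = p ∧ Q ≤ centralizer ({u} : Set G) := by
    intro p _ hp
    obtain ⟨u, hu⟩ := exists_prime_orderOf_dvd_card' (G := centralizer (Q : Set G)) p hp
    exact ⟨u, by rw [Subgroup.orderOf_coe, hu], fun x hx =>
      mem_centralizer_singleton_iff.mpr (mem_centralizer_iff.mp u.2 x hx)⟩
  have h2 : ¬ 2 ∣ Nat.card (centralizer (Q : Set G)) := by
    intro h
    obtain ⟨u, hu, hQu⟩ := hC 2 h
    have h1 := centralizer_involution hG hu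
    have h3 := card_dvd_of_le hQu
    rw [hQ] at h3
    have hne : centralizer ({u} : Set G) ≠ ⊤ := by
      intro htop
      have hu1 : u ∈ center G := mem_center_iff.mpr fun g =>
        mem_centralizer_singleton_iff.mp (htop ▸ mem_top g : g ∈ centralizer ({u} : Set G))
      rcases normal_cases (inferInstance : (center G).Normal) with hZ | hZ
      · rw [hZ, mem_bot] at hu1
        rw [hu1, orderOf_one] at hu; omega
      · have hle' : Q ≤ center G := hZ ▸ le_top
        have hQn : Q.Normal := ⟨fun x hx g => by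
          rw [mem_center_iff.mp (hle' hx) g, mul_inv_cancel_right]; exact hx⟩
        rcases normal_cases hQn with h | h
        · rw [h, card_bot] at hQ; omega
        · rw [h, card_top, hG] at hQ; omega
    have h4 := Nat.le_of_dvd Nat.card_pos
      ((show Nat.Coprime 12 13 by norm_num).mul_dvd_of_dvd_of_dvd h1 h3)
    have := card_le hG hne
    omega
  have h3 : ¬ 3 ∣ Nat.card (centralizer (Q : Set G)) := by
    intro h
    obtain ⟨u, hu, hQu⟩ := hC 3 h
    obtain ⟨P, hP⟩ := (IsPGroup.of_card (p := 3) (n := 1) (G := zpowers u)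
      (by rw [Nat.card_zpowers, hu]; rfl)).exists_le_sylow
    have heq : zpowers u = (P : Subgroup G) :=
      eq_of_le_of_card_ge hP (by rw [Nat.card_zpowers, hu, card_sylow_three hG P])
    have h1 : Q ≤ normalizer ((P : Subgroup G) : Set G) := by
      rw [← heq]
      refine hQu.trans (le_trans (fun x hx => ?_) (centralizer_le_normalizer _))
      rw [zpowers_eq_closure, centralizer_closure]
      exact hx
    have h4 := card_dvd_of_le h1
    rw [hQ, normalizer_three hG P] at h4
    norm_num at h4
  rw [hQ]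
  have := Nat.le_of_dvd (by norm_num) hd
  interval_cases hk : Nat.card (centralizer (Q : Set G)) <;> omega

/-- A subgroup of order 12, 14 or 78 is maximal. -/
theorem isCoatom_of_card {M : Subgroup G}
    (hM : Nat.card M = 12 ∨ Nat.card M = 14 ∨ Nat.card M = 78) : IsCoatom M := by
  refine ⟨fun h => by rw [h, card_top, hG] at hM; omega, fun L hL => ?_⟩
  by_contra hne
  have hd := card_dvd_of_le hL.le
  have hlt : Nat.card M < Nat.card L :=
    lt_of_le_of_ne (card_le_of_le hL.le) fun e => hL.ne (eq_of_le_of_card_ge hL.le e.ge)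
  rcases card_cases hG hne with ⟨h1, h2⟩ | ⟨h1, h2⟩ | h2
  all_goals have h3 := Nat.le_of_dvd (by norm_num) h2
  all_goals obtain ⟨c, hc⟩ := hd
  all_goals rcases hM with h | h | h <;> rw [h] at hc hlt <;> omega

/-- The normalizer of a non-trivial proper subgroup is maximal. -/
theorem isCoatom_normalizer {H : Subgroup G} (h1 : H ≠ ⊥) (h2 : H ≠ ⊤) :
    IsCoatom (normalizer (H : Set G)) := by
  haveI : Fact (Nat.Prime 2) := ⟨Nat.prime_two⟩
  haveI : Fact (Nat.Prime 3) := ⟨Nat.prime_three⟩
  have hne := normalizer_ne_top hG h1 h2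
  have hcl := card_le hG hne
  have hHN : Nat.card H ∣ Nat.card (normalizer (H : Set G)) := card_dvd_of_le le_normalizer
  refine isCoatom_of_card hG ?_
  rcases card_cases hG h2 with ⟨h13, -⟩ | ⟨h7, h14⟩ | h12
  · right; right
    obtain ⟨Q, hQH, hQc, hle, hc⟩ := normalizer_le_seven hG (Or.inr rfl) h2 h13
    rw [if_neg (by norm_num)] at hc
    haveI : IsCyclic Q := @isCyclic_of_prime_card _ _ _ fact13 hQc
    have hsub : normalizer (Q : Set G) ≤ normalizer (H : Set G) := by
      intro g hg
      refine mem_normalizer_iff_map_conj_eq.mpr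
        (eq_of_le_of_card_ge ?_ (card_map_of_injective (MulAut.conj g).injective).ge)
      rintro _ ⟨x, hx, rfl⟩
      -- the automizer of `Q` is abelian
      have hcomm : g * x * g⁻¹ * x⁻¹ ∈ centralizer (Q : Set G) := by
        set φ := Q.normalizerMonoidHom
        haveI : IsMulCommutative (MulAut Q) := ⟨⟨fun a b => by
          apply (IsCyclic.mulAutMulEquiv Q).injective
          rw [map_mul, map_mul, mul_comm]⟩⟩
        have hk : (⟨g, hg⟩ : normalizer (Q : Set G)) * ⟨x, hle hx⟩ * ⟨g, hg⟩⁻¹ * ⟨x, hle hx⟩⁻¹ ∈ φ.ker := by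
          rw [MonoidHom.mem_ker, map_mul, map_mul, map_mul, map_inv, map_inv,
            (IsMulCommutative.is_comm (M := MulAut Q)).comm (φ ⟨g, hg⟩), mul_inv_cancel_right, mul_inv_cancel]
        rw [Q.normalizerMonoidHom_ker] at hk
        exact mem_subgroupOf.mp hk
      rw [centralizer_thirteen hG Q hQc] at hcomm
      have := H.mul_mem (hQH hcomm) hx
      rwa [inv_mul_cancel_right] at this
    have := card_le_of_le hsub
    omega
  · right; left
    obtain ⟨Q, hQH, hQc, hle, hc⟩ := normalizer_le_seven hG (Or.inl rfl) h2 h7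
    rw [if_pos rfl] at hc
    have h14N : 14 ∣ Nat.card (normalizer (H : Set G)) := by
      obtain ⟨c, hc7⟩ := h7
      have hH : Nat.card H = 7 ∨ Nat.card H = 14 := by
        have := Nat.le_of_dvd (by norm_num) h14
        have := Nat.card_pos (α := H)
        omega
      rcases hH with hH | hH
      · have heq : Q = H := eq_of_le_of_card_ge hQH (by omega)
        rw [← heq, hc]
      · exact hH ▸ hHN
    rcases card_cases hG hne with ⟨h13, h78⟩ | ⟨-, hd⟩ | hd
    · exact absurd (h14N.trans h78) (by norm_num)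
    · exact Nat.dvd_antisymm hd h14N
    · exact absurd (h14N.trans hd) (by norm_num)
  · left
    suffices h12N : 12 ∣ Nat.card (normalizer (H : Set G)) by
      rcases card_cases hG hne with ⟨h13, h78⟩ | ⟨-, hd⟩ | hd
      · exact absurd (h12N.trans h78) (by norm_num)
      · exact absurd (h12N.trans hd) (by norm_num)
      · exact Nat.dvd_antisymm hd h12N
    have hH1 : Nat.card H ≠ 1 := fun h => h1 (eq_bot_of_card_eq H h)
    have hle := Nat.le_of_dvd (by norm_num) h12
    have hcases : Nat.card H = 2 ∨ Nat.card H = 3 ∨ Nat.card H = 4 ∨ Nat.card H = 6 ∨ Nat.card H = 12 := by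
      have := Nat.card_pos (α := H)
      interval_cases hk : Nat.card H <;> omega
    rcases hcases with hc | hc | hc | hc | hc
    · obtain ⟨t', ht'⟩ := exists_prime_orderOf_dvd_card' (G := H) 2 (by rw [hc])
      have hto : orderOf (t' : G) = 2 := by rw [Subgroup.orderOf_coe, ht']
      have heq : zpowers (t' : G) = H :=
        eq_of_le_of_card_ge (zpowers_le.mpr t'.2) (by rw [Nat.card_zpowers, hto, hc])
      refine (centralizer_involution hG hto).trans (card_dvd_of_le ?_)
      generalize (t' : G) = u at heq ⊢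
      rw [← heq]
      refine le_trans (fun x hx => ?_) (centralizer_le_normalizer _)
      rw [zpowers_eq_closure, centralizer_closure]
      exact hx
    · have hi : ¬ 3 ∣ H.index := by
        have := H.card_mul_index
        rw [hc, hG] at this
        omega
      exact (normalizer_three hG ((IsPGroup.of_card (n := 1) (by rw [hc]; rfl) : IsPGroup 3 H).toSylow hi)).symm.dvd
    · have hi : ¬ 2 ∣ H.index := by
        have := H.card_mul_index
        rw [hc, hG] at this
        omega
      exact (normalizer_two hG ((IsPGroup.of_card (n := 2) (by rw [hc]; rfl) : IsPGroup 2 H).toSylow hi)).symm.dvd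
    · obtain ⟨y', hy'⟩ := exists_prime_orderOf_dvd_card' (G := H) 3 (by rw [hc]; norm_num)
      set R := zpowers y' with hR
      have hRc : Nat.card R = 3 := by rw [hR, Nat.card_zpowers, hy']
      have hRi : R.index = 2 := by
        have := R.card_mul_index
        rw [hRc, hc] at this
        omega
      haveI hRn : R.Normal := normal_of_index_eq_two hRi
      set Q := R.map H.subtype with hQ
      have hQc : Nat.card Q = 3 := by rw [hQ, card_map_of_injective H.subtype_injective, hRc]
      have hQi : ¬ 3 ∣ Q.index := by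
        have := Q.card_mul_index
        rw [hQc, hG] at this
        omega
      have hN3 : Nat.card (normalizer (Q : Set G)) = 12 :=
        normalizer_three hG ((IsPGroup.of_card (n := 1) (by rw [hQc]; rfl) : IsPGroup 3 Q).toSylow hQi)
      have hHle : H ≤ normalizer (Q : Set G) := by
        intro h hh
        refine mem_normalizer_iff_map_conj_eq.mpr
          (eq_of_le_of_card_ge ?_ (card_map_of_injective (MulAut.conj h).injective).ge)
        rintro _ ⟨_, ⟨x, hx, rfl⟩, rfl⟩
        exact ⟨_, hRn.conj_mem x hx ⟨h, hh⟩, rfl⟩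
      have hrel : H.relIndex (normalizer (Q : Set G)) = 2 := by
        have h3 := relIndex_mul_relIndex ⊥ H (normalizer (Q : Set G)) bot_le hHle
        rw [relIndex_bot_left, relIndex_bot_left, hc, hN3] at h3
        omega
      haveI : (H.subgroupOf (normalizer (Q : Set G))).Normal := normal_of_index_eq_two hrel
      exact hN3 ▸ card_dvd_of_le (normal_subgroupOf_iff_le_normalizer hHle |>.mp inferInstance)
    · exact hc ▸ hHN

end Cfsg.Lib.Fusion.Order1092
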