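import Mathlib.GroupTheory.Sylow
import Mathlib.GroupTheory.SpecificGroups.Cyclic
import Mathlib.GroupTheory.SpecificGroups.Dihedral
import Mathlib.Tactic.LinearCombination
import Mathlib.Tactic.Ring

/-!
# Subgroups with normal Sylow subgroup and cyclic quotient
-/

set_option linter.style.haveILetI false
set_option autoImplicit false

namespace Cfsg.Lib.Fusion.PByCyclic

open Subgroup

variable {G : Type*} [Group G] [Finite G] {p : ℕ} [hp : Fact p.Prime]

/-- A normal `p`-subgroup lies in every Sylow subgroup. -/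
theorem normal_le_sylow {H : Type*} [Group H] [Finite H] {L : Subgroup H} [hL : L.Normal]
    (h : IsPGroup p L) (S : Sylow p H) : L ≤ (S : Subgroup H) := by
  obtain ⟨R, hR⟩ := h.exists_le_sylow
  obtain ⟨g, hg⟩ := MulAction.exists_smul_eq H R S
  intro x hx
  rw [← hg, Sylow.coe_subgroup_smul]
  refine ⟨g⁻¹ * x * g, hR ?_, ?_⟩
  · have := hL.conj_mem x hx g⁻¹
    rwa [inv_inv] at this
  · show g * (g⁻¹ * x * g) * g⁻¹ = x
    group

/-- A `p`-group extended by a cyclic group normalizing it. -/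
theorem sup_zpowers_data {L : Subgroup G} (hL : IsPGroup p L) {x : G}
    (hx : x ∈ normalizer (L : Set G)) :
    (∀ S : Sylow p ↥(L ⊔ zpowers x), (S : Subgroup ↥(L ⊔ zpowers x)).Normal) ∧
    ∀ (S : Sylow p ↥(L ⊔ zpowers x)) [(S : Subgroup ↥(L ⊔ zpowers x)).Normal],
      IsCyclic (↥(L ⊔ zpowers x) ⧸ (S : Subgroup ↥(L ⊔ zpowers x))) := by
  set H := L ⊔ zpowers x with hH
  have hxH : x ∈ H := mem_sup_right (mem_zpowers x)
  have hLn : (L.subgroupOf H).Normal := by
    rw [normal_subgroupOf_iff_le_normalizer le_sup_left]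
    exact sup_le le_normalizer (zpowers_le.mpr hx)
  have hgen : ∀ h : H, ∃ i : ℤ, (⟨x, hxH⟩ : H) ^ i * h⁻¹ ∈ L.subgroupOf H := by
    intro h
    have hmem : (h : G) ∈ ((L ⊔ zpowers x : Subgroup G) : Set G) := h.2
    rw [Subgroup.coe_mul_of_right_le_normalizer_left L (zpowers x) (zpowers_le.mpr hx)] at hmem
    obtain ⟨l, hl, _, ⟨i, rfl⟩, he⟩ := hmem
    refine ⟨i, mem_subgroupOf.mpr ?_⟩
    simp only [Subgroup.coe_mul, Subgroup.coe_zpow, Subgroup.coe_inv]
    rw [← he]
    have h1 : x ^ i * (l * x ^ i)⁻¹ = l⁻¹ := by group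
    show x ^ i * (l * x ^ i)⁻¹ ∈ L
    rw [h1]; exact L.inv_mem hl
  have hLp : IsPGroup p (L.subgroupOf H) := hL.comap_subtype
  have hle : ∀ S : Sylow p H, L.subgroupOf H ≤ (S : Subgroup H) := fun S =>
    haveI := hLn; normal_le_sylow hLp S
  constructor
  · intro S
    haveI := hLn
    haveI : IsCyclic (H ⧸ L.subgroupOf H) := by
      refine ⟨⟨QuotientGroup.mk ⟨x, hxH⟩, fun q => ?_⟩⟩
      obtain ⟨h, rfl⟩ := QuotientGroup.mk_surjective q
      obtain ⟨i, hi⟩ := hgen h
      refine ⟨i, ?_⟩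
      show (QuotientGroup.mk ⟨x, hxH⟩ : H ⧸ L.subgroupOf H) ^ i = QuotientGroup.mk h
      rw [← QuotientGroup.mk_zpow, ← mul_inv_eq_one, ← QuotientGroup.mk_inv, ← QuotientGroup.mk_mul]
      exact (QuotientGroup.eq_one_iff _).mpr hi
    haveI : IsMulCommutative (H ⧸ L.subgroupOf H) := IsCyclic.isMulCommutative
    have hn : ((S : Subgroup H).map (QuotientGroup.mk' (L.subgroupOf H))).Normal := ⟨fun u hu g => by
      rw [(IsMulCommutative.is_comm (M := H ⧸ L.subgroupOf H)).comm g u, mul_inv_cancel_right]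
      exact hu⟩
    have heq := comap_map_eq (QuotientGroup.mk' (L.subgroupOf H)) (S : Subgroup H)
    rw [QuotientGroup.ker_mk', sup_eq_left.mpr (hle S)] at heq
    exact heq ▸ hn.comap _
  · intro S hS
    refine ⟨⟨QuotientGroup.mk ⟨x, hxH⟩, fun q => ?_⟩⟩
    obtain ⟨h, rfl⟩ := QuotientGroup.mk_surjective q
    obtain ⟨i, hi⟩ := hgen h
    refine ⟨i, ?_⟩
    show (QuotientGroup.mk ⟨x, hxH⟩ : H ⧸ (S : Subgroup H)) ^ i = QuotientGroup.mk h
    rw [← QuotientGroup.mk_zpow, ← mul_inv_eq_one, ← QuotientGroup.mk_inv, ← QuotientGroup.mk_mul]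
    exact (QuotientGroup.eq_one_iff _).mpr (hle S hi)

/-- Up to conjugacy, such a subgroup is `T ⊔ ⟨x⟩` with `T` in a given Sylow subgroup. -/
theorem exists_standard (P : Sylow p G) (H : Subgroup G)
    (hn : ∀ S : Sylow p H, (S : Subgroup H).Normal)
    (hc : ∀ (S : Sylow p H) [(S : Subgroup H).Normal], IsCyclic (H ⧸ (S : Subgroup H))) :
    ∃ (T : Subgroup G) (x : G), T ≤ (P : Subgroup G) ∧ x ∈ normalizer (T : Set G) ∧
      ¬ p ∣ orderOf x ∧ Nonempty (H ≃* ↥(T ⊔ zpowers x)) := by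
  obtain ⟨S⟩ : Nonempty (Sylow p H) := inferInstance
  haveI hSn := hn S
  haveI := hc S
  obtain ⟨q, hq⟩ := IsCyclic.exists_generator (α := H ⧸ (S : Subgroup H))
  obtain ⟨h, rfl⟩ := QuotientGroup.mk_surjective q
  obtain ⟨j, r, hr, hor⟩ := Nat.exists_eq_pow_mul_and_not_dvd (orderOf_pos h).ne' p hp.out.ne_one
  set y := h ^ p ^ j with hy
  have hyo : orderOf y ∣ r := orderOf_dvd_of_pow_eq_one (by
    rw [hy, ← pow_mul, ← hor, pow_orderOf_eq_one])
  have hgen : (S : Subgroup H) ⊔ zpowers y = ⊤ := by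
    rw [eq_top_iff]
    intro u _
    obtain ⟨i, hi⟩ := hq (QuotientGroup.mk u)
    have hi' : (h ^ i)⁻¹ * u ∈ (S : Subgroup H) := QuotientGroup.eq.mp (by
      rw [QuotientGroup.mk_zpow]; exact hi)
    have hhy : h ∈ (S : Subgroup H) ⊔ zpowers y := by
      have hco : (p ^ j).Coprime r := ((Nat.Prime.coprime_iff_not_dvd hp.out).mpr hr).pow_left j
      have hbez := Nat.gcd_eq_gcd_ab (p ^ j) r
      rw [hco.gcd_eq_one, Nat.cast_one] at hbez
      have hdec : h = y ^ Nat.gcdA (p ^ j) r * (h ^ r) ^ Nat.gcdB (p ^ j) r := by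
        rw [hy, ← zpow_natCast h (p ^ j), ← zpow_natCast h r, ← zpow_mul, ← zpow_mul, ← zpow_add,
          ← hbez, zpow_one]
      have hrS : h ^ r ∈ (S : Subgroup H) := by
        obtain ⟨R, hR⟩ := (IsPGroup.of_card_dvd_pow (p := p) (n := j) (G := zpowers (h ^ r)) (by
          rw [Nat.card_zpowers]
          exact orderOf_dvd_of_pow_eq_one (by
            rw [← pow_mul, mul_comm, ← hor, pow_orderOf_eq_one]))).exists_le_sylow
        have := Sylow.unique_of_normal S hSn
        rw [Subsingleton.elim R S] at hR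
        exact hR (mem_zpowers _)
      rw [hdec]
      exact mul_mem (mem_sup_right (zpow_mem (mem_zpowers y) _))
        (mem_sup_left (zpow_mem hrS _))
    have := mul_mem (zpow_mem hhy i) (mem_sup_left hi' : (h ^ i)⁻¹ * u ∈ (S : Subgroup H) ⊔ zpowers y)
    rwa [mul_inv_cancel_left] at this
  obtain ⟨R, hR⟩ := (S.2.map H.subtype).exists_le_sylow
  obtain ⟨g, hg⟩ := MulAction.exists_smul_eq G R P
  set f : H →* G := (MulAut.conj g).toMonoidHom.comp H.subtype with hf
  have hfi : Function.Injective f := (MulAut.conj g).injective.comp H.subtype_injective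
  refine ⟨(S : Subgroup H).map f, f y, ?_, ?_, ?_, ⟨?_⟩⟩
  · rintro _ ⟨s, hs, rfl⟩
    rw [← hg, Sylow.coe_subgroup_smul]
    exact ⟨(s : G), hR (mem_map_of_mem _ hs), rfl⟩
  · exact (le_normalizer_map f) (mem_map_of_mem f ((normalizer_eq_top_iff.mpr hSn).symm ▸ mem_top y))
  · rw [orderOf_injective f hfi]
    exact fun hd => hr (hd.trans hyo)
  · have : (S : Subgroup H).map f ⊔ zpowers (f y) = f.range := by
      rw [← MonoidHom.map_zpowers, ← Subgroup.map_sup, hgen, ← MonoidHom.range_eq_map]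
    exact (MonoidHom.ofInjective hfi).trans (MulEquiv.subgroupCongr this.symm)

/-- A cyclic group times a centralizing element of coprime order. -/
theorem isCyclic_sup {T : Subgroup G} [IsCyclic T] {x : G} (hT : ∀ u ∈ T, x * u = u * x)
    (hco : (Nat.card T).Coprime (orderOf x)) : IsCyclic ↥(T ⊔ zpowers x) := by
  obtain ⟨u, hu⟩ := IsCyclic.exists_generator (α := T)
  have hTe : zpowers (u : G) = T := le_antisymm (zpowers_le.mpr u.2) fun w hw => by
    obtain ⟨i, hi⟩ := mem_zpowers_iff.mp (hu ⟨w, hw⟩)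
    exact mem_zpowers_iff.mpr ⟨i, by rw [← Subgroup.coe_zpow, hi]⟩
  have hc : Commute (u : G) x := (hT u u.2).symm
  have hou : orderOf (u : G) = Nat.card T := by rw [← Nat.card_zpowers, hTe]
  have hco' : (orderOf (u : G)).Coprime (orderOf x) := hou ▸ hco
  have key : T ⊔ zpowers x = zpowers ((u : G) * x) := by
    refine le_antisymm (sup_le ?_ ?_)
      (zpowers_le.mpr (mul_mem (mem_sup_left u.2) (mem_sup_right (mem_zpowers x))))
    · refine hTe.ge.trans (zpowers_le.mpr ?_)
      obtain ⟨m, hm⟩ := exists_pow_eq_self_of_coprime (x := (u : G)) (n := orderOf x) hco'.symm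
      refine mem_zpowers_iff.mpr ⟨((orderOf x * m : ℕ) : ℤ), ?_⟩
      rw [zpow_natCast, pow_mul, hc.mul_pow, pow_orderOf_eq_one, mul_one, hm]
    · rw [zpowers_le]
      obtain ⟨m, hm⟩ := exists_pow_eq_self_of_coprime (x := x) (n := orderOf (u : G)) hco'
      refine mem_zpowers_iff.mpr ⟨((orderOf (u : G) * m : ℕ) : ℤ), ?_⟩
      rw [zpow_natCast, pow_mul, hc.mul_pow, pow_orderOf_eq_one, one_mul, hm]
  rw [key]
  infer_instance

/-- In a dihedral group, an element not commuting with one of order prime to two is a reflection. -/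
theorem dihedral_reflection {m : ℕ} {a b : DihedralGroup m} (hb : ¬ Commute a b) (hodd : Odd (orderOf b)) :
    orderOf a = 2 ∧ a * b * a⁻¹ = b⁻¹ := by
  rcases b with j | j
  · rcases a with i | i
    · exact absurd (by show _ * _ = _ * _; simp [add_comm]) hb
    · exact ⟨DihedralGroup.orderOf_sr i, by simp⟩
  · rw [DihedralGroup.orderOf_sr] at hodd
    exact absurd hodd (by decide)

theorem dihedral_exponent_of_comm {p n : ℕ} (hcomm : ∀ a b : DihedralGroup (p ^ n), a * b = b * a) :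
    ((2 : ℕ) : ZMod (p ^ n)) = 0 := by
  have h := hcomm (DihedralGroup.r 1) (DihedralGroup.sr 0)
  rw [DihedralGroup.r_mul_sr, DihedralGroup.sr_mul_r, DihedralGroup.sr.injEq] at h
  have : (1 : ZMod (p ^ n)) + 1 = 0 := by linear_combination -h
  rw [Nat.cast_ofNat, ← one_add_one_eq_two]; exact this

end Cfsg.Lib.Fusion.PByCyclic
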