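import Cfsg.Agent.Lib.Core.PSolvable

/-!
Existence of a subgroup of order the `p'`-part in a `p`-soluble group.
-/

set_option autoImplicit false
set_option linter.style.haveILetI false

namespace Cfsg.Lib.PComplementSolvable

open Subgroup

universe u

theorem exists_complement_aux {p : ℕ} [hp : Fact p.Prime] : ∀ (n : ℕ) {G : Type u} [Group G] [Finite G],
    Nat.card G ≤ n → Cfsg.IsPSolvable p G →
    ∃ (K : Subgroup G) (k : ℕ), ¬ p ∣ Nat.card K ∧ K.index = p ^ k := by
  intro n
  induction n with
  | zero => intro G _ _ h _; exact absurd h (not_le.mpr Nat.card_pos)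
  | succ n ih =>
  intro G _ _ hn hG
  rcases subsingleton_or_nontrivial G with hs | hs
  · exact ⟨⊥, 0, by rw [card_bot]; exact hp.out.not_dvd_one,
      by rw [pow_zero, index_eq_one]; exact Subsingleton.elim _ _⟩
  obtain ⟨N, hN⟩ := Core.exists_isMinNormal_univ (G := G)
  haveI := hN.1
  set π := QuotientGroup.mk' N
  have hπ : Function.Surjective π := QuotientGroup.mk'_surjective N
  have hlt : Nat.card (G ⧸ N) ≤ n := by
    have h1 : 1 < Nat.card N := by
      rcases (Nat.card N).lt_or_ge 2 with h | h
      · exact absurd (card_eq_one.mp (by have := Nat.card_pos (α := N); omega)) hN.2.1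
      · omega
    have h2 := card_eq_card_quotient_mul_card_subgroup N
    have h3 : 0 < Nat.card (G ⧸ N) := Nat.card_pos
    nlinarith
  obtain ⟨K, k, hK, hk⟩ := ih hlt (Core.isPSolvable_quotient hG N)
  set M := K.comap π with hM
  have hNM : N ≤ M := (QuotientGroup.ker_mk' N).symm.trans_le (ker_le_comap π K)
  have hMidx : M.index = p ^ k := (index_comap_of_surjective _ hπ).trans hk
  have hrel : N.relIndex M = Nat.card K := by
    have e : N = (⊥ : Subgroup (G ⧸ N)).comap π := by rw [MonoidHom.comap_bot, QuotientGroup.ker_mk']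
    rw [congrArg (fun X : Subgroup G => X.relIndex M) e, hM, relIndex_comap, map_comap_eq_self_of_surjective hπ,
      relIndex_bot_left]
  rcases Core.minimal_normal_of_isPSolvable hG hN with hNp | hNc
  · obtain ⟨j, hj⟩ := IsPGroup.iff_card.mp hNp
    obtain ⟨C, hC⟩ := exists_right_complement'_of_coprime (N := N.subgroupOf M) (by
      rw [Nat.card_congr (subgroupOfEquivOfLe hNM).toEquiv, hj]
      exact ((hp.out.coprime_iff_not_dvd).mpr (hrel ▸ hK : ¬ p ∣ N.relIndex M)).pow_left j)
    have hcC : Nat.card (C.map M.subtype) = Nat.card K := by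
      rw [card_map_of_injective M.subtype_injective, ← hC.symm.index_eq_card]
      exact hrel
    refine ⟨C.map M.subtype, j + k, by rwa [hcC], ?_⟩
    have h1 := (C.map M.subtype).card_mul_index
    rw [hcC, ← M.card_mul_index, hMidx, ← relIndex_bot_left, ← relIndex_bot_left,
      ← relIndex_mul_relIndex ⊥ N M bot_le hNM, relIndex_bot_left, relIndex_bot_left, hrel, hj,
      mul_comm (p ^ j) (Nat.card K), mul_assoc, ← pow_add] at h1
    exact Nat.eq_of_mul_eq_mul_left Nat.card_pos h1
  · refine ⟨M, k, fun h => ?_, hMidx⟩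
    rw [← relIndex_bot_left, ← relIndex_mul_relIndex ⊥ N M bot_le hNM, relIndex_bot_left, hrel] at h
    exact (hp.out.dvd_mul.mp h).elim (hp.out.coprime_iff_not_dvd.mp hNc.symm) hK

/-- A `p`-soluble group has a subgroup of order the `p'`-part of the group order. -/
theorem exists_complement {p : ℕ} [Fact p.Prime] {G : Type u} [Group G] [Finite G] (hG : Cfsg.IsPSolvable p G) :
    ∃ (K : Subgroup G) (k : ℕ), ¬ p ∣ Nat.card K ∧ K.index = p ^ k :=
  exists_complement_aux (Nat.card G) le_rfl hG

end Cfsg.Lib.PComplementSolvable
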