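import Mathlib.NumberTheory.Bertrand
import Mathlib.Tactic.IntervalCases
import Mathlib.Tactic.NormNum.Prime

/-!
# Three primes between `n` and `2n`

The Erdős argument for Bertrand's postulate, with room to spare: for `n ≥ 800` there are at least
three primes in `(n, 2n]`.
-/

set_option autoImplicit false

namespace Cfsg.Lib.Fusion

open Nat

theorem centralBinom_le_mul_pow_card (n : ℕ) (hn : 2 < n) :
    centralBinom n ≤ (2 * n) ^ Nat.sqrt (2 * n) * 4 ^ (2 * n / 3) *
      (2 * n) ^ ((Finset.Ioc n (2 * n)).filter Nat.Prime).card := by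
  have n2_pos : 1 ≤ 2 * n := by omega
  set f := fun x => x ^ n.centralBinom.factorization x with hf
  have hsplit : centralBinom n = (∏ x ∈ Finset.range (2 * n / 3 + 1), f x) *
      ∏ x ∈ Finset.Ioc (2 * n / 3) (2 * n), f x := by
    have hu : Finset.range (2 * n + 1) =
        Finset.range (2 * n / 3 + 1) ∪ Finset.Ioc (2 * n / 3) (2 * n) := by
      ext x
      simp only [Finset.mem_range, Finset.mem_union, Finset.mem_Ioc]
      omega
    have hd : Disjoint (Finset.range (2 * n / 3 + 1)) (Finset.Ioc (2 * n / 3) (2 * n)) := by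
      rw [Finset.disjoint_left]
      intro x hx hx'
      simp only [Finset.mem_range, Finset.mem_Ioc] at hx hx'
      omega
    rw [← Finset.prod_union hd, ← hu]
    exact n.prod_pow_factorization_centralBinom.symm
  rw [hsplit]
  refine mul_le_mul' ?_ ?_
  · let S := {p ∈ Finset.range (2 * n / 3 + 1) | Nat.Prime p}
    have : ∏ x ∈ S, f x = ∏ x ∈ Finset.range (2 * n / 3 + 1), f x := by
      refine Finset.prod_filter_of_ne fun p _ h => ?_
      contrapose h
      simp only [hf]
      rw [factorization_eq_zero_of_not_prime n.centralBinom h, _root_.pow_zero]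
    rw [← this, ← Finset.prod_filter_mul_prod_filter_not S (· ≤ Nat.sqrt (2 * n))]
    apply mul_le_mul'
    · refine (Finset.prod_le_prod' fun p _ => (?_ : f p ≤ 2 * n)).trans ?_
      · exact pow_factorization_choose_le (by omega)
      have : (Finset.Icc 1 (Nat.sqrt (2 * n))).card = Nat.sqrt (2 * n) := by
        rw [card_Icc, Nat.add_sub_cancel]
      rw [Finset.prod_const]
      refine pow_right_mono₀ n2_pos ((Finset.card_le_card fun x hx => ?_).trans this.le)
      obtain ⟨h1, h2⟩ := Finset.mem_filter.1 hx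
      exact Finset.mem_Icc.mpr ⟨(Finset.mem_filter.1 h1).2.one_lt.le, h2⟩
    · refine le_trans ?_ (primorial_le_four_pow (2 * n / 3))
      refine (Finset.prod_le_prod' fun p hp => (?_ : f p ≤ p)).trans ?_
      · obtain ⟨h1, h2⟩ := Finset.mem_filter.1 hp
        refine (pow_right_mono₀ (Finset.mem_filter.1 h1).2.one_lt.le ?_).trans (pow_one p).le
        exact Nat.factorization_choose_le_one (Nat.sqrt_lt'.mp <| not_le.1 h2)
      refine Finset.prod_le_prod_of_subset_of_one_le' (Finset.filter_subset _ _) ?_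
      exact fun p hp _ => (Finset.mem_filter.1 hp).2.one_lt.le
  · rw [← Finset.prod_subset (s₁ := (Finset.Ioc n (2 * n)).filter Nat.Prime)]
    · refine (Finset.prod_le_prod' fun p _ => (?_ : f p ≤ 2 * n)).trans (le_of_eq ?_)
      · exact pow_factorization_choose_le (by omega)
      · rw [Finset.prod_const]
    · intro x hx
      simp only [Finset.mem_filter, Finset.mem_Ioc] at hx ⊢
      omega
    · intro x hx hx'
      simp only [Finset.mem_filter, Finset.mem_Ioc, not_and] at hx hx'
      show x ^ n.centralBinom.factorization x = 1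
      by_cases hp : x.Prime
      · have hxn : x ≤ n := by
          by_contra h
          exact hx' ⟨by omega, hx.2⟩ hp
        rw [factorization_centralBinom_of_two_mul_self_lt_three_mul hn hxn (by omega), pow_zero]
      · rw [factorization_eq_zero_of_not_prime n.centralBinom hp, pow_zero]

theorem succ_le_two_pow (s : ℕ) (hs : 40 ≤ s) : s + 1 ≤ 2 ^ ((s - 4) / 6) := by
  induction s using Nat.strong_induction_on with
  | _ s ih =>
    by_cases h : s < 46
    · interval_cases s <;> norm_num
    · have h1 := ih (s - 6) (by omega) (by omega)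
      rw [show (s - 4) / 6 = (s - 6 - 4) / 6 + 1 by omega, pow_succ]
      omega

theorem three_primes_inequality {n : ℕ} (hn : 800 ≤ n) :
    n * ((2 * n) ^ Nat.sqrt (2 * n) * 4 ^ (2 * n / 3) * (2 * n) ^ 2) ≤ 4 ^ n := by
  set s := Nat.sqrt (2 * n) with hs
  have hs40 : 40 ≤ s := Nat.le_sqrt.mpr (by omega)
  have hsq : s * s ≤ 2 * n := Nat.sqrt_le (2 * n)
  have hlt : 2 * n < (s + 1) * (s + 1) := Nat.lt_succ_sqrt (2 * n)
  set e := (s - 4) / 6 with he
  have h2 := succ_le_two_pow s hs40
  have h2n : 2 * n ≤ 4 ^ e := by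
    calc 2 * n ≤ (s + 1) * (s + 1) := hlt.le
      _ ≤ 2 ^ e * 2 ^ e := Nat.mul_le_mul h2 h2
      _ = 4 ^ e := by rw [← mul_pow]; norm_num
  have hexp : e * (s + 3) + 2 * n / 3 ≤ n := by
    have h6 : 6 * e ≤ s - 4 := Nat.mul_div_le _ _
    have h7 : 6 * e * (s + 3) ≤ (s - 4) * (s + 3) := Nat.mul_le_mul_right _ h6
    have h8 : (s - 4) * (s + 3) ≤ s * s := by
      have : s - 4 ≤ s := Nat.sub_le _ _
      calc (s - 4) * (s + 3) = (s - 4) * s + (s - 4) * 3 := by ring
        _ ≤ (s - 4) * s + 4 * s := by omega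
        _ = s * s := by rw [← add_mul, Nat.sub_add_cancel (by omega)]
    have h9 : 6 * (e * (s + 3)) ≤ 2 * n := by
      rw [← mul_assoc]; omega
    omega
  calc n * ((2 * n) ^ s * 4 ^ (2 * n / 3) * (2 * n) ^ 2)
      ≤ (2 * n) * ((2 * n) ^ s * 4 ^ (2 * n / 3) * (2 * n) ^ 2) := Nat.mul_le_mul_right _ (by omega)
    _ = (2 * n) ^ (s + 3) * 4 ^ (2 * n / 3) := by ring
    _ ≤ (4 ^ e) ^ (s + 3) * 4 ^ (2 * n / 3) :=
        Nat.mul_le_mul_right _ (Nat.pow_le_pow_left h2n _)
    _ = 4 ^ (e * (s + 3) + 2 * n / 3) := by rw [pow_add _ (e * (s + 3)), pow_mul]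
    _ ≤ 4 ^ n := Nat.pow_le_pow_right (by norm_num) hexp

/-- For `n ≥ 800` there are three primes in `(n, 2n]`. -/
theorem three_le_card_primes {n : ℕ} (hn : 800 ≤ n) :
    3 ≤ ((Finset.Ioc n (2 * n)).filter Nat.Prime).card := by
  by_contra h
  have h1 := Nat.four_pow_lt_mul_centralBinom n (by omega)
  have h2 := centralBinom_le_mul_pow_card n (by omega)
  have h3 : centralBinom n ≤ (2 * n) ^ Nat.sqrt (2 * n) * 4 ^ (2 * n / 3) * (2 * n) ^ 2 :=
    h2.trans (Nat.mul_le_mul_left _ (Nat.pow_le_pow_right (by omega) (by omega)))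
  have := (Nat.mul_le_mul_left n h3).trans (three_primes_inequality hn)
  omega

/-- For `m ≥ 11` outside `{14, 15, 16}`, two primes `p < q ≤ m` with `m < 2p` and `p + 3 ≤ q`. -/
theorem exists_two_primes {m : ℕ} (hm : 11 ≤ m) (h14 : m ≠ 14) (h15 : m ≠ 15) (h16 : m ≠ 16) :
    ∃ p q : ℕ, p.Prime ∧ q.Prime ∧ m < 2 * p ∧ p + 3 ≤ q ∧ q ≤ m := by
  by_cases hbig : 1600 ≤ m
  · set S := (Finset.Ioc (m / 2) (2 * (m / 2))).filter Nat.Prime with hS
    have hcard : 3 ≤ S.card := three_le_card_primes (by omega)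
    have hne : S.Nonempty := Finset.card_pos.mp (by omega)
    have ha := Finset.mem_filter.mp (S.min'_mem hne)
    have hb := Finset.mem_filter.mp (S.max'_mem hne)
    rw [Finset.mem_Ioc] at ha hb
    refine ⟨S.min' hne, S.max' hne, ha.2, hb.2, by omega, ?_, by omega⟩
    have hsub : S ⊆ (Finset.Icc (S.min' hne) (S.max' hne)).filter Nat.Prime := fun x hx =>
      Finset.mem_filter.mpr ⟨Finset.mem_Icc.mpr ⟨S.min'_le x hx, S.le_max' x hx⟩,
        (Finset.mem_filter.mp hx).2⟩
    by_contra hgap
    -- three primes cannot lie in an interval of length `2` above `3`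
    have hodd : ∀ x ∈ S, x % 2 = 1 := fun x hx => by
      obtain ⟨h1, h2⟩ := Finset.mem_filter.mp hx
      rw [Finset.mem_Ioc] at h1
      exact h2.eq_two_or_odd.resolve_left (by omega)
    have : S ⊆ {S.min' hne, S.min' hne + 2} := fun x hx => by
      have h1 := hodd x hx
      have h2 := hodd _ (S.min'_mem hne)
      have h3 := S.min'_le x hx
      have h4 := S.le_max' x hx
      simp only [Finset.mem_insert, Finset.mem_singleton]
      omega
    have := (Finset.card_le_card this).trans Finset.card_le_two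
    omega
  push Not at hbig
  by_cases h1 : m ≤ 14
  · exact ⟨7, 11, by norm_num, by norm_num, by omega, by omega, by omega⟩
  by_cases h2 : m ≤ 25
  · exact ⟨13, 17, by norm_num, by norm_num, by omega, by omega, by omega⟩
  by_cases h3 : m ≤ 37
  · exact ⟨19, 23, by norm_num, by norm_num, by omega, by omega, by omega⟩
  by_cases h4 : m ≤ 61
  · exact ⟨31, 37, by norm_num, by norm_num, by omega, by omega, by omega⟩
  by_cases h5 : m ≤ 105
  · exact ⟨53, 59, by norm_num, by norm_num, by omega, by omega, by omega⟩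
  by_cases h6 : m ≤ 193
  · exact ⟨97, 101, by norm_num, by norm_num, by omega, by omega, by omega⟩
  by_cases h7 : m ≤ 361
  · exact ⟨181, 191, by norm_num, by norm_num, by omega, by omega, by omega⟩
  by_cases h8 : m ≤ 705
  · exact ⟨353, 359, by norm_num, by norm_num, by omega, by omega, by omega⟩
  by_cases h9 : m ≤ 1381
  · exact ⟨691, 701, by norm_num, by norm_num, by omega, by omega, by omega⟩
  exact ⟨1373, 1381, by norm_num, by norm_num, by omega, by omega, by omega⟩

end Cfsg.Lib.Fusion
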