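import Cfsg.Agent.Lib.Solv.ComplementStructure
import Cfsg.Agent.Lib.Solv.Frobenius
import Cfsg.Agent.Lib.Solv.FrobeniusBasic
import Cfsg.Agent.Lib.Local.TopModule
import Mathlib.LinearAlgebra.Determinant
import Mathlib.GroupTheory.SpecificGroups.Quaternion

/-!
A quaternion pair in a Frobenius complement forces an abelian kernel of odd square order.
-/

set_option autoImplicit false
set_option linter.style.haveILetI false

namespace Cfsg.Lib.QuaternionKernel

open Subgroup

universe u

/-- An abelian group of odd order with two anticommuting square roots of inversion has square order. -/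
theorem isSquare_card_abelian : ∀ (n : ℕ) {V : Type u} [CommGroup V] [Finite V], Nat.card V ≤ n →
    Odd (Nat.card V) → ∀ I J : MulAut V, (∀ v, I (I v) = v⁻¹) → (∀ v, J (J v) = v⁻¹) →
    (∀ v, J (I v) = (I (J v))⁻¹) → IsSquare (Nat.card V) := by
  intro n
  induction n with
  | zero => intro V _ _ h _ _ _ _ _ _; exact absurd h (not_le.mpr Nat.card_pos)
  | succ n ih =>
  intro V _ _ hn hodd I J hI hJ hIJ
  classical
  by_cases h1 : Nat.card V = 1
  · exact ⟨1, by rw [h1]⟩
  obtain ⟨r, hr, hrV⟩ := Nat.exists_prime_and_dvd h1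
  haveI := Fact.mk hr
  let e : V →* V := powMonoidHom r
  have heq : ∀ (A : MulAut V) (v : V), e (A v) = A (e v) := fun A v => (map_pow A v r).symm
  set R := e.range with hR
  set W := e.ker with hW
  have hRinv : ∀ (A : MulAut V), ∀ v ∈ R, A v ∈ R := fun A v ⟨w, hw⟩ => ⟨A w, by rw [heq, hw]⟩
  have hWinv : ∀ (A : MulAut V), ∀ v ∈ W, A v ∈ W := fun A v hv => by
    rw [hW, MonoidHom.mem_ker, heq, MonoidHom.mem_ker.mp hv, map_one]
  have hcard : Nat.card V = Nat.card W * Nat.card R := by
    rw [← card_mul_index W, hW, index_ker]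
  obtain ⟨x, hx⟩ := exists_prime_orderOf_dvd_card' r hrV
  have hxW : x ∈ W := MonoidHom.mem_ker.mpr (show x ^ r = 1 by rw [← hx]; exact pow_orderOf_eq_one x)
  have hWne : 1 < Nat.card W := by
    haveI : Nontrivial W := ⟨⟨⟨x, hxW⟩, 1, fun h => by
      rw [show x = 1 from congrArg Subtype.val h, orderOf_one] at hx; exact hr.one_lt.ne hx⟩⟩
    exact Finite.one_lt_card
  have hRlt : Nat.card R ≤ n := by
    have : 0 < Nat.card R := Nat.card_pos
    nlinarith
  -- the restrictions
  let res : ∀ (S : Subgroup V), (∀ (A : MulAut V), ∀ v ∈ S, A v ∈ S) → (MulAut V →* MulAut S) := fun S hS =>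
    MonoidHom.mk' (fun A =>
      { toFun := fun v => ⟨A v, hS A v v.2⟩
        invFun := fun v => ⟨A.symm v, hS A⁻¹ v v.2⟩
        left_inv := fun v => Subtype.ext (A.symm_apply_apply _)
        right_inv := fun v => Subtype.ext (A.apply_symm_apply _)
        map_mul' := fun a b => Subtype.ext (map_mul A (a : V) (b : V)) }) fun A B => rfl
  obtain ⟨sR, hsR⟩ := ih hRlt (Odd.of_dvd_nat hodd (card_subgroup_dvd_card R)) (res R hRinv I) (res R hRinv J)
    (fun v => Subtype.ext (hI v)) (fun v => Subtype.ext (hJ v)) (fun v => Subtype.ext (hIJ v))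
  -- the socle is a vector space of even dimension
  obtain ⟨M, i1, i2, i3, ρ, ev, hρ⟩ := Cfsg.Lib.Local.exists_zmod_rep (K := MulAut V) (p := r) (W := W)
    (fun v => Subtype.ext (MonoidHom.mem_ker.mp v.2)) (res W hWinv)
  haveI : Finite M := Finite.of_equiv W (ev.toEquiv.trans Multiplicative.toAdd)
  have hsurj : ∀ m : M, ∃ w, (ev w).toAdd = m := fun m => by
    obtain ⟨w, hw⟩ := ev.surjective (Multiplicative.ofAdd m)
    exact ⟨w, by rw [hw]; rfl⟩
  have hneg : ∀ A B C : MulAut V, (∀ v, A (B v) = (C v)⁻¹) → ρ A * ρ B = (-1 : ZMod r) • ρ C := by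
    intro A B C h
    refine LinearMap.ext fun m => ?_
    obtain ⟨w, rfl⟩ := hsurj m
    rw [Module.End.mul_apply, hρ, hρ, LinearMap.smul_apply, hρ, neg_one_smul, ← toAdd_inv, ← map_inv]
    exact congrArg (fun t => (ev t).toAdd) (Subtype.ext (h w))
  have hII := hneg I I 1 (fun v => hI v)
  have hJJ := hneg J J 1 (fun v => hJ v)
  have hJI := hneg J I (I * J) (fun v => hIJ v)
  rw [map_one] at hII hJJ
  set d := Module.finrank (ZMod r) M with hd
  have h1 := congrArg LinearMap.det hII
  have h2 := congrArg LinearMap.det hJJ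
  have h3 := congrArg LinearMap.det hJI
  rw [map_mul, LinearMap.det_smul, map_one, mul_one] at h1 h2
  rw [map_mul, LinearMap.det_smul, map_mul, map_mul, mul_comm (LinearMap.det (ρ J))] at h3
  have hr2 : r ≠ 2 := fun h => by
    have := Odd.of_dvd_nat hodd hrV
    rw [h] at this
    exact absurd this (by decide)
  have heven : Even d := by
    rcases Nat.even_or_odd d with h | h
    · exact h
    exfalso
    rw [Odd.neg_one_pow h] at h1 h2 h3
    have hne : LinearMap.det (ρ I) * LinearMap.det (ρ J) ≠ 0 := by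
      refine mul_ne_zero (fun h0 => ?_) (fun h0 => ?_)
      · rw [h0, zero_mul] at h1; exact one_ne_zero (neg_eq_zero.mp h1.symm)
      · rw [h0, zero_mul] at h2; exact one_ne_zero (neg_eq_zero.mp h2.symm)
    haveI : Fact (2 < r) := ⟨lt_of_le_of_ne hr.two_le (Ne.symm hr2)⟩
    exact ZMod.neg_one_ne_one (mul_right_cancel₀ hne (h3.symm.trans (one_mul _).symm))
  obtain ⟨c, hc⟩ := heven
  have hWc : Nat.card W = r ^ d := by
    rw [Nat.card_congr (ev.toEquiv.trans Multiplicative.toAdd), hd, Module.natCard_eq_pow_finrank (K := ZMod r),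
      Nat.card_zmod]
  exact ⟨r ^ c * sR, by rw [hcard, hWc, hc, hsR, pow_add]; ring⟩

/-- The kernel of a fixed-point-free action of a group containing a quaternion pair. -/
theorem odd_square_card {G : Type u} [Group G] [Finite G] {K H : Subgroup G} [hKn : K.Normal]
    (hfpf : ∀ h ∈ H, h ≠ 1 → K ⊓ centralizer {h} = ⊥) {i j : G} (hi : i ∈ H) (hj : j ∈ H)
    (hij2 : i * i = j * j) (hne : i * i ≠ 1) (hz : (i * i) * (i * i) = 1) (hji : j * i = i⁻¹ * j) :
    Odd (Nat.card K) ∧ IsSquare (Nat.card K) := by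
  classical
  set z := i * i with hzdef
  have hz2 : orderOf z = 2 := orderOf_eq_prime (by rw [pow_two, hz]) hne
  have hinv := Cfsg.Lib.ComplementStructure.involution_inverts hfpf (H.mul_mem hi hi) hz2
  have hodd : Odd (Nat.card K) := by
    rcases Nat.even_or_odd (Nat.card K) with he | he
    swap
    · exact he
    exfalso
    obtain ⟨x, hx⟩ := exists_prime_orderOf_dvd_card' 2 he.two_dvd
    have hxi : (x : G)⁻¹ = x := inv_eq_of_mul_eq_one_right (by
      have h := pow_orderOf_eq_one x
      rw [hx, pow_two] at h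
      exact congrArg Subtype.val h)
    have h1 : (x : G) ∈ K ⊓ centralizer {z} := mem_inf.mpr ⟨x.2, mem_centralizer_singleton_iff.mpr (by
      have h := hinv x x.2
      rw [hxi, mul_inv_eq_iff_eq_mul] at h
      exact h.symm)⟩
    rw [hfpf z (H.mul_mem hi hi) hne, mem_bot] at h1
    rw [show x = 1 from Subtype.ext h1, orderOf_one] at hx
    omega
  refine ⟨hodd, ?_⟩
  have hcomm : ∀ a b : K, a * b = b * a := fun a b => by
    refine Subtype.ext ?_
    have h := hinv _ (K.mul_mem a.2 b.2)
    have h' : z * ((a : G) * b) * z⁻¹ = (z * a * z⁻¹) * (z * b * z⁻¹) := by group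
    rw [h', hinv a a.2, hinv b b.2, mul_inv_rev] at h
    have h2 := congrArg (·⁻¹) h
    simp only [mul_inv_rev, inv_inv] at h2
    exact h2.symm
  letI : CommGroup K := { (inferInstance : Group K) with mul_comm := hcomm }
  refine isSquare_card_abelian (Nat.card K) le_rfl hodd (MulAut.conjNormal i) (MulAut.conjNormal j) ?_ ?_ ?_
  · intro v
    refine Subtype.ext ?_
    show i * (i * v * i⁻¹) * i⁻¹ = (v : G)⁻¹
    rw [← hinv v v.2]; group
  · intro v
    refine Subtype.ext ?_
    show j * (j * v * j⁻¹) * j⁻¹ = (v : G)⁻¹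
    rw [← hinv v v.2, show j * (j * (v : G) * j⁻¹) * j⁻¹ = (j * j) * v * (j * j)⁻¹ by group, ← hij2]
  · intro v
    refine Subtype.ext ?_
    show j * (i * v * i⁻¹) * j⁻¹ = (i * (j * v * j⁻¹) * i⁻¹)⁻¹
    rw [← hinv _ (hKn.conj_mem _ (hKn.conj_mem _ v.2 j) i),
      show j * (i * (v : G) * i⁻¹) * j⁻¹ = (j * i) * v * (j * i)⁻¹ by group, hji,
      show i⁻¹ * j * (v : G) * (i⁻¹ * j)⁻¹ = i⁻¹ * (j * v * j⁻¹) * i by group]
    have hzi : z * i = i⁻¹ := eq_inv_of_mul_eq_one_left (by rw [mul_assoc, ← hzdef, hz])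
    rw [show z * (i * (j * (v : G) * j⁻¹) * i⁻¹) * z⁻¹ = (z * i) * (j * v * j⁻¹) * (z * i)⁻¹ by group, hzi,
      inv_inv]

/-- The Frobenius kernel above a complement with a quaternion pair. -/
theorem kernel_card {L : Type u} [Group L] [Finite L] {H : Subgroup L} (hH : Cfsg.IsFrobeniusComplement H)
    {n : ℕ} (f : QuaternionGroup n →* H) (hf : Function.Injective f) {h : ℕ} (hn : n = 2 * h) (hh : h ≠ 0) :
    Odd (Nat.card (Cfsg.frobeniusKernel H)) ∧ IsSquare (Nat.card (Cfsg.frobeniusKernel H)) := by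
  obtain ⟨K, hKeq, hKn, hKc⟩ := Cfsg.Lib.Solv.frobenius_theorem hH
  haveI := hKn
  have hcard : Nat.card (Cfsg.frobeniusKernel H) = Nat.card K := by rw [← hKeq]; rfl
  rw [hcard]
  let g : QuaternionGroup n →* L := H.subtype.comp f
  have hg : Function.Injective g := H.subtype_injective.comp hf
  refine odd_square_card (H := H) (fun x hx hx1 => eq_bot_iff.mpr fun k hk => mem_bot.mpr
    (Cfsg.Lib.Solv.fpf_of_frobenius hH hKc.disjoint hx hx1 hk.1 (mem_centralizer_singleton_iff.mp hk.2)))
    (i := g (QuaternionGroup.a (h : ZMod (2 * n)))) (j := g (QuaternionGroup.xa 0)) (f _).2 (f _).2 ?_ ?_ ?_ ?_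
  · rw [← map_mul, ← map_mul, QuaternionGroup.a_mul_a, QuaternionGroup.xa_mul_xa]
    congr 2
    rw [hn, sub_zero, add_zero]; push_cast; ring
  · rw [← map_mul, QuaternionGroup.a_mul_a, ← map_one g, QuaternionGroup.one_def]
    intro he
    have h1 := hg he
    rw [QuaternionGroup.a.injEq, ← Nat.cast_add, ZMod.natCast_eq_zero_iff] at h1
    have := Nat.le_of_dvd (by omega) h1
    omega
  · rw [← map_mul, ← map_mul, QuaternionGroup.a_mul_a, QuaternionGroup.a_mul_a, ← map_one g, QuaternionGroup.one_def]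
    congr 2
    rw [← Nat.cast_add, ← Nat.cast_add, show h + h + (h + h) = 2 * n by omega]
    exact ZMod.natCast_self _
  · rw [← map_mul, ← map_inv, ← map_mul]
    congr 1
    rw [QuaternionGroup.xa_mul_a, show (QuaternionGroup.a (h : ZMod (2 * n)))⁻¹ = QuaternionGroup.a (-(h : ZMod (2 * n))) from rfl,
      QuaternionGroup.a_mul_xa, zero_add, zero_sub, neg_neg]

end Cfsg.Lib.QuaternionKernel
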