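import Cfsg.Prelude.Def_CaseTheorems
import Cfsg.Agent.Lib.PGroup.Basic
import Mathlib.Tactic.Group

/-!
# Normal nonabelian subgroups of small centre in 2-groups of sectional rank at most four
-/

set_option linter.style.haveILetI false
set_option autoImplicit false

namespace Cfsg.Lib.Fusion.RankFour

open Subgroup
open scoped commutatorElement

universe u v w

variable {S : Type u} [Group S]

/-- An elementary abelian image of a subgroup is small. -/
theorem image_le {k : ℕ} (hr : Cfsg.SectionalPRankLE 2 k S) (K : Subgroup S) {E : Type v} [Group E]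
    (f : K →* E) (hf : Function.Surjective f) (hc : ∀ a b : E, a * b = b * a) (hs : ∀ a : E, a ^ 2 = 1) :
    Nat.card E ≤ 2 ^ k := by
  set e := QuotientGroup.quotientKerEquivOfSurjective f hf
  have h := hr K f.ker ⊤ ⟨⟨fun a b => Subtype.ext (e.injective (by
    show e (a.1 * b.1) = e (b.1 * a.1)
    rw [map_mul, map_mul]; exact hc _ _))⟩⟩ (fun a _ => e.injective (by rw [map_pow, map_one]; exact hs _))
  rwa [card_top, Nat.card_congr e.toEquiv] at h

/-- The same for an embedded group. -/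
theorem image_le_of_injective {k : ℕ} (hr : Cfsg.SectionalPRankLE 2 k S) {M : Type w} [Group M] (ι : M →* S)
    (hι : Function.Injective ι) {E : Type v} [Group E] (f : M →* E) (hf : Function.Surjective f)
    (hc : ∀ a b : E, a * b = b * a) (hs : ∀ a : E, a ^ 2 = 1) : Nat.card E ≤ 2 ^ k :=
  image_le hr ι.range (f.comp (MonoidHom.ofInjective hι).symm.toMonoidHom)
    (hf.comp (MonoidHom.ofInjective hι).symm.surjective) hc hs

variable [Finite S]

/-- A subgroup of order two that is normal is central. -/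
theorem central_of_normal_two {Z : Subgroup S} [Z.Normal] (hZ : Nat.card Z = 2) {z : S} (hz : z ∈ Z) (g : S) :
    g * z = z * g := by
  by_cases hz1 : z = 1
  · simp [hz1]
  obtain ⟨u, -, huniq⟩ := (Nat.card_eq_two_iff' (1 : Z)).mp hZ
  have h1 := huniq ⟨z, hz⟩ fun h => hz1 (congrArg Subtype.val h)
  have h2 := huniq ⟨g * z * g⁻¹, (inferInstance : Z.Normal).conj_mem z hz g⟩
    fun h => hz1 (conj_eq_one_iff.mp (congrArg Subtype.val h))
  exact mul_inv_eq_iff_eq_mul.mp (congrArg Subtype.val (h2.trans h1.symm))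

/-- The centre of a nonabelian group with centre of order two lies in the Frattini subgroup. -/
theorem center_le_frattini {P : Type u} [Group P] [Finite P] (h2 : IsPGroup 2 P) (hna : ¬ IsMulCommutative P)
    (hZ : Nat.card (center P) = 2) : center P ≤ frattini P := by
  haveI : Fact (Nat.Prime 2) := ⟨Nat.prime_two⟩
  have hne : commutator P ≠ ⊥ := fun h => hna ⟨⟨fun a b => commutatorElement_eq_one_iff_mul_comm.mp
    (mem_bot.mp (h ▸ _root_.commutator_def P ▸ commutator_mem_commutator (mem_top a) (mem_top b)))⟩⟩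
  have hK := Cfsg.Lib.PGroup.inf_center_ne_bot h2 hne
  have hle : center P ≤ commutator P := by
    have h1 : commutator P ⊓ center P = center P := eq_of_le_of_card_ge inf_le_right (by
      rw [hZ]
      exact Finite.one_lt_card_iff_nontrivial.mpr ((nontrivial_iff_ne_bot _).mpr hK))
    exact h1 ▸ inf_le_left
  exact hle.trans (Cfsg.Lib.PGroup.commutator_le_frattini h2)

/-- The Frattini index of a nonabelian group is at least four. -/
theorem four_le_index_frattini {P : Type u} [Group P] [Finite P] (h2 : IsPGroup 2 P) (hna : ¬ IsMulCommutative P) :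
    4 ≤ (frattini P).index := by
  haveI : Fact (Nat.Prime 2) := ⟨Nat.prime_two⟩
  obtain ⟨k, hk⟩ := IsPGroup.iff_card.mp (h2.to_quotient (frattini P))
  rw [← index_eq_card] at hk
  rcases (show k ≤ 1 ∨ 2 ≤ k by omega) with hk1 | hk2
  · exfalso
    apply hna
    haveI : IsCyclic (P ⧸ frattini P) := by
      rcases (show k = 0 ∨ k = 1 by omega) with rfl | rfl
      · haveI : Subsingleton (P ⧸ frattini P) := (Nat.card_eq_one_iff_unique.mp (by rw [← index_eq_card, hk, pow_zero])).1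
        exact isCyclic_of_subsingleton
      · exact isCyclic_of_prime_card (p := 2) (by rw [← index_eq_card, hk, pow_one])
    obtain ⟨q, hq⟩ := IsCyclic.exists_generator (α := P ⧸ frattini P)
    obtain ⟨g, rfl⟩ := QuotientGroup.mk_surjective q
    have htop : zpowers g = ⊤ := frattini_nongenerating (eq_top_iff.mpr fun x _ => by
      obtain ⟨i, hi⟩ := mem_zpowers_iff.mp (hq x)
      rw [show x = g ^ i * ((g ^ i)⁻¹ * x) by group]
      exact mul_mem (mem_sup_left (zpow_mem (mem_zpowers g) i)) (mem_sup_right (QuotientGroup.eq.mp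
        (by rw [QuotientGroup.mk_zpow]; exact hi))))
    haveI : IsCyclic P := ⟨g, fun x => htop.ge (mem_top x)⟩
    haveI : CommGroup P := IsCyclic.commGroup
    infer_instance
  · rw [hk]
    exact le_trans (by norm_num) (Nat.pow_le_pow_right Nat.two_pos hk2)

/-- The core of the two statements. -/
theorem product (h2 : IsPGroup 2 S) (hr : Cfsg.SectionalPRankLE 2 4 S)
    (P Q : Subgroup S) [P.Normal] [Q.Normal] (hP : ¬ IsMulCommutative ↥P) (hQ : ¬ IsMulCommutative ↥Q)
    (hZP : Nat.card ↥(center ↥P) = 2) (hZQ : Nat.card ↥(center ↥Q) = 2)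
    (hne : (center ↥P).map P.subtype ≠ (center ↥Q).map Q.subtype) :
    ⁅P, Q⁆ = ⊥ ∧ P ⊓ Q = ⊥ ∧ centralizer ((P ⊔ Q : Subgroup S) : Set S) ≤ P ⊔ Q := by
  classical
  haveI : Fact (Nat.Prime 2) := ⟨Nat.prime_two⟩
  have hinf : P ⊓ Q = ⊥ := by
    by_contra h
    obtain ⟨z, hz, hz1⟩ := (nontrivial_iff_exists_ne_one _).mp
      ((nontrivial_iff_ne_bot _).mpr (Cfsg.Lib.PGroup.inf_center_ne_bot h2 h))
    have key : ∀ (R : Subgroup S) (hzR : z ∈ R), Nat.card (center R) = 2 → (center R).map R.subtype = zpowers z := by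
      intro R hzR hR
      have hmem : z ∈ (center R).map R.subtype :=
        ⟨⟨z, hzR⟩, mem_center_iff.mpr fun g => Subtype.ext (mem_center_iff.mp hz.2 g), rfl⟩
      refine (eq_of_le_of_card_ge (zpowers_le.mpr hmem) ?_).symm
      rw [card_map_of_injective R.subtype_injective, hR, Nat.card_zpowers]
      have h0 := orderOf_pos z
      have h1 : orderOf z ≠ 1 := fun h => hz1 (orderOf_eq_one_iff.mp h)
      omega
    exact hne ((key P hz.1.1 hZP).trans (key Q hz.1.2 hZQ).symm)
  have hPQ : ⁅P, Q⁆ = ⊥ := eq_bot_iff.mpr (hinf ▸ commutator_le_inf P Q)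
  refine ⟨hPQ, hinf, ?_⟩
  have hcomm : ∀ p ∈ P, ∀ q ∈ Q, p * q = q * p := fun p hp q hq =>
    commutatorElement_eq_one_iff_mul_comm.mp (mem_bot.mp (hPQ ▸ commutator_mem_commutator hp hq))
  by_contra hnot
  set C := centralizer ((P ⊔ Q : Subgroup S) : Set S) with hC
  obtain ⟨c₀, hc₀C, hc₀⟩ := SetLike.not_le_iff_exists.mp hnot
  obtain ⟨c, hcC, hc, hcc⟩ : ∃ c, c ∈ C ∧ c ∉ P ⊔ Q ∧ c ^ 2 ∈ P ⊔ Q := by
    obtain ⟨e, he⟩ := h2 c₀
    have hex : ∃ k, c₀ ^ 2 ^ k ∈ P ⊔ Q := ⟨e, by rw [he]; exact one_mem _⟩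
    obtain ⟨k, hk, hmin⟩ := Nat.findX hex
    rcases k with _ | k
    · exact absurd (by simpa using hk) hc₀
    · exact ⟨c₀ ^ 2 ^ k, pow_mem hc₀C _, hmin k (Nat.lt_succ_self k), by rwa [← pow_mul, ← pow_succ]⟩
  set ΦP := (frattini P).map P.subtype with hΦP
  set ΦQ := (frattini Q).map Q.subtype with hΦQ
  haveI : ΦP.Normal := by rw [hΦP]; infer_instance
  haveI : ΦQ.Normal := by rw [hΦQ]; infer_instance
  set N := ΦP ⊔ ΦQ with hN
  haveI : N.Normal := inferInstance
  set π := QuotientGroup.mk' N with hπ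
  have hfr : ∀ (R : Subgroup S) (x : R) , x ^ 2 ∈ frattini R ∧ ∀ y : R, ⁅x, y⁆ ∈ frattini R := fun R x =>
    ⟨Cfsg.Lib.PGroup.pow_mem_frattini (h2.to_subgroup R) x, fun y => Cfsg.Lib.PGroup.commutator_le_frattini (h2.to_subgroup R)
      (_root_.commutator_def R ▸ commutator_mem_commutator (mem_top x) (mem_top y))⟩
  have hkill : ∀ x ∈ N, π x = 1 := fun x hx => (QuotientGroup.eq_one_iff x).mpr hx
  have hccN : c ^ 2 ∈ N := by
    have hmem : c ^ 2 ∈ ((P ⊔ Q : Subgroup S) : Set S) := hcc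
    rw [Subgroup.normal_mul] at hmem
    obtain ⟨a, ha, b, hb, hab⟩ := hmem
    have hab' : a * b = c ^ 2 := hab
    have hcp : ∀ x ∈ P ⊔ Q, x * c ^ 2 = c ^ 2 * x := fun x hx =>
      mem_centralizer_iff.mp (pow_mem hcC 2) x hx
    rw [← hab']
    refine mul_mem (mem_sup_left ⟨⟨a, ha⟩, center_le_frattini (h2.to_subgroup P) hP hZP
      (mem_center_iff.mpr fun g => Subtype.ext ?_), rfl⟩) (mem_sup_right ⟨⟨b, hb⟩, center_le_frattini (h2.to_subgroup Q) hQ hZQ
      (mem_center_iff.mpr fun g => Subtype.ext ?_), rfl⟩)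
    · show (g : S) * a = a * g
      have h1 := hcp g (mem_sup_left g.2)
      rw [← hab', ← mul_assoc, mul_assoc a b, ← hcomm g g.2 b hb, ← mul_assoc] at h1
      exact mul_right_cancel h1
    · show (g : S) * b = b * g
      have h1 := hcp g (mem_sup_right g.2)
      rw [← hab', ← mul_assoc, ← hcomm a ha g g.2, mul_assoc, mul_assoc] at h1
      exact mul_left_cancel h1
  -- the elementary abelian image
  set gens : Set (S ⧸ N) := π '' ((P : Set S) ∪ Q ∪ {c}) with hgens
  have hgcomm : ∀ x ∈ gens, ∀ y ∈ gens, x * y = y * x := by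
    rintro _ ⟨x, hx, rfl⟩ _ ⟨y, hy, rfl⟩
    have hcx : ∀ x, x ∈ (P : Set S) ∪ Q → x * c = c * x := fun x hx => mem_centralizer_iff.mp hcC x
      (hx.elim (fun h => mem_sup_left h) fun h => mem_sup_right h)
    rw [← commutatorElement_eq_one_iff_mul_comm, ← map_commutatorElement]
    rcases hx with hx | hx <;> rcases hy with hy | hy
    · rcases hx with hx | hx <;> rcases hy with hy | hy
      · exact hkill _ (mem_sup_left ⟨⁅(⟨x, hx⟩ : P), ⟨y, hy⟩⁆, (hfr P _).2 _, map_commutatorElement P.subtype _ _⟩)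
      · rw [commutatorElement_eq_one_iff_mul_comm.mpr (hcomm x hx y hy), map_one]
      · rw [commutatorElement_eq_one_iff_mul_comm.mpr (hcomm y hy x hx).symm, map_one]
      · exact hkill _ (mem_sup_right ⟨⁅(⟨x, hx⟩ : Q), ⟨y, hy⟩⁆, (hfr Q _).2 _, map_commutatorElement Q.subtype _ _⟩)
    · rw [Set.mem_singleton_iff.mp hy, commutatorElement_eq_one_iff_mul_comm.mpr (hcx x hx), map_one]
    · rw [Set.mem_singleton_iff.mp hx, commutatorElement_eq_one_iff_mul_comm.mpr (hcx y hy).symm, map_one]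
    · rw [Set.mem_singleton_iff.mp hx, Set.mem_singleton_iff.mp hy, commutatorElement_self, map_one]
  haveI : IsMulCommutative (closure gens) := isMulCommutative_closure hgcomm
  set E := closure gens with hE
  have hEsq : ∀ x ∈ E, x ^ 2 = 1 := fun x hx => by
    induction hx using closure_induction with
    | mem x hx =>
      obtain ⟨y, hy, rfl⟩ := hx
      rw [← map_pow]
      apply hkill
      rcases hy with (hy | hy) | hy
      · exact mem_sup_left ⟨(⟨y, hy⟩ : P) ^ 2, (hfr P _).1, rfl⟩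
      · exact mem_sup_right ⟨(⟨y, hy⟩ : Q) ^ 2, (hfr Q _).1, rfl⟩
      · rw [Set.mem_singleton_iff.mp hy]; exact hccN
    | one => exact one_pow _
    | mul x y hx hy ihx ihy =>
      have hc : Commute x y := congrArg Subtype.val ((IsMulCommutative.is_comm (M := E)).comm ⟨x, hx⟩ ⟨y, hy⟩)
      rw [hc.mul_pow, ihx, ihy, one_mul]
    | inv x hx ih => rw [inv_pow, ih, inv_one]
  have hbound := image_le hr (E.comap π) (π.subgroupComap E) (fun y => by
      obtain ⟨g, hg⟩ := QuotientGroup.mk'_surjective N (y : S ⧸ N)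
      exact ⟨⟨g, show π g ∈ E by rw [hπ, hg]; exact y.2⟩, Subtype.ext hg⟩)
    (fun a b => (IsMulCommutative.is_comm (M := E)).comm a b) (fun a => Subtype.ext (hEsq a a.2))
  -- cardinality
  have hK : P ⊔ Q < E.comap π := by
    refine lt_of_le_of_ne (sup_le ?_ ?_) fun h => hc ?_
    · exact fun x hx => subset_closure (Set.mem_image_of_mem π (Or.inl (Or.inl hx)))
    · exact fun x hx => subset_closure (Set.mem_image_of_mem π (Or.inl (Or.inr hx)))
    · rw [h]; exact subset_closure (Set.mem_image_of_mem π (Or.inr rfl))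
  have hPQcard : Nat.card P * Nat.card Q ≤ Nat.card (P ⊔ Q : Subgroup S) := by
    rw [← Nat.card_prod]
    refine Nat.card_le_card_of_injective (fun x => ⟨x.1.1 * x.2.1, mul_mem (mem_sup_left x.1.2) (mem_sup_right x.2.2)⟩) ?_
    intro x y hxy
    exact mul_injective_of_disjoint (disjoint_iff.mpr hinf) (congrArg Subtype.val hxy)
  have h2K : 2 * Nat.card (P ⊔ Q : Subgroup S) ≤ Nat.card (E.comap π) := by
    obtain ⟨m, hm⟩ := card_dvd_of_le hK.le
    have hm1 : m ≠ 1 := by
      rintro rfl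
      exact hK.ne (eq_of_le_of_card_ge hK.le (by rw [hm, mul_one]))
    have hm0 : m ≠ 0 := by rintro rfl; exact (Nat.card_pos (α := E.comap π)).ne' (by rw [hm, mul_zero])
    rw [hm, mul_comm]
    exact Nat.mul_le_mul_left _ (by omega)
  have hEcard : Nat.card (E.comap π) ≤ Nat.card E * (Nat.card ΦP * Nat.card ΦQ) := by
    have h1 := N.card_mul_index
    have h2' := (E.comap π).card_mul_index
    have h3 := E.card_mul_index
    rw [index_comap_of_surjective _ (QuotientGroup.mk'_surjective _)] at h2'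
    rw [index_eq_card] at h1
    rw [← h1, ← h3] at h2'
    have h4 : Nat.card (E.comap π) = Nat.card E * Nat.card N :=
      Nat.eq_of_mul_eq_mul_right (Nat.pos_of_ne_zero index_ne_zero_of_finite) (by rw [h2']; ring)
    rw [h4]
    refine Nat.mul_le_mul_left _ ?_
    rw [← Nat.card_prod]
    refine Nat.card_le_card_of_surjective (fun x : ΦP × ΦQ => (⟨x.1.1 * x.2.1, mul_mem (mem_sup_left x.1.2) (mem_sup_right x.2.2)⟩ : N)) ?_
    rintro ⟨x, hx⟩
    have hx' : x ∈ ((ΦP ⊔ ΦQ : Subgroup S) : Set S) := hx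
    rw [Subgroup.normal_mul] at hx'
    obtain ⟨a, ha, b, hb, rfl⟩ := hx'
    exact ⟨(⟨a, ha⟩, ⟨b, hb⟩), rfl⟩
  have hP4 : 4 * Nat.card ΦP ≤ Nat.card P := by
    rw [hΦP, card_map_of_injective P.subtype_injective, ← (frattini P).card_mul_index, mul_comm 4]
    exact Nat.mul_le_mul_left _ (four_le_index_frattini (h2.to_subgroup P) hP)
  have hQ4 : 4 * Nat.card ΦQ ≤ Nat.card Q := by
    rw [hΦQ, card_map_of_injective Q.subtype_injective, ← (frattini Q).card_mul_index, mul_comm 4]
    exact Nat.mul_le_mul_left _ (four_le_index_frattini (h2.to_subgroup Q) hQ)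
  have hpos : 0 < Nat.card ΦP * Nat.card ΦQ := Nat.mul_pos Nat.card_pos Nat.card_pos
  have h32 : 32 * (Nat.card ΦP * Nat.card ΦQ) ≤ 16 * (Nat.card ΦP * Nat.card ΦQ) := by
    calc 32 * (Nat.card ΦP * Nat.card ΦQ) = 2 * ((4 * Nat.card ΦP) * (4 * Nat.card ΦQ)) := by ring
      _ ≤ 2 * (Nat.card P * Nat.card Q) := Nat.mul_le_mul_left _ (Nat.mul_le_mul hP4 hQ4)
      _ ≤ 2 * Nat.card (P ⊔ Q : Subgroup S) := Nat.mul_le_mul_left _ hPQcard
      _ ≤ Nat.card E * (Nat.card ΦP * Nat.card ΦQ) := h2K.trans hEcard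
      _ ≤ 16 * (Nat.card ΦP * Nat.card ΦQ) := Nat.mul_le_mul_right _ hbound
  omega

omit [Finite S] in
/-- Sectional rank passes to embedded groups. -/
theorem sectional_of_injective {k : ℕ} (hr : Cfsg.SectionalPRankLE 2 k S) {M : Type w} [Group M] (ι : M →* S)
    (hι : Function.Injective ι) : Cfsg.SectionalPRankLE 2 k M := by
  intro H N _ A hA hA2
  set π := QuotientGroup.mk' N with hπ
  refine image_le_of_injective hr ((ι.comp H.subtype).comp (A.comap π).subtype)
    ((hι.comp H.subtype_injective).comp (A.comap π).subtype_injective) (π.subgroupComap A) (fun y => ?_)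
    (fun a b => hA.is_comm.comm a b) (fun a => Subtype.ext (hA2 a a.2))
  obtain ⟨g, hg⟩ := QuotientGroup.mk'_surjective N (y : H ⧸ N)
  exact ⟨⟨g, show π g ∈ A by rw [hπ, hg]; exact y.2⟩, Subtype.ext hg⟩

omit [Finite S] in
/-- Half the rank for a group whose square embeds. -/
theorem sectional_half {k : ℕ} (hr : Cfsg.SectionalPRankLE 2 (2 * k) S) {M : Type w} [Group M] (ι : M × M →* S)
    (hι : Function.Injective ι) : Cfsg.SectionalPRankLE 2 k M := by
  intro H N _ A hA hA2
  set π := QuotientGroup.mk' N with hπ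
  set B := A.comap π with hB
  set f := π.subgroupComap A with hf
  have hfs : Function.Surjective f := fun y => by
    obtain ⟨g, hg⟩ := QuotientGroup.mk'_surjective N (y : H ⧸ N)
    exact ⟨⟨g, show π g ∈ A by rw [hπ, hg]; exact y.2⟩, Subtype.ext hg⟩
  have h := image_le_of_injective hr (ι.comp ((H.subtype.comp B.subtype).prodMap (H.subtype.comp B.subtype)))
    (hι.comp ((H.subtype_injective.comp B.subtype_injective).prodMap (H.subtype_injective.comp B.subtype_injective)))
    (f.prodMap f) (hfs.prodMap hfs) (fun a b => Prod.ext (hA.is_comm.comm _ _) (hA.is_comm.comm _ _))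
    (fun a => Prod.ext (Subtype.ext (hA2 _ a.1.2)) (Subtype.ext (hA2 _ a.2.2)))
  rw [Nat.card_prod, pow_mul', ← sq] at h
  exact Nat.pow_le_pow_iff_left two_ne_zero |>.mp h

/-- The centre of a subgroup, inside the group. -/
theorem mem_centerOf {P : Subgroup S} {x : S} :
    x ∈ (center P).map P.subtype ↔ x ∈ P ∧ ∀ p ∈ P, p * x = x * p := by
  constructor
  · rintro ⟨⟨x, hx⟩, hc, rfl⟩
    exact ⟨hx, fun p hp => congrArg Subtype.val (mem_center_iff.mp hc ⟨p, hp⟩)⟩
  · rintro ⟨hx, hc⟩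
    exact ⟨⟨x, hx⟩, mem_center_iff.mpr fun g => Subtype.ext (hc g g.2), rfl⟩

/-- The product statement for subgroups normal in a subgroup `T`. -/
theorem product_in (h2 : IsPGroup 2 S) (hr : Cfsg.SectionalPRankLE 2 4 S) (T P Q : Subgroup S)
    (hPT : P ≤ T) (hQT : Q ≤ T) (hPn : ∀ g ∈ T, ∀ x ∈ P, g * x * g⁻¹ ∈ P) (hQn : ∀ g ∈ T, ∀ x ∈ Q, g * x * g⁻¹ ∈ Q)
    (hP : ¬ IsMulCommutative ↥P) (hQ : ¬ IsMulCommutative ↥Q) (hZP : Nat.card ↥(center ↥P) = 2)
    (hZQ : Nat.card ↥(center ↥Q) = 2) {z : S} (hzP : z ∈ (center P).map P.subtype) (hzQ : z ∉ (center Q).map Q.subtype) :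
    (∀ p ∈ P, ∀ q ∈ Q, p * q = q * p) ∧ P ⊓ Q = ⊥ ∧
      ∀ x ∈ T, (∀ p ∈ P, p * x = x * p) → (∀ q ∈ Q, q * x = x * q) → ∃ a ∈ P, ∃ b ∈ Q, x = a * b := by
  classical
  haveI : (P.subgroupOf T).Normal := ⟨fun x hx g => hPn g g.2 x hx⟩
  haveI : (Q.subgroupOf T).Normal := ⟨fun x hx g => hQn g g.2 x hx⟩
  have eP := subgroupOfEquivOfLe hPT
  have eQ := subgroupOfEquivOfLe hQT
  obtain ⟨h1, h2', h3⟩ := product (h2.to_subgroup T) (sectional_of_injective hr T.subtype T.subtype_injective)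
    (P.subgroupOf T) (Q.subgroupOf T)
    (fun h => hP ⟨⟨fun a b => eP.symm.injective (by rw [map_mul, map_mul]; exact h.is_comm.comm _ _)⟩⟩)
    (fun h => hQ ⟨⟨fun a b => eQ.symm.injective (by rw [map_mul, map_mul]; exact h.is_comm.comm _ _)⟩⟩)
    ((Nat.card_congr (Subgroup.centerCongr eP).toEquiv).trans hZP)
    ((Nat.card_congr (Subgroup.centerCongr eQ).toEquiv).trans hZQ) (by
      intro h
      obtain ⟨hzP', hzc⟩ := mem_centerOf.mp hzP
      have hmem : (⟨z, hPT hzP'⟩ : T) ∈ (center (Q.subgroupOf T)).map (Q.subgroupOf T).subtype :=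
        h ▸ mem_centerOf.mpr ⟨hzP', fun p hp => Subtype.ext (hzc p hp)⟩
      obtain ⟨hzq, hzc'⟩ := mem_centerOf.mp hmem
      exact hzQ (mem_centerOf.mpr ⟨hzq, fun q hq => congrArg Subtype.val (hzc' ⟨q, hQT hq⟩ hq)⟩))
  refine ⟨fun p hp q hq => ?_, ?_, fun x hx hxP hxQ => ?_⟩
  · have := commutatorElement_eq_one_iff_mul_comm.mp (mem_bot.mp (h1 ▸ commutator_mem_commutator
      (show (⟨p, hPT hp⟩ : T) ∈ P.subgroupOf T from hp) (show (⟨q, hQT hq⟩ : T) ∈ Q.subgroupOf T from hq)))
    exact congrArg Subtype.val this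
  · refine eq_bot_iff.mpr fun x hx => ?_
    have : (⟨x, hPT hx.1⟩ : T) ∈ P.subgroupOf T ⊓ Q.subgroupOf T := ⟨hx.1, hx.2⟩
    rw [h2'] at this
    exact congrArg Subtype.val (mem_bot.mp this)
  · have hmem : (⟨x, hx⟩ : T) ∈ P.subgroupOf T ⊔ Q.subgroupOf T := by
      refine h3 (mem_centralizer_iff.mpr fun y hy => ?_)
      have hle : P.subgroupOf T ⊔ Q.subgroupOf T ≤ centralizer ({⟨x, hx⟩} : Set T) :=
        sup_le (fun g hg => mem_centralizer_singleton_iff.mpr (Subtype.ext (hxP g hg)))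
          (fun g hg => mem_centralizer_singleton_iff.mpr (Subtype.ext (hxQ g hg)))
      exact mem_centralizer_singleton_iff.mp (hle hy)
    have hmem' : (⟨x, hx⟩ : T) ∈ ((P.subgroupOf T ⊔ Q.subgroupOf T : Subgroup T) : Set T) := hmem
    rw [Subgroup.normal_mul] at hmem'
    obtain ⟨a, ha, b, hb, hab⟩ := hmem'
    exact ⟨a, ha, b, hb, (congrArg Subtype.val hab).symm⟩

/-- The centraliser of the centre. -/
theorem centralizer_centre (h2 : IsPGroup 2 S) (hr : Cfsg.SectionalPRankLE 2 4 S)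
    (P : Subgroup S) (hP : ¬ IsMulCommutative ↥P) (hZP : Nat.card ↥(center ↥P) = 2)
    (S₀ : Subgroup S) (hS₀ : S₀ = centralizer (((center ↥P).map P.subtype : Subgroup S) : Set S))
    (hPn : ∀ s ∈ S₀, ∀ x ∈ P, s * x * s⁻¹ ∈ P) :
    S₀ = ⊤ ∨ (Cfsg.SectionalPRankLE 2 2 ↥P ∧ S₀.index = 2) := by
  classical
  haveI : Fact (Nat.Prime 2) := ⟨Nat.prime_two⟩
  by_cases htop : S₀ = ⊤
  · exact Or.inl htop
  right
  obtain ⟨⟨z', hz'⟩, hz'1, huniq⟩ := (Nat.card_eq_two_iff' (1 : center P)).mp hZP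
  set z : S := (z' : S) with hz
  have hz1 : z ≠ 1 := fun h => hz'1 (Subtype.ext (Subtype.ext h))
  have hzZ : z ∈ (center P).map P.subtype := ⟨z', hz', rfl⟩
  have hzP : z ∈ P := z'.2
  have hZ : ∀ x ∈ (center P).map P.subtype, x = 1 ∨ x = z := by
    rintro x ⟨x, hx, rfl⟩
    by_cases hx1 : x = 1
    · left; rw [hx1]; rfl
    · right; exact congrArg (fun u : center P => ((u : P) : S)) (huniq ⟨x, hx⟩ fun h => hx1 (congrArg Subtype.val h))
  have hmem₀ : ∀ g, g ∈ S₀ ↔ g * z * g⁻¹ = z := by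
    intro g
    rw [hS₀, mem_centralizer_iff, mul_inv_eq_iff_eq_mul]
    refine ⟨fun h => (h z hzZ).symm, fun h x hx => ?_⟩
    rcases hZ x hx with rfl | rfl
    · rw [one_mul, mul_one]
    · exact h.symm
  have hPS : P ≤ S₀ := fun p hp => (hmem₀ p).mpr (by
    rw [(mem_centerOf.mp hzZ).2 p hp, mul_inv_cancel_right])
  have hzc : ∀ g ∈ S₀, g * z = z * g := fun g hg => mul_inv_eq_iff_eq_mul.mp ((hmem₀ g).mp hg)
  have hz2 : z * z = 1 := by
    rcases hZ (z * z) (mul_mem hzZ hzZ) with h | h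
    · exact h
    · exact absurd (mul_eq_left.mp h) hz1
  -- conjugates
  let cP : S → Subgroup S := fun g => P.map (MulAut.conj g).toMonoidHom
  have hcmem : ∀ g x, x ∈ cP g ↔ g⁻¹ * x * g ∈ P := fun g x => by
    refine ⟨?_, fun h => ⟨_, h, ?_⟩⟩
    · rintro ⟨v, hv, rfl⟩
      show g⁻¹ * (g * v * g⁻¹) * g ∈ P
      rwa [show g⁻¹ * (g * v * g⁻¹) * g = v by group]
    · show g * (g⁻¹ * x * g) * g⁻¹ = x
      group
  have hcna : ∀ g, ¬ IsMulCommutative (cP g) := fun g h => hP ⟨⟨fun a b =>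
    (P.equivMapOfInjective (MulAut.conj g).toMonoidHom (MulAut.conj g).injective).injective (by rw [map_mul, map_mul]; exact h.is_comm.comm _ _)⟩⟩
  have hccard : ∀ g, Nat.card (center (cP g)) = 2 := fun g =>
    (Nat.card_congr (Subgroup.centerCongr (P.equivMapOfInjective (MulAut.conj g).toMonoidHom (MulAut.conj g).injective).symm).toEquiv).trans hZP
  set N := normalizer (S₀ : Set S) with hN
  have hcn : ∀ g ∈ N, ∀ h ∈ S₀, ∀ x ∈ cP g, h * x * h⁻¹ ∈ cP g := by
    intro g hg h hh x hx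
    rw [hcmem] at hx ⊢
    have hh' : g⁻¹ * h * g ∈ S₀ := by
      have := (mem_normalizer_iff.mp (inv_mem hg) h).mp hh
      rwa [inv_inv] at this
    have := hPn _ hh' _ hx
    rwa [show g⁻¹ * h * g * (g⁻¹ * x * g) * (g⁻¹ * h * g)⁻¹ = g⁻¹ * (h * x * h⁻¹) * g by group] at this
  have hcS : ∀ g ∈ N, cP g ≤ S₀ := fun g hg x hx => by
    rw [hcmem] at hx
    have := (mem_normalizer_iff.mp hg _).mp (hPS hx)
    rwa [show g * (g⁻¹ * x * g) * g⁻¹ = x by group] at this
  have hcz : ∀ g, g * z * g⁻¹ ∈ (center (cP g)).map (cP g).subtype := fun g => by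
    rw [mem_centerOf]
    refine ⟨(hcmem _ _).mpr (by rwa [show g⁻¹ * (g * z * g⁻¹) * g = z by group]), fun p hp => ?_⟩
    have := (mem_centerOf.mp hzZ).2 _ ((hcmem g p).mp hp)
    calc p * (g * z * g⁻¹) = g * ((g⁻¹ * p * g) * z) * g⁻¹ := by group
      _ = g * (z * (g⁻¹ * p * g)) * g⁻¹ := by rw [this]
      _ = _ := by group
  have hcnot : ∀ g, g * z * g⁻¹ ≠ z → z ∉ (center (cP g)).map (cP g).subtype := by
    intro g hne hmem
    obtain ⟨u, -, hu⟩ := (Nat.card_eq_two_iff' (1 : (center (cP g)).map (cP g).subtype)).mp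
      (by rw [card_map_of_injective (cP g).subtype_injective, hccard g])
    have a := hu ⟨z, hmem⟩ fun h => hz1 (congrArg Subtype.val h)
    have b := hu ⟨_, hcz g⟩ fun h => hz1 (conj_eq_one_iff.mp (congrArg Subtype.val h))
    exact hne (congrArg Subtype.val (b.trans a.symm))
  obtain ⟨s, hsN, hs⟩ : ∃ s ∈ N, s ∉ S₀ := by
    haveI := h2.isNilpotent
    have := Group.normalizerCondition_of_isNilpotent (G := S) S₀ (lt_top_iff_ne_top.mpr htop)
    obtain ⟨s, hs, hs'⟩ := SetLike.exists_of_lt this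
    exact ⟨s, hs, hs'⟩
  set Q := cP s with hQ
  set y := s * z * s⁻¹ with hy
  have hyz : y ≠ z := fun h => hs ((hmem₀ s).mpr h)
  obtain ⟨hPQ, hinf, hC⟩ := product_in h2 hr S₀ P Q hPS (hcS s hsN) hPn (hcn s hsN) hP (hcna s) hZP (hccard s)
    hzZ (hcnot s hyz)
  have hZQ : ∀ x ∈ (center Q).map Q.subtype, x = 1 ∨ x = y := by
    intro x hx
    by_cases hx1 : x = 1
    · exact Or.inl hx1
    obtain ⟨u, -, hu⟩ := (Nat.card_eq_two_iff' (1 : (center Q).map Q.subtype)).mp
      (by rw [card_map_of_injective Q.subtype_injective, hccard s])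
    right
    exact congrArg Subtype.val ((hu ⟨x, hx⟩ fun h => hx1 (congrArg Subtype.val h)).trans
      (hu ⟨y, hcz s⟩ fun h => hz1 (conj_eq_one_iff.mp (congrArg Subtype.val h))).symm)
  -- elements of `S₀` centralizing both
  have hW : ∀ x ∈ S₀, (∀ p ∈ P, p * x = x * p) → (∀ q ∈ Q, q * x = x * q) →
      x = 1 ∨ x = z ∨ x = y ∨ x = z * y := by
    intro x hx hxP hxQ
    obtain ⟨a, ha, b, hb, rfl⟩ := hC x hx hxP hxQ
    have haZ : a ∈ (center P).map P.subtype := mem_centerOf.mpr ⟨ha, fun p hp => by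
      have h1 := hxP p hp
      rw [← mul_assoc, mul_assoc a b, ← hPQ p hp b hb, ← mul_assoc] at h1
      exact mul_right_cancel h1⟩
    have hbZ : b ∈ (center Q).map Q.subtype := mem_centerOf.mpr ⟨hb, fun q hq => by
      have h1 := hxQ q hq
      rw [← mul_assoc, ← hPQ a ha q hq, mul_assoc, mul_assoc] at h1
      exact mul_left_cancel h1⟩
    rcases hZ a haZ with rfl | rfl <;> rcases hZQ b hbZ with rfl | rfl <;> simp
  have hzy : z * y = y * z := hPQ z hzP y (mem_centerOf.mp (hcz s)).1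
  have hy2 : y * y = 1 := by rw [hy, show s * z * s⁻¹ * (s * z * s⁻¹) = s * (z * z) * s⁻¹ by group, hz2]; group
  have hconj : ∀ g ∈ N, g * z * g⁻¹ = z ∨ g * z * g⁻¹ = y := by
    intro g hg
    have hgS : g * z * g⁻¹ ∈ S₀ := hcS g hg (mem_centerOf.mp (hcz g)).1
    have hcomm : ∀ h ∈ S₀, h * (g * z * g⁻¹) = (g * z * g⁻¹) * h := by
      intro h hh
      have hh' : g⁻¹ * h * g ∈ S₀ := by
        have := (mem_normalizer_iff.mp (inv_mem hg) h).mp hh
        rwa [inv_inv] at this
      have h1 := hzc _ hh'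
      calc h * (g * z * g⁻¹) = g * ((g⁻¹ * h * g) * z) * g⁻¹ := by group
        _ = g * (z * (g⁻¹ * h * g)) * g⁻¹ := by rw [h1]
        _ = _ := by group
    rcases hW _ hgS (fun p hp => hcomm p (hPS hp)) (fun q hq => hcomm q (hcS s hsN hq)) with h | h | h | h
    · exact absurd (conj_eq_one_iff.mp h) hz1
    · exact Or.inl h
    · exact Or.inr h
    exfalso
    have hne : g * z * g⁻¹ ≠ z := by
      rw [h]
      intro h'
      have hy1 : y = 1 := mul_eq_left.mp h'
      exact hz1 (conj_eq_one_iff.mp hy1)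
    have hne' : y ∉ (center (cP g)).map (cP g).subtype := by
      intro hmem
      obtain ⟨u, -, hu⟩ := (Nat.card_eq_two_iff' (1 : (center (cP g)).map (cP g).subtype)).mp
        (by rw [card_map_of_injective (cP g).subtype_injective, hccard g])
      have := congrArg Subtype.val ((hu ⟨y, hmem⟩ fun e => hz1 (conj_eq_one_iff.mp (congrArg Subtype.val e))).trans
        (hu ⟨_, hcz g⟩ fun e => hz1 (conj_eq_one_iff.mp (congrArg Subtype.val e))).symm)
      have this' : y = g * z * g⁻¹ := this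
      rw [h] at this'
      exact hz1 (mul_eq_right.mp this'.symm)
    obtain ⟨h1, -, -⟩ := product_in h2 hr S₀ P (cP g) hPS (hcS g hg) hPn (hcn g hg) hP (hcna g) hZP (hccard g)
      hzZ (hcnot g hne)
    obtain ⟨h2', -, -⟩ := product_in h2 hr S₀ Q (cP g) (hcS s hsN) (hcS g hg) (hcn s hsN) (hcn g hg) (hcna s) (hcna g) (hccard s) (hccard g)
      (hcz s) hne'
    refine hcna g ⟨⟨fun a b => Subtype.ext ?_⟩⟩
    have hb := hW b.1 (hcS g hg b.2) (fun p hp => h1 p hp b b.2) (fun q hq => h2' q hq b b.2)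
    show a.1 * b.1 = b.1 * a.1
    have e1 : a.1 * z = z * a.1 := (h1 z hzP a a.2).symm
    have e2 : a.1 * y = y * a.1 := (h2' y (mem_centerOf.mp (hcz s)).1 a a.2).symm
    rcases hb with hb | hb | hb | hb <;> rw [hb]
    · simp
    · exact e1
    · exact e2
    · exact ((show Commute a.1 z from e1).mul_right e2).eq
  have hsplit : ∀ g ∈ N, g ∈ S₀ ∨ s⁻¹ * g ∈ S₀ := by
    intro g hg
    rcases hconj g hg with h | h
    · exact Or.inl ((hmem₀ g).mpr h)
    · right
      rw [hmem₀]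
      calc s⁻¹ * g * z * (s⁻¹ * g)⁻¹ = s⁻¹ * (g * z * g⁻¹) * s := by group
        _ = z := by rw [h, hy]; group
  have hw : ∀ g ∈ N, g * (z * y) * g⁻¹ = z * y := by
    intro g hg
    have e : g * (z * y) * g⁻¹ = (g * z * g⁻¹) * ((g * s) * z * (g * s)⁻¹) := by rw [hy]; group
    have hne : g * z * g⁻¹ ≠ (g * s) * z * (g * s)⁻¹ := fun h => hyz (by
      rw [show (g * s) * z * (g * s)⁻¹ = g * y * g⁻¹ by rw [hy]; group] at h
      exact (mul_left_cancel (mul_right_cancel h)).symm)
    rw [e]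
    rcases hconj g hg with h | h <;> rcases hconj (g * s) (mul_mem hg hsN) with h' | h' <;> rw [h, h'] at hne ⊢
    · exact absurd rfl hne
    · exact hzy.symm
    · exact absurd rfl hne
  have hNtop : N = ⊤ := by
    by_contra hNne
    haveI := h2.isNilpotent
    obtain ⟨t, htN, ht⟩ := SetLike.exists_of_lt
      (Group.normalizerCondition_of_isNilpotent (G := S) N (lt_top_iff_ne_top.mpr hNne))
    have htconj : ∀ g, g ∈ N ↔ t * g * t⁻¹ ∈ N := mem_normalizer_iff.mp htN
    have hzN : z ∈ N := le_normalizer (hPS hzP)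
    have hyN : y ∈ N := le_normalizer (hcS s hsN (mem_centerOf.mp (hcz s)).1)
    set u := t * z * t⁻¹ with hu
    have huN : u ∈ N := (htconj z).mp hzN
    -- `t` fixes `z y`
    have htw : t * (z * y) * t⁻¹ = z * y := by
      set x := t * (z * y) * t⁻¹ with hx
      have hxN : x ∈ N := (htconj _).mp (mul_mem hzN hyN)
      have hxc : ∀ g ∈ N, g * x = x * g := by
        intro g hg
        have hg' : t⁻¹ * g * t ∈ N := (htconj _).mpr (by rwa [show t * (t⁻¹ * g * t) * t⁻¹ = g by group])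
        have h1 := mul_inv_eq_iff_eq_mul.mp (hw _ hg')
        calc g * x = t * ((t⁻¹ * g * t) * (z * y)) * t⁻¹ := by rw [hx]; group
          _ = t * ((z * y) * (t⁻¹ * g * t)) * t⁻¹ := by rw [h1]
          _ = _ := by rw [hx]; group
      have hxS : x ∈ S₀ := (hmem₀ x).mpr (by rw [← hxc z hzN, mul_inv_cancel_right])
      rcases hW x hxS (fun p hp => hxc p (le_normalizer (hPS hp)))
        (fun q hq => hxc q (le_normalizer (hcS s hsN hq))) with h | h | h | h
      · exfalso
        exact hyz (mul_left_cancel ((conj_eq_one_iff.mp h).trans hz2.symm))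
      · exfalso
        have := hxc s hsN
        rw [h] at this
        exact hyz (by rw [hy, this, mul_inv_cancel_right])
      · exfalso
        have h3 := hxc s hsN
        rw [h, hy] at h3
        have h4 : s * z * s⁻¹ = z := mul_right_cancel (b := s) (mul_left_cancel (a := s)
          (show s * (s * z * s⁻¹ * s) = s * (z * s) by rw [show s * z * s⁻¹ * s = s * z by group, ← mul_assoc,
            show s * s * z = s * (s * z * s⁻¹) * s by group, h3]; group))
        exact hyz h4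
      · exact h
    have huconj : ∀ g ∈ N, g * u * g⁻¹ = u ∨ g * u * g⁻¹ = u * (z * y) := by
      intro g hg
      have hg' : t⁻¹ * g * t ∈ N := (htconj _).mpr (by rwa [show t * (t⁻¹ * g * t) * t⁻¹ = g by group])
      have e : g * u * g⁻¹ = t * ((t⁻¹ * g * t) * z * (t⁻¹ * g * t)⁻¹) * t⁻¹ := by rw [hu]; group
      rcases hconj _ hg' with h | h
      · left; rw [e, h]
      · right
        rw [e, h]
        conv_rhs => rw [← htw, hu, show t * z * t⁻¹ * (t * (z * y) * t⁻¹) = t * ((z * z) * y) * t⁻¹ by group, hz2, one_mul]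
    have hwP : z * y ∉ P := fun h => by
      have hyP : y ∈ P := by
        have h1 := mul_mem (inv_mem hzP) h
        rwa [inv_mul_cancel_left] at h1
      have : y ∈ P ⊓ Q := ⟨hyP, (mem_centerOf.mp (hcz s)).1⟩
      rw [hinf] at this
      exact hz1 (conj_eq_one_iff.mp (mem_bot.mp this))
    have hwQ : z * y ∉ Q := fun h => by
      have hzQ : z ∈ Q := by
        have h1 : z * y * y⁻¹ ∈ Q := mul_mem h (inv_mem (mem_centerOf.mp (hcz s)).1)
        rwa [mul_inv_cancel_right] at h1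
      have : z ∈ P ⊓ Q := ⟨hzP, hzQ⟩
      rw [hinf] at this
      exact hz1 (mem_bot.mp this)
    by_cases huS : u ∈ S₀
    · have hcent : ∀ R : Subgroup S, R ≤ S₀ → (∀ h ∈ S₀, ∀ x ∈ R, h * x * h⁻¹ ∈ R) → z * y ∉ R →
          ∀ r ∈ R, r * u = u * r := by
        intro R hR hRn hwR r hr
        rcases huconj r (le_normalizer (hR hr)) with h | h
        · exact mul_inv_eq_iff_eq_mul.mp h
        · exfalso
          apply hwR
          have e : z * y = (u⁻¹ * r * (u⁻¹)⁻¹) * r⁻¹ := by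
            rw [show u⁻¹ * r * (u⁻¹)⁻¹ * r⁻¹ = u⁻¹ * (r * u * r⁻¹) by group, h, inv_mul_cancel_left]
          rw [e]
          exact mul_mem (hRn _ (inv_mem huS) r hr) (inv_mem hr)
      have htz : ∀ g, t * g⁻¹ ∈ N → g ∈ N → False := fun g hg hgN => ht (by simpa using mul_mem hg hgN)
      rcases hW u huS (hcent P hPS hPn hwP) (hcent Q (hcS s hsN) (hcn s hsN) hwQ) with h | h | h | h
      · exact hz1 (conj_eq_one_iff.mp h)
      · exact ht (le_normalizer ((hmem₀ t).mpr h))
      · refine ht ?_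
        have : s⁻¹ * t ∈ S₀ := (hmem₀ _).mpr (by
          calc s⁻¹ * t * z * (s⁻¹ * t)⁻¹ = s⁻¹ * u * s := by rw [hu]; group
            _ = z := by rw [h, hy]; group)
        simpa using mul_mem hsN (le_normalizer this)
      · have h' : t * z * t⁻¹ = t * (z * y) * t⁻¹ := h.trans htw.symm
        have hy1 : y = 1 := mul_eq_left.mp (mul_left_cancel (mul_right_cancel h')).symm
        exact hz1 (conj_eq_one_iff.mp hy1)
    · have hus : s⁻¹ * u ∈ S₀ := (hsplit u huN).resolve_left huS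
      have hPQu : ∀ p ∈ P, u * p * u⁻¹ ∈ Q := by
        intro p hp
        rw [hQ, hcmem, show s⁻¹ * (u * p * u⁻¹) * s = s⁻¹ * u * p * (s⁻¹ * u)⁻¹ by group]
        exact hPn _ hus p hp
      refine hP ⟨⟨fun a b => Subtype.ext ?_⟩⟩
      have hall : ∀ p ∈ P, p = 1 ∨ p = z := by
        intro p hp
        have hq := hPQu p⁻¹ (inv_mem hp)
        have e : p * u * p⁻¹ = (p * (u * p⁻¹ * u⁻¹)) * u := by group
        have key : ∀ v ∈ P, ∀ q ∈ Q, p * (u * p⁻¹ * u⁻¹) = v * q → p = v := fun v hv q hq' h =>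
          congrArg (fun x : P × Q => (x.1 : S)) (mul_injective_of_disjoint (disjoint_iff.mpr hinf)
            (show ((⟨p, hp⟩, ⟨_, hq⟩) : P × Q).1.1 * ((⟨p, hp⟩, ⟨_, hq⟩) : P × Q).2.1 =
              ((⟨v, hv⟩, ⟨q, hq'⟩) : P × Q).1.1 * ((⟨v, hv⟩, ⟨q, hq'⟩) : P × Q).2.1 from h))
        rcases huconj p (le_normalizer (hPS hp)) with h | h
        · left
          refine key 1 (one_mem _) 1 (one_mem _) ?_
          rw [e] at h
          rw [one_mul]
          exact mul_eq_right.mp h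
        · right
          refine key z hzP y (mem_centerOf.mp (hcz s)).1 ?_
          rw [e] at h
          have hcu : u * (z * y) = z * y * u := mul_inv_eq_iff_eq_mul.mp (hw u huN)
          rw [hcu] at h
          exact mul_right_cancel h
      show a.1 * b.1 = b.1 * a.1
      rcases hall a a.2 with h | h <;> rcases hall b b.2 with h' | h' <;> rw [h, h'] <;> simp
  refine ⟨?_, ?_⟩
  · let ι : P × P →* S :=
      { toFun := fun x => x.1.1 * (s * x.2.1 * s⁻¹)
        map_one' := by simp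
        map_mul' := fun x x' => by
          have hq : s * x.2.1 * s⁻¹ ∈ Q := (hcmem _ _).mpr (by
            rw [show s⁻¹ * (s * x.2.1 * s⁻¹) * s = x.2.1 by group]; exact x.2.2)
          have hc := hPQ _ x'.1.2 _ hq
          show x.1.1 * x'.1.1 * (s * (x.2.1 * x'.2.1) * s⁻¹) = _
          calc x.1.1 * x'.1.1 * (s * (x.2.1 * x'.2.1) * s⁻¹)
              = x.1.1 * (x'.1.1 * (s * x.2.1 * s⁻¹)) * (s * x'.2.1 * s⁻¹) := by group
            _ = _ := by rw [hc]; group }
    refine sectional_half (k := 2) hr ι fun x x' hxx => ?_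
    have hmemQ : ∀ p : P, s * (p : S) * s⁻¹ ∈ Q := fun p => (hcmem _ _).mpr (by
      rw [show s⁻¹ * (s * (p : S) * s⁻¹) * s = p by group]; exact p.2)
    have := mul_injective_of_disjoint (disjoint_iff.mpr hinf)
      (show ((x.1, ⟨_, hmemQ x.2⟩) : P × Q).1.1 * ((x.1, ⟨_, hmemQ x.2⟩) : P × Q).2.1 =
        ((x'.1, ⟨_, hmemQ x'.2⟩) : P × Q).1.1 * ((x'.1, ⟨_, hmemQ x'.2⟩) : P × Q).2.1 from hxx)
    refine Prod.ext (congrArg Prod.fst this :) (Subtype.ext ?_)
    exact mul_left_cancel (mul_right_cancel (congrArg (fun v : P × Q => (v.2 : S)) this :))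
  · refine index_eq_two_iff.mpr ⟨s, fun b => ?_⟩
    have hb : b ∈ N := hNtop ▸ mem_top b
    rcases hsplit b hb with h | h
    · refine Or.inr ⟨h, fun h' => hs ?_⟩
      simpa using mul_mem (inv_mem h) h'
    · by_cases hbS : b ∈ S₀
      · exact Or.inr ⟨hbS, fun h' => hs (by simpa using mul_mem (inv_mem hbS) h')⟩
      · refine Or.inl ⟨?_, hbS⟩
        -- `b * s` fixes `z`
        rw [hmem₀]
        have hbz : b * z * b⁻¹ = y := by
          rcases hconj b hb with e | e
          · exact absurd ((hmem₀ b).mpr e) hbS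
          · exact e
        rcases hconj (b * s) (mul_mem hb hsN) with e | e
        · exact e
        · exfalso
          rw [← hbz] at e
          have : s * z * s⁻¹ = z := mul_left_cancel (a := b) (mul_right_cancel (b := b⁻¹) (by
            rw [← e]; group))
          exact hyz this

end Cfsg.Lib.Fusion.RankFour
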