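import Cfsg.Prelude.Def_CaseTheorems
import Cfsg.Prelude.Def_OddOrderLocal
import Cfsg.Agent.Lib.PGroup.Basic
import Mathlib.Data.ZMod.Basic
import Mathlib.Tactic.Group

/-!
# 2-groups of sectional rank at most two are metacyclic
-/

set_option linter.style.haveILetI false
set_option autoImplicit false

namespace Cfsg.Lib.Fusion.RankTwo

open Subgroup
open scoped commutatorElement

universe u

variable {G : Type u} [Group G] [Finite G]

omit [Finite G] in
/-- An elementary section has order at most four. -/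
theorem section_le (hr : Cfsg.SectionalPRankLE 2 2 G) (H : Subgroup G) (N : Subgroup H) [N.Normal]
    (hcomm : ∀ a b : H ⧸ N, a * b = b * a) (hsq : ∀ a : H ⧸ N, a ^ 2 = 1) : Nat.card (H ⧸ N) ≤ 4 := by
  have := hr H N ⊤ ⟨⟨fun a b => Subtype.ext (hcomm a.1 b.1)⟩⟩ fun a _ => hsq a
  rwa [card_top] at this

omit [Finite G] in
/-- Sectional rank passes to quotients. -/
theorem sectional_quotient (hr : Cfsg.SectionalPRankLE 2 2 G) (K : Subgroup G) [K.Normal] :
    Cfsg.SectionalPRankLE 2 2 (G ⧸ K) := by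
  intro H N hN A hA hA2
  set π := QuotientGroup.mk' K with hπ
  let f : H.comap π →* H ⧸ N := (QuotientGroup.mk' N).comp (π.subgroupComap H)
  have hf : Function.Surjective f := (QuotientGroup.mk'_surjective N).comp
    (fun y => by
      obtain ⟨g, hg⟩ := QuotientGroup.mk'_surjective K (y : G ⧸ K)
      exact ⟨⟨g, show π g ∈ H by rw [hπ, hg]; exact y.2⟩, Subtype.ext hg⟩)
  let e := QuotientGroup.quotientKerEquivOfSurjective f hf
  have h1 := hr (H.comap π) f.ker (A.comap e.toMonoidHom) ⟨⟨fun a b => Subtype.ext (e.injective ?_)⟩⟩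
    (fun a ha => e.injective (by rw [map_pow, map_one]; exact hA2 _ ha))
  · rwa [show A.comap e.toMonoidHom = A.map e.symm.toMonoidHom from (A.map_equiv_eq_comap_symm e.symm).symm,
      card_map_of_injective e.symm.injective] at h1
  · show e (a.1 * b.1) = e (b.1 * a.1)
    rw [map_mul, map_mul]
    exact congrArg Subtype.val ((IsMulCommutative.is_comm (M := A)).comm ⟨_, a.2⟩ ⟨_, b.2⟩)

/-- A cyclic normal subgroup with cyclic quotient, from generators. -/
theorem finish {y w : G} (hgen : closure ({y, w} : Set G) = ⊤) (hw : w * y * w⁻¹ ∈ zpowers y) :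
    Cfsg.IsMetacyclic G := by
  have hn : (zpowers y).Normal := by
    rw [← normalizer_eq_top_iff, eq_top_iff, ← hgen, closure_le]
    rintro g (rfl | rfl)
    · exact le_normalizer (mem_zpowers g)
    · refine mem_normalizer_iff_map_conj_eq.mpr
        (eq_of_le_of_card_ge ?_ (card_map_of_injective (MulAut.conj g).injective).ge)
      rw [MonoidHom.map_zpowers, zpowers_le]
      exact hw
  refine ⟨zpowers y, hn, inferInstance, ⟨⟨QuotientGroup.mk w, fun q => ?_⟩⟩⟩
  obtain ⟨g, rfl⟩ := QuotientGroup.mk_surjective q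
  have : closure ({y, w} : Set G) ≤ (zpowers (QuotientGroup.mk w : G ⧸ zpowers y)).comap (QuotientGroup.mk' (zpowers y)) := by
    rw [closure_le]
    rintro v (rfl | rfl)
    · show (QuotientGroup.mk v : G ⧸ zpowers v) ∈ zpowers _
      rw [(QuotientGroup.eq_one_iff v).mpr (mem_zpowers v)]
      exact one_mem _
    · exact mem_zpowers _
  exact this (hgen ▸ mem_top g)

variable (h2 : IsPGroup 2 G) (hr : Cfsg.SectionalPRankLE 2 2 G)
include h2 hr

/-- Two generators. -/
theorem exists_two_gen : ∃ a b : G, closure ({a, b} : Set G) = ⊤ := by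
  classical
  haveI : Fact (Nat.Prime 2) := ⟨Nat.prime_two⟩
  haveI : (frattini G).Normal := inferInstance
  have hA : Nat.card (G ⧸ frattini G) ≤ 4 := by
    set N := (frattini G).subgroupOf (⊤ : Subgroup G) with hN
    have hcl : ∀ u v : G, ⁅u, v⁆ ∈ frattini G := fun u v =>
      Cfsg.Lib.PGroup.commutator_le_frattini h2
        (commutator_def G ▸ commutator_mem_commutator (mem_top u) (mem_top v))
    have h1 := section_le hr ⊤ N (fun x y => by
      obtain ⟨u, rfl⟩ := QuotientGroup.mk_surjective x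
      obtain ⟨v, rfl⟩ := QuotientGroup.mk_surjective y
      rw [← commutatorElement_eq_one_iff_mul_comm, ← QuotientGroup.mk'_apply, ← QuotientGroup.mk'_apply,
        ← map_commutatorElement]
      exact (QuotientGroup.eq_one_iff _).mpr (mem_subgroupOf.mpr (hcl u v))) (fun x => by
      obtain ⟨u, rfl⟩ := QuotientGroup.mk_surjective x
      rw [← QuotientGroup.mk_pow]
      exact (QuotientGroup.eq_one_iff _).mpr (mem_subgroupOf.mpr (Cfsg.Lib.PGroup.pow_mem_frattini h2 (u : G))))
    have hidx : N.index = (frattini G).index := by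
      rw [hN, ← relIndex, relIndex_top_right]
    rw [← index_eq_card, hidx] at h1
    rwa [← index_eq_card]
  -- lift two generators of the Frattini quotient
  obtain ⟨m, hm⟩ := IsPGroup.iff_card.mp (h2.to_quotient (frattini G))
  set Q := G ⧸ frattini G with hQ
  obtain ⟨s, t, hst⟩ : ∃ s t : Q, closure ({s, t} : Set Q) = ⊤ := by
    rcases subsingleton_or_nontrivial Q with h | h
    · exact ⟨1, 1, Subsingleton.elim _ _⟩
    obtain ⟨s, hs⟩ := exists_ne (1 : Q)
    by_cases hcov : zpowers s = ⊤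
    · exact ⟨s, s, top_le_iff.mp (hcov ▸ zpowers_le.mpr (subset_closure (by simp)))⟩
    obtain ⟨t, ht⟩ : ∃ t, t ∉ zpowers s := by
      by_contra! hall
      exact hcov (eq_top_iff.mpr fun x _ => hall x)
    refine ⟨s, t, eq_top_of_le_card _ ?_⟩
    have h1 : zpowers s < closure ({s, t} : Set Q) :=
      lt_of_le_of_ne (zpowers_le.mpr (subset_closure (by simp))) fun e => ht (e ▸ subset_closure (by simp))
    have h2' : 2 ≤ Nat.card (zpowers s) := by
      rw [Nat.card_zpowers]
      have := orderOf_pos s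
      have h0 : orderOf s ≠ 1 := fun h => hs (orderOf_eq_one_iff.mp h)
      omega
    have h3 : Nat.card (zpowers s) < Nat.card (closure ({s, t} : Set Q)) :=
      lt_of_le_of_ne (card_le_of_le h1.le) fun e => h1.ne (eq_of_le_of_card_ge h1.le e.ge)
    obtain ⟨k, hk⟩ := IsPGroup.iff_card.mp ((h2.to_quotient (frattini G)).to_subgroup (closure ({s, t} : Set Q)))
    rw [hk] at h3 ⊢
    rcases k with _ | _ | k
    · simp only [pow_zero] at h3; omega
    · simp only [zero_add, pow_one] at h3; omega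
    · have h4 : 2 ^ 2 ≤ 2 ^ (k + 1 + 1) := Nat.pow_le_pow_right Nat.two_pos (by omega)
      omega
  obtain ⟨a, rfl⟩ := QuotientGroup.mk_surjective s
  obtain ⟨b, rfl⟩ := QuotientGroup.mk_surjective t
  refine ⟨a, b, frattini_nongenerating ?_⟩
  have h1 : (closure ({a, b} : Set G)).map (QuotientGroup.mk' (frattini G)) = ⊤ := by
    rw [MonoidHom.map_closure, Set.image_pair]; exact hst
  rw [← comap_top (QuotientGroup.mk' (frattini G)), ← h1, comap_map_eq, QuotientGroup.ker_mk']

/-- Generated by an involution and another element, with central commutator of order two. -/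
theorem involution_case {x b c : G} (hgen : closure ({x, b} : Set G) = ⊤) (hx : x * x = 1)
    (hcZ : c ∈ center G) (hc2 : c * c = 1) (hc1 : c ≠ 1) (hxb : x * b * x⁻¹ * b⁻¹ = c)
    (hsq : ∀ g : G, g * g ∈ center G) (hcomm : ∀ g h : G, ⁅g, h⁆ ∈ zpowers c) :
    Cfsg.IsMetacyclic G := by
  classical
  haveI : Fact (Nat.Prime 2) := ⟨Nat.prime_two⟩
  by_cases hb : b * b = 1
  · have hxi : x⁻¹ = x := inv_eq_of_mul_eq_one_left hx
    have hbi : b⁻¹ = b := inv_eq_of_mul_eq_one_left hb
    refine finish (y := x * b) (w := b) ?_ ?_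
    · rw [eq_top_iff, ← hgen, closure_le]
      rintro v (rfl | rfl)
      · have := mul_mem (subset_closure (by simp : v * b ∈ ({v * b, b} : Set G)))
          (inv_mem (subset_closure (by simp : b ∈ ({v * b, b} : Set G))))
        rwa [mul_inv_cancel_right] at this
      · exact subset_closure (by simp)
    · refine mem_zpowers_iff.mpr ⟨-1, ?_⟩
      rw [zpow_neg, zpow_one, mul_inv_rev, hxi, hbi, ← mul_assoc, mul_assoc (b * x) b b, hb, mul_one]
  obtain ⟨e, he⟩ := h2 b
  obtain ⟨k, -, hk⟩ := (Nat.dvd_prime_pow Nat.prime_two).mp (orderOf_dvd_of_pow_eq_one he)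
  have hk2 : 2 ≤ k := by
    by_contra hlt
    apply hb
    rw [← sq]
    exact orderOf_dvd_iff_pow_eq_one.mp (hk ▸ (pow_dvd_pow 2 (by omega : k ≤ 1)).trans (by norm_num))
  set b' := b ^ 2 ^ (k - 1) with hb'
  have hb'o : orderOf b' = 2 := by
    rw [hb', orderOf_pow_of_dvd (pow_ne_zero _ two_ne_zero) (hk ▸ pow_dvd_pow 2 (by omega)), hk,
      Nat.pow_div (by omega) (by norm_num), show k - (k - 1) = 1 by omega, pow_one]
  have hb'Z : b' ∈ center G := by
    rw [hb', show 2 ^ (k - 1) = 2 * 2 ^ (k - 2) by rw [← pow_succ']; congr 1; omega, pow_mul, sq]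
    exact pow_mem (hsq b) _
  have hb'1 : b' ≠ 1 := fun h => by rw [h, orderOf_one] at hb'o; omega
  have hb'2 : b' * b' = 1 := by rw [← sq, ← hb'o, pow_orderOf_eq_one]
  by_cases hcb : c = b'
  · refine finish (y := b) (w := x) (by rw [Set.pair_comm]; exact hgen) ?_
    have : x * b * x⁻¹ = c * b := by rw [← hxb]; group
    rw [this, hcb]
    exact mul_mem (pow_mem (mem_zpowers b) _) (mem_zpowers b)
  exfalso
  set gens : Set G := {x, c, b'} with hgens
  have hall : ∀ u ∈ gens, ∀ v ∈ gens, u * v = v * u := by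
    intro u hu v hv
    simp only [hgens, Set.mem_insert_iff, Set.mem_singleton_iff] at hu hv
    rcases hu with rfl | rfl | rfl
    · rcases hv with rfl | rfl | rfl
      · rfl
      · exact mem_center_iff.mp hcZ _
      · exact mem_center_iff.mp hb'Z _
    · exact (mem_center_iff.mp hcZ v).symm
    · exact (mem_center_iff.mp hb'Z v).symm
  haveI : IsMulCommutative (closure gens) := isMulCommutative_closure hall
  set A := closure gens with hA
  have hA2 : ∀ v ∈ A, v * v = 1 := fun v hv => by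
    induction hv using closure_induction with
    | mem v hv =>
      simp only [hgens, Set.mem_insert_iff, Set.mem_singleton_iff] at hv
      rcases hv with rfl | rfl | rfl <;> assumption
    | one => rw [mul_one]
    | mul v v' hv hv' ih ih' =>
      have hc : Commute v v' := congrArg Subtype.val ((IsMulCommutative.is_comm (M := A)).comm ⟨v, hv⟩ ⟨v', hv'⟩)
      rw [← sq, hc.mul_pow, sq, sq, ih, ih', one_mul]
    | inv v hv ih => rw [← mul_inv_rev, ih, inv_one]
  have hxA : x ∈ A := subset_closure (by simp [hgens])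
  have hcA : c ∈ A := subset_closure (by simp [hgens])
  have hbA : b' ∈ A := subset_closure (by simp [hgens])
  have hxZ : x ∉ center G := fun h => hc1 (by
    rw [← hxb, ← mem_center_iff.mp h b, mul_inv_cancel_right, mul_inv_cancel])
  have hne : ∀ w : G, w ∈ center G → x ≠ w := fun w hw h => hxZ (h ▸ hw)
  let f : Fin 5 → A := ![1, ⟨x, hxA⟩, ⟨c, hcA⟩, ⟨b', hbA⟩, ⟨c * b', mul_mem hcA hbA⟩]
  have hf : Function.Injective f := by
    have e1 := hne 1 (one_mem _)
    have e2 := hne c hcZ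
    have e3 := hne b' hb'Z
    have e4 := hne (c * b') (mul_mem hcZ hb'Z)
    have e5 : c * b' ≠ 1 := fun h => hcb (by
      calc c = c * (b' * b') := by rw [hb'2, mul_one]
        _ = b' := by rw [← mul_assoc, h, one_mul])
    have e6 : c * b' ≠ c := fun h => hb'1 (mul_eq_left.mp h)
    have e7 : c * b' ≠ b' := fun h => hc1 (mul_eq_right.mp h)
    intro i j hij
    fin_cases i <;> fin_cases j <;>
      simp [f, Subtype.ext_iff, e1, e1.symm, e2, e2.symm, e3, e3.symm, e4, e4.symm, e5, e5.symm, e6,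
        e6.symm, e7, e7.symm, hc1, hc1.symm, hb'1, hb'1.symm, hcb, Ne.symm hcb] at hij ⊢
  have h5 := Nat.card_le_card_of_injective f hf
  rw [Nat.card_fin] at h5
  have h4 := section_le hr A ⊥
    (fun u v => by
      obtain ⟨u, rfl⟩ := QuotientGroup.mk_surjective u
      obtain ⟨v, rfl⟩ := QuotientGroup.mk_surjective v
      rw [← QuotientGroup.mk_mul, ← QuotientGroup.mk_mul, (IsMulCommutative.is_comm (M := A)).comm])
    (fun u => by
      obtain ⟨u, rfl⟩ := QuotientGroup.mk_surjective u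
      rw [← QuotientGroup.mk_pow]
      exact (QuotientGroup.eq_one_iff _).mpr (mem_bot.mpr (Subtype.ext (by
        rw [Subgroup.coe_pow, sq]; exact hA2 u u.2))))
  rw [Nat.card_congr (QuotientGroup.quotientBot (G := A)).toEquiv] at h4
  omega

omit hr in
theorem exists_central_involution {K : Subgroup G} [K.Normal] (hK : K ≠ ⊥) :
    ∃ z ∈ K, z ∈ center G ∧ z ≠ 1 ∧ z * z = 1 := by
  haveI : Fact (Nat.Prime 2) := ⟨Nat.prime_two⟩
  have hne := Cfsg.Lib.PGroup.inf_center_ne_bot h2 hK
  haveI : Nontrivial (K ⊓ center G : Subgroup G) := (Subgroup.nontrivial_iff_ne_bot _).mpr hne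
  obtain ⟨z, hz⟩ := exists_prime_orderOf_dvd_card' (G := (K ⊓ center G : Subgroup G)) 2 (by
    obtain ⟨i, hi, hc⟩ := (h2.to_subgroup (K ⊓ center G)).nontrivial_iff_card.mp inferInstance
    rw [hc]; exact dvd_pow_self 2 hi.ne')
  have hzo : orderOf (z : G) = 2 := by rw [Subgroup.orderOf_coe, hz]
  refine ⟨z, z.2.1, z.2.2, fun h => ?_, ?_⟩
  · rw [h, orderOf_one] at hzo; omega
  · rw [← sq, ← hzo, pow_orderOf_eq_one]

/-- The base case: the derived subgroup is central of exponent two. -/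
theorem base_case (hZ : ∀ g h : G, ⁅g, h⁆ ∈ center G) (hE : ∀ g h : G, ⁅g, h⁆ * ⁅g, h⁆ = 1) :
    Cfsg.IsMetacyclic G := by
  classical
  haveI : Fact (Nat.Prime 2) := ⟨Nat.prime_two⟩
  obtain ⟨a, b, hgen⟩ := exists_two_gen h2 hr
  set c := ⁅a, b⁆ with hc
  have hcZ : c ∈ center G := hZ a b
  have hc2 : c * c = 1 := hE a b
  have hcc : ∀ u, u * c = c * u := mem_center_iff.mp hcZ
  by_cases hc1 : c = 1
  · refine finish (y := a) (w := b) hgen ?_
    rw [← commutatorElement_eq_one_iff_mul_comm.mp hc1, mul_inv_cancel_right]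
    exact mem_zpowers a
  -- the derived subgroup is `⟨c⟩`
  have hcomm : ∀ g h : G, ⁅g, h⁆ ∈ zpowers c := by
    haveI hn : (zpowers c).Normal := ⟨fun u hu g => by
      obtain ⟨i, rfl⟩ := mem_zpowers_iff.mp hu
      rw [((show Commute g c from hcc g).zpow_right i).eq, mul_inv_cancel_right]
      exact hu⟩
    intro g h
    set π := QuotientGroup.mk' (zpowers c) with hπ
    have hab : Commute (π a) (π b) := by
      rw [commute_iff_eq, ← commutatorElement_eq_one_iff_mul_comm, ← map_commutatorElement]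
      exact (QuotientGroup.eq_one_iff _).mpr (mem_zpowers c)
    haveI : IsMulCommutative (closure ({π a, π b} : Set (G ⧸ zpowers c))) := by
      refine isMulCommutative_closure ?_
      rintro u (rfl | rfl) v (rfl | rfl)
      · rfl
      · exact hab
      · exact hab.symm
      · rfl
    have hmem : ∀ u : G, π u ∈ closure ({π a, π b} : Set (G ⧸ zpowers c)) := fun u => by
      rw [← Set.image_pair π, ← MonoidHom.map_closure]
      exact mem_map_of_mem π (hgen ▸ mem_top u)
    rw [← QuotientGroup.eq_one_iff, ← QuotientGroup.mk'_apply, ← hπ, map_commutatorElement,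
      commutatorElement_eq_one_iff_mul_comm]
    exact congrArg Subtype.val ((IsMulCommutative.is_comm
      (M := closure ({π a, π b} : Set (G ⧸ zpowers c)))).comm ⟨_, hmem g⟩ ⟨_, hmem h⟩)
  have hsq : ∀ g : G, g * g ∈ center G := fun g => mem_center_iff.mpr fun h => by
    have e1 : g * h * g⁻¹ = ⁅g, h⁆ * h := by rw [commutatorElement_def]; group
    have e2 : g * g * h * (g * g)⁻¹ = h := by
      calc g * g * h * (g * g)⁻¹ = g * (g * h * g⁻¹) * g⁻¹ := by group
        _ = g * (⁅g, h⁆ * h) * g⁻¹ := by rw [e1]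
        _ = (g * ⁅g, h⁆) * h * g⁻¹ := by group
        _ = (⁅g, h⁆ * g) * h * g⁻¹ := by rw [mem_center_iff.mp (hZ g h) g]
        _ = ⁅g, h⁆ * (g * h * g⁻¹) := by group
        _ = h := by rw [e1, ← mul_assoc, hE, one_mul]
    exact (mul_inv_eq_iff_eq_mul.mp e2).symm
  -- once `c` is a power of a generator we are done
  have hdone : ∀ y w : G, closure ({y, w} : Set G) = ⊤ → c ∈ zpowers y → Cfsg.IsMetacyclic G := by
    intro y w hyw hcy
    refine finish hyw ?_
    have : w * y * w⁻¹ = ⁅w, y⁆ * y := by rw [commutatorElement_def]; group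
    rw [this]
    exact mul_mem (zpowers_le.mpr hcy (hcomm w y)) (mem_zpowers y)
  -- commutators of powers
  have hcpow : ∀ i : ℕ, a ^ i * b * (a ^ i)⁻¹ = c ^ i * b := by
    intro i
    induction i with
    | zero => simp
    | succ i ih =>
      have h1 : a * b * a⁻¹ = c * b := by rw [hc, commutatorElement_def]; group
      calc a ^ (i + 1) * b * (a ^ (i + 1))⁻¹ = a * (a ^ i * b * (a ^ i)⁻¹) * a⁻¹ := by rw [pow_succ']; group
        _ = (a * c ^ i) * b * a⁻¹ := by rw [ih]; group
        _ = c ^ i * (a * b * a⁻¹) := by rw [((show Commute a c from hcc a).pow_right i).eq]; group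
        _ = _ := by rw [h1, ← mul_assoc, ← pow_succ]
  have hinvol : ∀ y : G, closure ({y, b} : Set G) = ⊤ → y * y = 1 → Cfsg.IsMetacyclic G := by
    intro y hyw hy
    by_cases hyb : y * b * y⁻¹ * b⁻¹ = 1
    · exfalso
      apply hc1
      rw [← commutatorElement_def, commutatorElement_eq_one_iff_mul_comm] at hyb
      have hall : ∀ u v : G, u * v = v * u := by
        haveI : IsMulCommutative (closure ({y, b} : Set G)) := by
          refine isMulCommutative_closure ?_
          rintro u (rfl | rfl) v (rfl | rfl)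
          · rfl
          · exact hyb
          · exact hyb.symm
          · rfl
        exact fun u v => congrArg Subtype.val ((IsMulCommutative.is_comm (M := closure ({y, b} : Set G))).comm
          ⟨u, hyw ▸ mem_top u⟩ ⟨v, hyw ▸ mem_top v⟩)
      exact commutatorElement_eq_one_iff_mul_comm.mpr (hall a b)
    have hmem := hcomm y b
    obtain ⟨i, hi⟩ := mem_zpowers_iff.mp hmem
    have hci : c ^ i = c := by
      rcases Int.even_or_odd i with ⟨j, rfl⟩ | ⟨j, rfl⟩
      · exfalso
        apply hyb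
        rw [← commutatorElement_def, ← hi, ← two_mul, zpow_mul, zpow_two, hc2, one_zpow]
      · rw [zpow_add, zpow_mul, zpow_two, hc2, one_zpow, one_mul, zpow_one]
    exact involution_case h2 hr hyw hy hcZ hc2 hc1
      (by rw [← commutatorElement_def, ← hi, hci]) hsq hcomm
  have hbZ : b ∉ center G := fun h => hc1 (by
    rw [hc, commutatorElement_eq_one_iff_mul_comm]; exact mem_center_iff.mp h a)
  -- the abelian subgroup `⟨a², b, c⟩`
  set gens : Set G := {a * a, b, c} with hgens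
  haveI : IsMulCommutative (closure gens) := by
    refine isMulCommutative_closure ?_
    intro u hu v hv
    simp only [hgens, Set.mem_insert_iff, Set.mem_singleton_iff] at hu hv
    rcases hu with rfl | rfl | rfl
    · exact (mem_center_iff.mp (hsq a) v).symm
    · rcases hv with rfl | rfl | rfl
      · exact mem_center_iff.mp (hsq a) _
      · rfl
      · exact hcc _
    · exact (mem_center_iff.mp hcZ v).symm
  set B := closure gens with hB
  have hBcomm : ∀ u v : B, u * v = v * u := fun u v => (IsMulCommutative.is_comm (M := B)).comm u v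
  set M := zpowers ((a * a) * (a * a)) ⊔ zpowers (b * b) with hM
  haveI hMn : (M.subgroupOf B).Normal := ⟨fun u hu g => by rw [hBcomm g u, mul_inv_cancel_right]; exact hu⟩
  set Q := B ⧸ M.subgroupOf B with hQ
  have hQc : ∀ u v : Q, u * v = v * u := fun u v => by
    obtain ⟨u, rfl⟩ := QuotientGroup.mk_surjective u
    obtain ⟨v, rfl⟩ := QuotientGroup.mk_surjective v
    rw [← QuotientGroup.mk_mul, ← QuotientGroup.mk_mul, hBcomm]
  have hQ2 : ∀ u : Q, u ^ 2 = 1 := by
    intro u
    obtain ⟨⟨u, hu⟩, rfl⟩ := QuotientGroup.mk_surjective u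
    rw [← QuotientGroup.mk_pow, QuotientGroup.eq_one_iff, mem_subgroupOf, Subgroup.coe_pow, sq]
    clear_value M
    induction hu using closure_induction with
    | mem v hv =>
      simp only [hgens, Set.mem_insert_iff, Set.mem_singleton_iff] at hv
      rcases hv with rfl | rfl | rfl
      · exact hM ▸ mem_sup_left (mem_zpowers _)
      · exact hM ▸ mem_sup_right (mem_zpowers _)
      · rw [hc2]; exact one_mem _
    | one => rw [mul_one]; exact one_mem _
    | mul v v' hv hv' ih ih' =>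
      have hcm : Commute v v' := congrArg Subtype.val (hBcomm ⟨v, hv⟩ ⟨v', hv'⟩)
      rw [← sq, hcm.mul_pow, sq, sq]; exact mul_mem ih ih'
    | inv v hv ih => rw [← mul_inv_rev]; exact inv_mem ih
  have hQ4 : Nat.card Q ≤ 4 := section_le hr B _ hQc hQ2
  -- a relation
  set s : Q := QuotientGroup.mk ⟨a * a, subset_closure (by simp [hgens])⟩ with hs
  set t : Q := QuotientGroup.mk ⟨b, subset_closure (by simp [hgens])⟩ with ht
  set r : Q := QuotientGroup.mk ⟨c, subset_closure (by simp [hgens])⟩ with hr'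
  have hMform : ∀ g ∈ M, ∃ i j : ℕ, g = ((a * a) * (a * a)) ^ i * (b * b) ^ j := by
    intro g hg
    have hmem : g ∈ ((zpowers ((a * a) * (a * a)) ⊔ zpowers (b * b) : Subgroup G) : Set G) := hg
    haveI : (zpowers ((a * a) * (a * a))).Normal := ⟨fun u hu w => by
      obtain ⟨i, rfl⟩ := mem_zpowers_iff.mp hu
      rw [mem_center_iff.mp (zpow_mem (mul_mem (hsq a) (hsq a)) i) w, mul_inv_cancel_right]
      exact hu⟩
    rw [Subgroup.normal_mul] at hmem
    obtain ⟨u, hu, v, hv, rfl⟩ := hmem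
    obtain ⟨i, rfl⟩ := mem_powers_iff_mem_zpowers.mpr hu
    obtain ⟨j, rfl⟩ := mem_powers_iff_mem_zpowers.mpr hv
    exact ⟨i, j, rfl⟩
  obtain ⟨e₁, e₂, e₃, hrel, hne⟩ : ∃ e₁ e₂ e₃ : Fin 2,
      s ^ (e₁ : ℕ) * t ^ (e₂ : ℕ) * r ^ (e₃ : ℕ) = 1 ∧ (e₁, e₂, e₃) ≠ (0, 0, 0) := by
    let φ : Fin 2 × Fin 2 × Fin 2 → Q := fun e => s ^ (e.1 : ℕ) * t ^ (e.2.1 : ℕ) * r ^ (e.2.2 : ℕ)
    have hnot : ¬ Function.Injective φ := fun hi => by
      have := Nat.card_le_card_of_injective φ hi
      simp at this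
      omega
    obtain ⟨e, e', he, hne⟩ := Function.not_injective_iff.mp hnot
    obtain ⟨e₁, e₂, e₃⟩ := e
    obtain ⟨f₁, f₂, f₃⟩ := e'
    letI : CommGroup Q := { (inferInstance : Group Q) with mul_comm := hQc }
    have hinv : ∀ u : Q, u⁻¹ = u := fun u => inv_eq_of_mul_eq_one_left (by rw [← sq, hQ2])
    have hadd : ∀ (u : Q) (i j : Fin 2), u ^ ((i + j : Fin 2) : ℕ) = u ^ (i : ℕ) * u ^ (j : ℕ) := by
      intro u i j
      fin_cases i <;> fin_cases j <;> simp [← sq, hQ2]
    refine ⟨e₁ + f₁, e₂ + f₂, e₃ + f₃, ?_, ?_⟩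
    · rw [hadd, hadd, hadd]
      simp only [φ] at he
      calc s ^ (e₁ : ℕ) * s ^ (f₁ : ℕ) * (t ^ (e₂ : ℕ) * t ^ (f₂ : ℕ)) * (r ^ (e₃ : ℕ) * r ^ (f₃ : ℕ))
          = (s ^ (e₁ : ℕ) * t ^ (e₂ : ℕ) * r ^ (e₃ : ℕ)) * (s ^ (f₁ : ℕ) * t ^ (f₂ : ℕ) * r ^ (f₃ : ℕ)) := by
            rw [mul_mul_mul_comm (s ^ (e₁ : ℕ)) (s ^ (f₁ : ℕ)), mul_mul_mul_comm]
        _ = 1 := by rw [he, ← sq, hQ2]
    · intro h
      apply hne
      simp only [Prod.mk.injEq] at h ⊢
      have key : ∀ i j : Fin 2, i + j = 0 → i = j := by decide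
      exact ⟨key _ _ h.1, key _ _ h.2.1, key _ _ h.2.2⟩
  -- read the relation in `G`
  have hrelG : (a * a) ^ (e₁ : ℕ) * b ^ (e₂ : ℕ) * c ^ (e₃ : ℕ) ∈ M := by
    rw [hs, ht, hr', ← QuotientGroup.mk_pow, ← QuotientGroup.mk_pow, ← QuotientGroup.mk_pow,
      ← QuotientGroup.mk_mul, ← QuotientGroup.mk_mul, QuotientGroup.eq_one_iff, mem_subgroupOf] at hrel
    simpa using hrel
  obtain ⟨i, j, hij⟩ := hMform _ hrelG
  have hijZ : ((a * a) * (a * a)) ^ i * (b * b) ^ j ∈ center G :=
    mul_mem (pow_mem (mul_mem (hsq a) (hsq a)) i) (pow_mem (hsq b) j)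
  have he₂ : e₂ = 0 := by
    by_contra he
    have he1 : e₂ = 1 := Fin.eq_one_of_ne_zero _ he
    apply hbZ
    have hA := pow_mem (hsq a) (e₁ : ℕ)
    have hC := pow_mem hcZ (e₃ : ℕ)
    rw [← hij, he1] at hijZ
    have h1 : b = ((a * a) ^ (e₁ : ℕ))⁻¹ * ((a * a) ^ (e₁ : ℕ) * b ^ ((1 : Fin 2) : ℕ) * c ^ (e₃ : ℕ)) * (c ^ (e₃ : ℕ))⁻¹ := by
      simp
      group
    rw [h1]
    exact mul_mem (mul_mem (inv_mem hA) hijZ) (inv_mem hC)
  rw [he₂] at hij hne
  simp only [Fin.val_zero, pow_zero, mul_one] at hij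
  -- descend
  have hpowform : ∀ i j : ℕ, (a ^ i * b ^ j) * (a ^ i * b ^ j) = (a * a) ^ i * (b * b) ^ j * c ^ (i * j) := by
    intro i j
    have h1 : a ^ i * b ^ j = c ^ (i * j) * (b ^ j * a ^ i) := by
      have h2 : (a ^ i * b * (a ^ i)⁻¹) ^ j = (c ^ i * b) ^ j := by rw [hcpow]
      rw [conj_pow, ((show Commute b c from hcc b).pow_right i).symm.mul_pow, ← pow_mul] at h2
      rw [mul_inv_eq_iff_eq_mul] at h2
      rw [h2, mul_assoc]
    calc (a ^ i * b ^ j) * (a ^ i * b ^ j) = (a ^ i * b ^ j) * a ^ i * b ^ j := by group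
      _ = a ^ i * (b ^ j * a ^ i) * b ^ j := by group
      _ = a ^ i * ((c ^ (i * j))⁻¹ * (a ^ i * b ^ j)) * b ^ j := by rw [h1, inv_mul_cancel_left]
      _ = (c ^ (i * j))⁻¹ * (a ^ i * a ^ i * (b ^ j * b ^ j)) := by
          rw [← mul_assoc (a ^ i) (c ^ (i * j))⁻¹,
            ((show Commute (a ^ i) c from hcc (a ^ i)).pow_right (i * j)).inv_right.eq]
          group
      _ = (a * a) ^ i * (b * b) ^ j * c ^ (i * j) := by
          rw [inv_eq_of_mul_eq_one_left (show c ^ (i * j) * c ^ (i * j) = 1 by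
              rw [← (Commute.refl c).mul_pow, hc2, one_pow]),
            ← (Commute.refl a).mul_pow, ← (Commute.refl b).mul_pow]
          exact (((show Commute ((a * a) ^ i * (b * b) ^ j) c from hcc _).pow_right (i * j)).eq).symm
  have hcsq : ∀ i j : ℕ, c = (a * a) ^ i * (b * b) ^ j → Cfsg.IsMetacyclic G := by
    intro i j hcij
    have hg0 : Nat.gcd i j ≠ 0 := fun h => by
      obtain ⟨rfl, rfl⟩ := Nat.gcd_eq_zero_iff.mp h
      simp at hcij
      exact hc1 hcij
    obtain ⟨s, m, hm, hg⟩ := Nat.exists_eq_pow_mul_and_not_dvd hg0 2 (by norm_num)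
    obtain ⟨i₀, hi₀⟩ := Nat.gcd_dvd_left i j
    obtain ⟨j₀, hj₀⟩ := Nat.gcd_dvd_right i j
    have hodd : ¬ 2 ∣ m * i₀ ∨ ¬ 2 ∣ m * j₀ := by
      by_contra hh
      push Not at hh
      have h1 := (Nat.Prime.dvd_mul Nat.prime_two).mp hh.1
      have h2 := (Nat.Prime.dvd_mul Nat.prime_two).mp hh.2
      have h3 : 2 * Nat.gcd i j ∣ Nat.gcd i j := Nat.dvd_gcd
        (by conv_rhs => rw [hi₀]
            rw [mul_comm]; exact mul_dvd_mul_left _ (h1.resolve_left hm))
        (by conv_rhs => rw [hj₀]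
            rw [mul_comm]; exact mul_dvd_mul_left _ (h2.resolve_left hm))
      have := Nat.le_of_dvd (Nat.pos_of_ne_zero hg0) h3
      omega
    set i' := m * i₀ with hi'
    set j' := m * j₀ with hj'
    set y := a ^ i' * b ^ j' with hy
    have hyy : c = ((a * a) ^ i' * (b * b) ^ j') ^ 2 ^ s := by
      rw [(show Commute ((a * a) ^ i') ((b * b) ^ j') from
          mem_center_iff.mp (pow_mem (hsq b) j') _).mul_pow, ← pow_mul, ← pow_mul, hcij]
      congr 2
      · rw [hi', mul_assoc, mul_comm i₀, ← mul_assoc, mul_comm m, ← hg, ← hi₀]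
      · rw [hj', mul_assoc, mul_comm j₀, ← mul_assoc, mul_comm m, ← hg, ← hj₀]
    have hgeni : ∀ k : ℕ, ¬ 2 ∣ k → ∀ u : G, u ∈ zpowers (u ^ k) := fun k hk u => by
      obtain ⟨e, he⟩ := h2 u
      obtain ⟨m', hm'⟩ := exists_pow_eq_self_of_coprime (x := u) (n := k)
        ((((Nat.Prime.coprime_iff_not_dvd Nat.prime_two).mpr hk).symm.pow_right e).coprime_dvd_right
          (orderOf_dvd_of_pow_eq_one he))
      have h := pow_mem (mem_zpowers (u ^ k)) m'
      rwa [hm'] at h
    obtain ⟨w, hwgen, hwb⟩ : ∃ w, closure ({y, w} : Set G) = ⊤ ∧ (¬ 2 ∣ i' → w = b) := by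
      by_cases hi : 2 ∣ i'
      · refine ⟨a, ?_, fun h => absurd hi h⟩
        rw [eq_top_iff, ← hgen, closure_le]
        rintro v (rfl | rfl)
        · exact subset_closure (by simp)
        · have hj : ¬ 2 ∣ j' := hodd.resolve_left (fun h => h hi)
          refine zpowers_le.mpr ?_ (hgeni j' hj v)
          have := mul_mem (inv_mem (pow_mem (subset_closure (by simp : a ∈ ({y, a} : Set G))) i'))
            (subset_closure (by simp : y ∈ ({y, a} : Set G)))
          rwa [hy, inv_mul_cancel_left] at this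
      · refine ⟨b, ?_, fun _ => rfl⟩
        rw [eq_top_iff, ← hgen, closure_le]
        rintro v (rfl | rfl)
        · refine zpowers_le.mpr ?_ (hgeni i' hi v)
          have := mul_mem (subset_closure (by simp : y ∈ ({y, b} : Set G)))
            (inv_mem (pow_mem (subset_closure (by simp : b ∈ ({y, b} : Set G))) j'))
          rwa [hy, mul_inv_cancel_right] at this
        · exact subset_closure (by simp)
    have hy2 := hpowform i' j'
    rw [← hy] at hy2
    rcases Nat.even_or_odd (i' * j') with he | ho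
    · refine hdone y w hwgen (mem_zpowers_iff.mpr ⟨((2 * 2 ^ s : ℕ) : ℤ), ?_⟩)
      obtain ⟨k, hk⟩ := he
      rw [zpow_natCast, pow_mul, sq, hy2, hk, pow_add, ← (Commute.refl c).mul_pow, hc2, one_pow,
        mul_one, ← hyy]
    · rcases Nat.eq_zero_or_pos s with hs0 | hs0
      · rw [hs0, pow_zero, pow_one] at hyy
        have hyinv : y * y = 1 := by
          obtain ⟨k, hk⟩ := ho
          rw [hy2, ← hyy, hk, pow_succ, pow_mul, sq, hc2, one_pow, one_mul, hc2]
        have hi_odd : ¬ 2 ∣ i' := fun hd => (Nat.not_even_iff_odd.mpr ho)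
          (even_iff_two_dvd.mpr (hd.mul_right j'))
        exact hinvol y (hwb hi_odd ▸ hwgen) hyinv
      · refine hdone y w hwgen (mem_zpowers_iff.mpr ⟨((2 * 2 ^ s : ℕ) : ℤ), ?_⟩)
        rw [zpow_natCast, pow_mul, sq, hy2,
          ((show Commute ((a * a) ^ i' * (b * b) ^ j') c from hcc _).pow_right _).mul_pow, ← hyy]
        obtain ⟨k, hk⟩ : 2 ∣ 2 ^ s := dvd_pow_self 2 hs0.ne'
        rw [← pow_mul, hk, mul_left_comm, pow_mul, sq, hc2, one_pow, mul_one]
  by_cases he₃ : e₃ = 1
  · rw [he₃] at hij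
    simp only [Fin.val_one, pow_one] at hij
    -- the inverse of `(a a) ^ e₁` as a natural power
    have hkey : c = (a * a) ^ ((e₁ : ℕ) * (orderOf (a * a) - 1) + 2 * i) * (b * b) ^ j := by
      have h0 : (a * a) ^ ((e₁ : ℕ) * (orderOf (a * a) - 1)) * (a * a) ^ (e₁ : ℕ) = 1 := by
        rw [← pow_add, ← Nat.mul_succ, Nat.succ_eq_add_one, Nat.sub_add_cancel (orderOf_pos _),
          mul_comm, pow_mul, pow_orderOf_eq_one, one_pow]
      calc c = ((a * a) ^ ((e₁ : ℕ) * (orderOf (a * a) - 1)) * (a * a) ^ (e₁ : ℕ)) * c := by rw [h0, one_mul]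
        _ = (a * a) ^ ((e₁ : ℕ) * (orderOf (a * a) - 1)) * ((a * a) ^ (e₁ : ℕ) * c) := by group
        _ = _ := by rw [hij, ← sq (a * a), ← pow_mul, pow_add, mul_assoc]
    exact hcsq _ j hkey
  have he30 : e₃ = 0 := (by decide : ∀ u : Fin 2, u ≠ 1 → u = 0) _ he₃
  have he11 : e₁ = 1 := by
    have : e₁ ≠ 0 := fun h => hne (by rw [h, he30])
    exact Fin.eq_one_of_ne_zero _ this
  rw [he30, he11] at hij
  simp only [Fin.val_zero, Fin.val_one, pow_zero, pow_one, mul_one] at hij
  -- `a²` is a power of `b²`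
  obtain ⟨sn, hsab⟩ : ∃ sn : ℕ, a * a = (b * b) ^ sn := by
    obtain ⟨e, he⟩ := h2 (a * a)
    have h1 : (b * b) ^ j = ((a * a) * (a * a)) ^ i * (b * b) ^ j * (((a * a) * (a * a)) ^ i)⁻¹ := by
      rw [mem_center_iff.mp (pow_mem (hsq b) j) (((a * a) * (a * a)) ^ i), mul_inv_cancel_right]
    rw [← hij] at h1
    -- `(a a) ^ (1 - 2 i)` is a power of `b b`
    have hz : (a * a) ^ ((1 : ℤ) - 2 * i) = (b * b) ^ (j : ℤ) := by
      rw [zpow_natCast, h1, zpow_sub, zpow_one, zpow_mul, zpow_natCast, zpow_two]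
    have hmem : a * a ∈ zpowers (b * b) := by
      have hco : IsCoprime ((1 : ℤ) - 2 * i) ((2 : ℤ) ^ e) :=
        IsCoprime.pow_right ⟨1, (i : ℤ), by ring⟩
      obtain ⟨u, v, huv⟩ := hco
      have : a * a = ((a * a) ^ ((1 : ℤ) - 2 * i)) ^ u := by
        rw [← zpow_mul]
        conv_lhs => rw [← zpow_one (a * a), ← huv]
        rw [zpow_add, show ((2 : ℤ) ^ e) = ((2 ^ e : ℕ) : ℤ) by push_cast; ring, mul_comm v,
          zpow_mul _ _ v, zpow_natCast, he, one_zpow, mul_one, mul_comm]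
      rw [this, hz]
      exact zpow_mem (zpow_mem (mem_zpowers _) _) _
    obtain ⟨sn, hs⟩ := mem_powers_iff_mem_zpowers.mpr hmem
    exact ⟨sn, hs.symm⟩
  set a' := a * (b ^ sn)⁻¹ with ha'
  have hgen' : closure ({a', b} : Set G) = ⊤ := by
    rw [eq_top_iff, ← hgen, closure_le]
    rintro v (rfl | rfl)
    · have := mul_mem (subset_closure (by simp : a' ∈ ({a', b} : Set G)))
        (pow_mem (subset_closure (by simp : b ∈ ({a', b} : Set G))) sn)
      rwa [ha', inv_mul_cancel_right] at this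
    · exact subset_closure (by simp)
  have ha'2 : a' * a' ∈ zpowers c := by
    have h1 : a' * a' = a * a * (⁅a⁻¹, (b ^ sn)⁻¹⁆ * ((b ^ sn)⁻¹ * (b ^ sn)⁻¹)) := by
      rw [ha', commutatorElement_def]; group
    rw [h1, hsab, ← mul_inv_rev, ← (Commute.refl b).mul_pow,
      ← mem_center_iff.mp (hZ a⁻¹ (b ^ sn)⁻¹) (((b * b) ^ sn)⁻¹), ← mul_assoc, mul_inv_cancel, one_mul]
    exact hcomm _ _
  by_cases hone : a' * a' = 1
  · exact hinvol a' hgen' hone
  · refine hdone a' b hgen' ?_
    obtain ⟨k, hk⟩ := mem_zpowers_iff.mp ha'2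
    rcases Int.even_or_odd k with ⟨l, rfl⟩ | ⟨l, rfl⟩
    · exact absurd (hk.symm.trans (by rw [← two_mul, zpow_mul, zpow_two, hc2, one_zpow])) hone
    · rw [zpow_add, zpow_mul, zpow_two, hc2, one_zpow, one_mul, zpow_one] at hk
      exact hk ▸ mul_mem (mem_zpowers a') (mem_zpowers a')

omit h2 hr

/-- The theorem. -/
theorem isMetacyclic : ∀ (n : ℕ) (G : Type u) [Group G] [Finite G], Nat.card G = n → IsPGroup 2 G →
    Cfsg.SectionalPRankLE 2 2 G → Cfsg.IsMetacyclic G := by
  intro n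
  induction n using Nat.strong_induction_on with
  | _ n ih =>
  intro G _ _ hn h2 hr
  classical
  haveI : Fact (Nat.Prime 2) := ⟨Nat.prime_two⟩
  by_cases hbase : ∀ g ∈ commutator G, g * g = 1 ∧ g ∈ center G
  · have hmem : ∀ g h : G, ⁅g, h⁆ ∈ commutator G := fun g h =>
      commutator_def G ▸ commutator_mem_commutator (mem_top g) (mem_top h)
    exact base_case h2 hr (fun g h => (hbase _ (hmem g h)).2) fun g h => (hbase _ (hmem g h)).1
  -- a central involution in `Φ(G')[G', G]`
  set S : Set G := {u | ∃ g ∈ commutator G, u = g * g} ∪ {u | ∃ g ∈ commutator G, ∃ w : G, u = ⁅g, w⁆}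
    with hS
  set K := normalClosure S with hK
  have hKne : K ≠ ⊥ := by
    intro h
    refine hbase fun g hg => ⟨?_, mem_center_iff.mpr fun w => ?_⟩
    · exact mem_bot.mp (h ▸ subset_normalClosure (Or.inl ⟨g, hg, rfl⟩))
    · exact (commutatorElement_eq_one_iff_mul_comm.mp
        (mem_bot.mp (h ▸ subset_normalClosure (Or.inr ⟨g, hg, w, rfl⟩)))).symm
  haveI : K.Normal := normalClosure_normal
  obtain ⟨z, hzK, hzZ, hz1, hz2⟩ := exists_central_involution h2 hKne
  set Z := zpowers z with hZ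
  haveI hZn : Z.Normal := ⟨fun u hu g => by
    rw [mem_center_iff.mp (zpowers_le.mpr hzZ hu) g, mul_inv_cancel_right]; exact hu⟩
  have hlt : Nat.card (G ⧸ Z) < n := by
    rw [← hn, ← Subgroup.index_eq_card, ← Z.card_mul_index]
    refine lt_mul_of_one_lt_left (Nat.pos_of_ne_zero index_ne_zero_of_finite) ?_
    rw [hZ, Nat.card_zpowers]
    exact lt_of_le_of_ne (orderOf_pos z) fun h => hz1 (orderOf_eq_one_iff.mp h.symm)
  obtain ⟨N, hNn, hNc, hQc⟩ := ih _ hlt (G ⧸ Z) rfl (h2.to_quotient Z) (sectional_quotient hr Z)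
  set π := QuotientGroup.mk' Z with hπ
  obtain ⟨ā, hā⟩ := hNc.exists_generator
  obtain ⟨a, ha⟩ := QuotientGroup.mk'_surjective Z (ā : G ⧸ Z)
  have hNform : ∀ g : G, π g ∈ N → ∃ (i e : ℤ), g = a ^ i * z ^ e := by
    intro g hg
    obtain ⟨i, hi⟩ := mem_zpowers_iff.mp (hā ⟨π g, hg⟩)
    have h1 : (a ^ i)⁻¹ * g ∈ Z := QuotientGroup.eq.mp (by
      show π (a ^ i) = π g
      rw [map_zpow, hπ, ha, ← Subgroup.coe_zpow, hi])
    obtain ⟨e, he⟩ := mem_zpowers_iff.mp h1
    exact ⟨i, e, by rw [he]; group⟩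
  have haN : π a ∈ N := by rw [hπ, ha]; exact ā.2
  have hzc : ∀ u, u * z = z * u := mem_center_iff.mp hzZ
  have hz2' : ∀ e : ℤ, z ^ e * z ^ e = 1 := fun e => by
    rw [← (Commute.refl z).mul_zpow, hz2, one_zpow]
  set A := zpowers (a * a) with hA
  have hconjA : ∀ g : G, g * (a * a) * g⁻¹ ∈ A := by
    intro g
    obtain ⟨i, e, hie⟩ := hNform (g * a * g⁻¹) (by
      rw [map_mul, map_mul, map_inv]; exact hNn.conj_mem _ haN _)
    have : g * (a * a) * g⁻¹ = (a * a) ^ i := by
      calc g * (a * a) * g⁻¹ = (g * a * g⁻¹) * (g * a * g⁻¹) := by group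
        _ = (a ^ i * z ^ e) * (a ^ i * z ^ e) := by rw [hie]
        _ = (a ^ i * a ^ i) * (z ^ e * z ^ e) := by
            rw [mul_assoc (a ^ i) (z ^ e), ← mul_assoc (z ^ e) (a ^ i),
              ← ((show Commute (a ^ i) z from hzc _).zpow_right e).eq]
            group
        _ = _ := by rw [hz2' e, mul_one, ← (Commute.refl a).mul_zpow]
    rw [this]
    exact zpow_mem (mem_zpowers _) i
  haveI hAn : A.Normal := ⟨fun u hu g => by
    obtain ⟨i, rfl⟩ := mem_zpowers_iff.mp hu
    rw [← conj_zpow]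
    exact zpow_mem (hconjA g) i⟩
  set M := A ⊔ Z with hM
  haveI : M.Normal := inferInstance
  -- `G / M` is commutative
  set ρ := QuotientGroup.mk' M with hρ
  have hac : ∀ g : G, Commute (ρ g) (ρ a) := by
    intro g
    obtain ⟨i, e, hie⟩ := hNform (g * a * g⁻¹) (by
      rw [map_mul, map_mul, map_inv]; exact hNn.conj_mem _ haN _)
    have hρz : ρ z = 1 := (QuotientGroup.eq_one_iff z).mpr (mem_sup_right (mem_zpowers z))
    have hρa : ρ a * ρ a = 1 := by
      rw [← map_mul]; exact (QuotientGroup.eq_one_iff _).mpr (mem_sup_left (mem_zpowers _))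
    have h1 : ρ g * ρ a * (ρ g)⁻¹ = ρ a ^ i := by
      rw [← map_inv, ← map_mul, ← map_mul, hie, map_mul, map_zpow, map_zpow, hρz, one_zpow, mul_one]
    rcases Int.even_or_odd i with ⟨k, rfl⟩ | ⟨k, rfl⟩
    · rw [← two_mul, zpow_mul, zpow_two, hρa, one_zpow, conj_eq_one_iff] at h1
      rw [h1]; exact Commute.one_right _
    · rw [zpow_add, zpow_mul, zpow_two, hρa, one_zpow, one_mul, zpow_one] at h1
      exact mul_inv_eq_iff_eq_mul.mp h1
  have hcomm : ∀ g h : G, ⁅g, h⁆ ∈ M := by
    obtain ⟨q, hq⟩ := hQc.exists_generator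
    obtain ⟨qb, hqb⟩ := QuotientGroup.mk'_surjective N q
    obtain ⟨b, hb⟩ := QuotientGroup.mk'_surjective Z qb
    have hform : ∀ g : G, ∃ i k : ℤ, ρ g = ρ b ^ k * ρ a ^ i := by
      intro g
      obtain ⟨k, hk⟩ := mem_zpowers_iff.mp (hq (QuotientGroup.mk' N (π g)))
      have h1 : π ((b ^ k)⁻¹ * g) ∈ N := by
        rw [map_mul, map_inv, map_zpow, hπ, hb, ← QuotientGroup.eq_one_iff,
          ← QuotientGroup.mk'_apply, map_mul, map_inv, map_zpow, hqb, hk, inv_mul_cancel]
      obtain ⟨i, e, hie⟩ := hNform _ h1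
      refine ⟨i, k, ?_⟩
      have hρz : ρ z = 1 := (QuotientGroup.eq_one_iff z).mpr (mem_sup_right (mem_zpowers z))
      have h2 : g = b ^ k * (a ^ i * z ^ e) := by rw [← hie]; group
      rw [h2, map_mul, map_mul, map_zpow, map_zpow, map_zpow, hρz, one_zpow, mul_one]
    intro g h
    obtain ⟨i, k, hg⟩ := hform g
    obtain ⟨i', k', hh⟩ := hform h
    rw [← QuotientGroup.eq_one_iff, ← QuotientGroup.mk'_apply, ← hρ, map_commutatorElement,
      commutatorElement_eq_one_iff_mul_comm, hg, hh]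
    have hbb : Commute (ρ b ^ k) (ρ b ^ k') := (Commute.refl _).zpow_zpow k k'
    have hba : ∀ u v : ℤ, Commute (ρ b ^ u) (ρ a ^ v) := fun u v => (hac b).zpow_zpow u v
    have haa : Commute (ρ a ^ i) (ρ a ^ i') := (Commute.refl _).zpow_zpow i i'
    exact ((hbb.mul_right (hba k i')).mul_left ((hba k' i).symm.mul_right haa)).eq
  have hMle : commutator G ≤ M := by
    rw [commutator_def]; exact commutator_le.mpr fun g _ h _ => hcomm g h
  have hMform : ∀ u ∈ M, ∃ i e : ℤ, u = (a * a) ^ i * z ^ e := by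
    intro u hu
    have hu' : u ∈ ((A ⊔ Z : Subgroup G) : Set G) := hu
    rw [Subgroup.normal_mul] at hu'
    obtain ⟨v, hv, w, hw, rfl⟩ := hu'
    obtain ⟨i, rfl⟩ := mem_zpowers_iff.mp hv
    obtain ⟨e, rfl⟩ := mem_zpowers_iff.mp hw
    exact ⟨i, e, rfl⟩
  have hKA : K ≤ A := by
    refine normalClosure_le_normal ?_
    rintro u (⟨g, hg, rfl⟩ | ⟨g, hg, w, rfl⟩)
    · obtain ⟨i, e, rfl⟩ := hMform g (hMle hg)
      have : (a * a) ^ i * z ^ e * ((a * a) ^ i * z ^ e) = (a * a) ^ i * (a * a) ^ i := by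
        rw [mul_assoc _ (z ^ e), ← mul_assoc (z ^ e),
          ← ((show Commute ((a * a) ^ i) z from hzc _).zpow_right e).eq, mul_assoc _ (z ^ e) (z ^ e),
          hz2' e, mul_one]
      rw [this]
      exact mul_mem (zpow_mem (mem_zpowers _) i) (zpow_mem (mem_zpowers _) i)
    · obtain ⟨i, e, rfl⟩ := hMform g (hMle hg)
      have hcz : Commute w (z ^ e) := (show Commute w z from hzc w).zpow_right e
      have : ⁅(a * a) ^ i * z ^ e, w⁆ = (a * a) ^ i * (w * ((a * a) ^ i)⁻¹ * w⁻¹) := by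
        rw [commutatorElement_def]
        calc (a * a) ^ i * z ^ e * w * ((a * a) ^ i * z ^ e)⁻¹ * w⁻¹
            = (a * a) ^ i * (z ^ e * w) * (z ^ e)⁻¹ * ((a * a) ^ i)⁻¹ * w⁻¹ := by group
          _ = (a * a) ^ i * (w * z ^ e) * (z ^ e)⁻¹ * ((a * a) ^ i)⁻¹ * w⁻¹ := by rw [hcz.eq]
          _ = _ := by group
      rw [this]
      exact A.mul_mem (zpow_mem (mem_zpowers _) i) (hAn.conj_mem _ (inv_mem (zpow_mem (mem_zpowers _) i)) w)
  have hza : z ∈ zpowers a :=
    (zpowers_le.mpr (mul_mem (mem_zpowers a) (mem_zpowers a))) (hKA hzK)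
  have hcomap : N.comap π = zpowers a := by
    refine le_antisymm (fun g hg => ?_) (zpowers_le.mpr haN)
    obtain ⟨i, e, rfl⟩ := hNform g hg
    exact mul_mem (zpow_mem (mem_zpowers a) i) (zpow_mem hza e)
  refine ⟨N.comap π, hNn.comap π, ?_, ?_⟩
  · rw [hcomap]; infer_instance
  · haveI := hQc
    let f : G →* (G ⧸ Z) ⧸ N := (QuotientGroup.mk' N).comp π
    have hf : Function.Surjective f :=
      (QuotientGroup.mk'_surjective N).comp (QuotientGroup.mk'_surjective Z)
    have hker : N.comap π = f.ker := by rw [← MonoidHom.comap_ker, QuotientGroup.ker_mk']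
    exact ((QuotientGroup.quotientMulEquivOfEq hker).trans
      (QuotientGroup.quotientKerEquivOfSurjective f hf)).isCyclic.mpr hQc

end Cfsg.Lib.Fusion.RankTwo
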