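import Mathlib.GroupTheory.Nilpotent
import Mathlib.GroupTheory.Index
import Mathlib.GroupTheory.Commutator.Basic

/-!
Elements of smallest non-central class size generate a subgroup of class at most three when a self-centralizing
abelian normal subgroup exists (Isaacs).
-/

set_option autoImplicit false
set_option linter.style.haveILetI false

namespace Cfsg.Lib.SmallClassSubgroup

open Subgroup
open scoped commutatorElement

variable {G : Type*} [Group G] [Finite G]

theorem commutatorElement_mem_center {A : Subgroup G} [A.Normal] [IsMulCommutative A] {x : G}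
    (hmin : ∀ y : G, 1 < (centralizer ({y} : Set G)).index →
      (centralizer ({x} : Set G)).index ≤ (centralizer ({y} : Set G)).index)
    {a : G} (ha : a ∈ A) : ⁅a, x⁆ ∈ center G := by
  classical
  have hAcomm : ∀ u ∈ A, ∀ v ∈ A, u * v = v * u := fun u hu v hv =>
    congrArg Subtype.val (mul_comm' (⟨u, hu⟩ : A) ⟨v, hv⟩)
  have hmemA : ∀ b ∈ A, ⁅b, x⁆ ∈ A := fun b hb => by
    rw [commutatorElement_def, show b * x * b⁻¹ * x⁻¹ = b * (x * b⁻¹ * x⁻¹) by group]
    exact A.mul_mem hb (Normal.conj_mem inferInstance _ (A.inv_mem hb) x)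
  by_contra hy
  set y := ⁅a, x⁆ with hydef
  set S := centralizer ({y} : Set G)
  set X := centralizer ({x} : Set G) with hXdef
  set Q := A ⊔ X
  have hS1 : 1 < S.index := by
    refine one_lt_index_of_ne_top fun h => hy (mem_center_iff.mpr fun g => ?_)
    exact mem_centralizer_singleton_iff.mp (show g ∈ S from h ▸ mem_top g)
  -- the commutator map on `A`
  let f : A →* G := MonoidHom.mk' (fun b => ⁅(b : G), x⁆) fun b c => by
    show ⁅(b : G) * c, x⁆ = ⁅(b : G), x⁆ * ⁅(c : G), x⁆
    rw [show ⁅(b : G) * c, x⁆ = ((b : G) * ⁅(c : G), x⁆ * (b : G)⁻¹) * ⁅(b : G), x⁆ by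
      simp only [commutatorElement_def]; group]
    rw [hAcomm _ b.2 _ (hmemA c c.2), mul_inv_cancel_right]
    exact hAcomm _ (hmemA c c.2) _ (hmemA b b.2)
  have hker : f.ker = X.subgroupOf A := by
    ext b
    rw [MonoidHom.mem_ker, mem_subgroupOf, hXdef, mem_centralizer_singleton_iff]
    exact commutatorElement_eq_one_iff_mul_comm
  have hrange : Nat.card f.range = X.relIndex A := by rw [← index_ker, hker]; rfl
  -- the index of the centralizer of `x`
  have hidx : X.index = Q.index * Nat.card f.range := by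
    have h1 : A.relIndex Q = A.relIndex X := by rw [show Q = A ⊔ X from rfl, relIndex_sup_left]
    have h2 := relIndex_mul_relIndex ⊥ A Q bot_le le_sup_left
    have h3 := relIndex_mul_relIndex ⊥ X Q bot_le le_sup_right
    have h4 := relIndex_mul_relIndex ⊥ (A ⊓ X) A bot_le inf_le_left
    have h5 := relIndex_mul_relIndex ⊥ (A ⊓ X) X bot_le inf_le_right
    simp only [relIndex_bot_left, inf_relIndex_right, inf_relIndex_left] at h2 h3 h4 h5
    have h6 : X.relIndex Q = X.relIndex A := by
      have hA : 0 < Nat.card X := Nat.card_pos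
      rw [h1, ← h4] at h2
      rw [← h5, ← h2] at h3
      exact Nat.eq_of_mul_eq_mul_left (h5.symm ▸ hA) (h3.trans (by ring))
    rw [hrange, ← h6, ← relIndex_mul_index (le_sup_right : X ≤ Q), mul_comm]
  -- conjugates of `y`
  let T := {t : G // t ∈ f.range ∧ t ≠ 1}
  let F : (G ⧸ Q) × T → G := fun q => q.1.out * q.2.1 * (q.1.out)⁻¹
  let v : G ⧸ S → G := Quotient.lift (fun g => g * y * g⁻¹) fun g g' hg => by
    have h1 : g⁻¹ * g' ∈ S := QuotientGroup.leftRel_apply.mp hg
    have h2 := mem_centralizer_singleton_iff.mp h1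
    calc g * y * g⁻¹ = g * (y * (g⁻¹ * g')) * g'⁻¹ := by group
      _ = g * ((g⁻¹ * g') * y) * g'⁻¹ := by rw [h2]
      _ = g' * y * g'⁻¹ := by group
  have hv : Function.Injective v := by
    rintro ⟨g⟩ ⟨g'⟩ h
    refine Quotient.sound (QuotientGroup.leftRel_apply.mpr (mem_centralizer_singleton_iff.mpr ?_))
    have h' : g * y * g⁻¹ = g' * y * g'⁻¹ := h
    calc g⁻¹ * g' * y = g⁻¹ * (g' * y * g'⁻¹) * g' := by group
      _ = g⁻¹ * (g * y * g⁻¹) * g' := by rw [h']
      _ = y * (g⁻¹ * g') := by group
  have hy1 : y ≠ 1 := fun h => hy (h ▸ one_mem _)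
  have himg : ∀ s, v s ∈ Set.range F := by
    rintro ⟨g⟩
    set q := ((g : G) : G ⧸ Q) with hq
    have hmem : q.out⁻¹ * g ∈ Q := QuotientGroup.eq.mp (QuotientGroup.out_eq' q)
    obtain ⟨b, hb, c, hc, hbc⟩ := mem_sup_of_normal_left.mp hmem
    have hcx := mem_centralizer_singleton_iff.mp hc
    have hca : c * a * c⁻¹ ∈ A := Normal.conj_mem inferInstance a ha c
    have e1 : ⁅c * a * c⁻¹, x⁆ = c * y * c⁻¹ := by
      rw [hydef]
      simp only [commutatorElement_def]
      calc c * a * c⁻¹ * x * (c * a * c⁻¹)⁻¹ * x⁻¹ = c * a * c⁻¹ * (x * c) * a⁻¹ * (x * c)⁻¹ := by group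
        _ = c * a * c⁻¹ * (c * x) * a⁻¹ * (c * x)⁻¹ := by rw [hcx]
        _ = _ := by group
    refine ⟨⟨q, ⟨⁅c * a * c⁻¹, x⁆, ⟨⟨_, hca⟩, rfl⟩, ?_⟩⟩, ?_⟩
    · intro h
      exact hy1 (conj_eq_one_iff.mp (e1.symm.trans h))
    · show q.out * ⁅c * a * c⁻¹, x⁆ * q.out⁻¹ = g * y * g⁻¹
      have e2 : b * (c * y * c⁻¹) * b⁻¹ = c * y * c⁻¹ := by
        rw [hAcomm b hb _ (Normal.conj_mem inferInstance y (hmemA a ha) c), mul_inv_cancel_right]
      rw [e1, ← e2, show g = q.out * (b * c) by rw [hbc]; group]
      group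
  have hle : S.index ≤ Q.index * Nat.card T := by
    have h1 : Nat.card (G ⧸ S) ≤ Nat.card (Set.range F) :=
      Nat.card_le_card_of_injective (fun s => (⟨v s, himg s⟩ : Set.range F)) fun s t h => hv (congrArg Subtype.val h)
    refine h1.trans ((Finite.card_range_le F).trans (le_of_eq ?_))
    rw [Nat.card_prod, index_eq_card]
  have hT : Nat.card T < Nat.card f.range := by
    haveI := Fintype.ofFinite G
    have hi : Function.Injective fun t : T => (⟨t.1, t.2.1⟩ : f.range) :=
      fun s t h => Subtype.ext (congrArg (fun u : f.range => (u : G)) h)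
    refine lt_of_le_of_ne (Nat.card_le_card_of_injective _ hi) fun he => ?_
    have hs := (hi.bijective_of_nat_card_le he.ge).2
    obtain ⟨t, ht⟩ := hs ⟨1, one_mem _⟩
    exact t.2.2 (congrArg Subtype.val ht)
  have := hmin y hS1
  rw [hidx] at this
  have hQ : 0 < Q.index := Nat.pos_of_ne_zero index_ne_zero_of_finite
  nlinarith

/-- The subgroup generated by the two smallest class sizes has class at most three. -/
theorem lowerCentralSeries_three {A : Subgroup G} [A.Normal] [IsMulCommutative A]
    (hCA : centralizer (A : Set G) = A) (m : ℕ)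
    (hmin : ∀ x : G, 1 < (centralizer ({x} : Set G)).index → m ≤ (centralizer ({x} : Set G)).index) :
    Subgroup.upperCentralSeries ↥(closure {x : G | (centralizer ({x} : Set G)).index = 1 ∨
      (centralizer ({x} : Set G)).index = m}) 3 = ⊤ := by
  set M := closure {x : G | (centralizer ({x} : Set G)).index = 1 ∨ (centralizer ({x} : Set G)).index = m}
  set π := QuotientGroup.mk' (center G)
  have hAM : ⁅A, M⁆ ≤ center G := by
    rw [commutator_le]
    intro a ha g hg
    have hmem : g ∈ (centralizer ((A.map π : Subgroup _) : Set (G ⧸ center G))).comap π := by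
      refine (closure_le _).mpr ?_ hg
      intro x hx
      refine mem_centralizer_iff.mpr ?_
      rintro _ ⟨b, hb, rfl⟩
      have h1 : ⁅b, x⁆ ∈ center G := by
        refine commutatorElement_mem_center (fun y hy => ?_) hb
        rcases hx with hx | hx <;> rw [hx]
        · exact hy.le
        · exact hmin y hy
      have h2 : π ⁅b, x⁆ = 1 := (QuotientGroup.eq_one_iff _).mpr h1
      rw [map_commutatorElement] at h2
      exact commutatorElement_eq_one_iff_mul_comm.mp h2
    have h2 : π ⁅a, g⁆ = 1 := by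
      rw [map_commutatorElement]
      exact commutatorElement_eq_one_iff_mul_comm.mpr (mem_centralizer_iff.mp hmem _ (mem_map_of_mem π ha))
    exact (QuotientGroup.eq_one_iff _).mp h2
  have hcen : ∀ H : Subgroup G, H ≤ center G → ⁅H, M⁆ = ⊥ := fun H hH =>
    commutator_eq_bot_iff_le_centralizer.mpr fun x hx => mem_centralizer_iff.mpr fun g _ => mem_center_iff.mp (hH hx) g
  have hMA : ⁅M, M⁆ ≤ A := by
    conv_rhs => rw [← hCA]
    refine commutator_eq_bot_iff_le_centralizer.mp (commutator_commutator_eq_bot_of_rotate ?_ ?_)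
    · rw [commutator_comm M A]; exact hcen _ hAM
    · exact hcen _ hAM
  refine lowerCentralSeries_eq_bot_iff_upperCentralSeries_eq_top.mp ?_
  refine map_injective M.subtype_injective ?_
  rw [Subgroup.map_bot, Subgroup.lowerCentralSeries_succ, Subgroup.lowerCentralSeries_succ, Subgroup.lowerCentralSeries_succ,
    Subgroup.lowerCentralSeries_zero, map_commutator, map_commutator, map_commutator, ← MonoidHom.range_eq_map,
    M.range_subtype]
  exact hcen _ ((commutator_mono hMA le_rfl).trans hAM)

end Cfsg.Lib.SmallClassSubgroup
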