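import Cfsg.Agent.Lib.Fusion.Alperin
import Mathlib.Combinatorics.Enumerative.IncidenceAlgebra
import Mathlib.GroupTheory.Sylow

/-!
Counting the elements `g` for which a `p`-subgroup `H` is subnormal in `⟨H, g⟩`: their number is the number of
Sylow `p`-subgroups containing `H` times the order of a Sylow normalizer (Casolo).
-/

set_option autoImplicit false
set_option linter.style.haveILetI false

namespace Cfsg.Lib.SubnormalizerCount

open Subgroup Finset

universe u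

variable {G : Type u} [Group G] {p : ℕ}

/-- Some `g`-invariant `p`-subgroup of `L` contains `H`. -/
def Good (p : ℕ) (L H : Subgroup G) (g : G) : Prop :=
  ∃ K : Subgroup G, IsPGroup p K ∧ H ≤ K ∧ K ≤ L ∧ g ∈ normalizer (K : Set G)

/-- A maximal `p`-subgroup of `L`. -/
def MaxP (p : ℕ) (L Q : Subgroup G) : Prop :=
  IsPGroup p Q ∧ Q ≤ L ∧ ∀ R : Subgroup G, IsPGroup p R → Q ≤ R → R ≤ L → R = Q

variable [Finite G] [hp : Fact p.Prime]

/-- The Sylow subgroups of `L` as maximal `p`-subgroups of `L`. -/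
theorem maxP_iff (L Q : Subgroup G) :
    MaxP p L Q ↔ ∃ S : Sylow p L, (S : Subgroup L).map L.subtype = Q := by
  constructor
  · rintro ⟨hQ, hQL, hmax⟩
    refine ⟨⟨Q.subgroupOf L, hQ.of_equiv (subgroupOfEquivOfLe hQL).symm, fun {R} hR hle => ?_⟩,
      map_subgroupOf_eq_of_le hQL⟩
    have h1 := hmax (R.map L.subtype) (hR.map _) ((map_subgroupOf_eq_of_le hQL).symm.trans_le (map_mono hle))
      (map_subtype_le R)
    rw [← h1]
    exact (comap_map_eq_self_of_injective L.subtype_injective R).symm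
  · rintro ⟨S, rfl⟩
    refine ⟨S.isPGroup'.map _, map_subtype_le _, fun R hR hle hRL => ?_⟩
    have h1 : (S : Subgroup L) ≤ R.subgroupOf L := fun x hx => hle (mem_map_of_mem _ hx)
    have h2 := S.is_maximal' (hR.of_equiv (subgroupOfEquivOfLe hRL).symm) h1
    rw [← h2]
    exact (map_subgroupOf_eq_of_le hRL).symm

open scoped Classical in
/-- The number of elements `g` of `L` that fix a `p`-subgroup of `L` containing `H`. -/
noncomputable def lhs (p : ℕ) (L H : Subgroup G) [Fintype G] : ℤ :=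
  ∑ g : G, if g ∈ L ∧ Good p L H g then 1 else 0

open scoped Classical in
/-- The orders of the normalizers in `L` of the Sylow subgroups of `L` containing `H`. -/
noncomputable def rhs (p : ℕ) (L H : Subgroup G) [Fintype (Subgroup G)] : ℤ :=
  ∑ Q : Subgroup G, if MaxP p L Q ∧ H ≤ Q then (Nat.card ↥(normalizer (Q : Set G) ⊓ L) : ℤ) else 0

theorem rhs_eq [Fintype (Subgroup G)] (L H : Subgroup G) (P : Sylow p L) :
    rhs p L H = (Nat.card {S : Sylow p L // H ≤ (S : Subgroup L).map L.subtype} *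
      Nat.card ↥(normalizer ((P : Subgroup L) : Set L)) : ℕ) := by
  classical
  haveI := Fintype.ofFinite (Sylow p L)
  let φ : {S : Sylow p L // H ≤ (S : Subgroup L).map L.subtype} → Subgroup G := fun S =>
    (S.1 : Subgroup L).map L.subtype
  have hφ : Function.Injective φ := fun S T h => Subtype.ext (Sylow.ext (map_injective L.subtype_injective h))
  have hset : (univ.filter fun Q : Subgroup G => MaxP p L Q ∧ H ≤ Q) = univ.image φ := by
    ext Q
    simp only [mem_filter, mem_univ, true_and, mem_image, maxP_iff]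
    constructor
    · rintro ⟨⟨S, rfl⟩, hH⟩
      exact ⟨⟨S, hH⟩, rfl⟩
    · rintro ⟨S, rfl⟩
      exact ⟨⟨S.1, rfl⟩, S.2⟩
  have hw : ∀ S, Nat.card ↥(normalizer (φ S : Set G) ⊓ L) = Nat.card ↥(normalizer ((P : Subgroup L) : Set L)) := by
    intro S
    have h1 : (normalizer (φ S : Set G)).subgroupOf L = normalizer ((S.1 : Subgroup L) : Set L) := by
      rw [subgroupOf_normalizer_eq (map_subtype_le _)]
      congr 2
      exact comap_map_eq_self_of_injective L.subtype_injective _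
    rw [← inf_subgroupOf_right] at h1
    rw [← Nat.card_congr (subgroupOfEquivOfLe (inf_le_right (a := normalizer (φ S : Set G)) (b := L))).toEquiv, h1]
    have hS := (normalizer ((S.1 : Subgroup L) : Set L)).card_mul_index
    have hP := (normalizer ((P : Subgroup L) : Set L)).card_mul_index
    rw [show (normalizer ((S.1 : Subgroup L) : Set L)).index = Nat.card (Sylow p L) from
      (Sylow.card_eq_index_normalizer S.1).symm] at hS
    rw [show (normalizer ((P : Subgroup L) : Set L)).index = Nat.card (Sylow p L) from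
      (Sylow.card_eq_index_normalizer P).symm] at hP
    exact Nat.eq_of_mul_eq_mul_right Nat.card_pos (hS.trans hP.symm)
  rw [rhs, ← sum_filter, hset, sum_image fun a _ b _ h => hφ h]
  simp only [hw, sum_const, card_univ, ← Nat.card_eq_fintype_card, nsmul_eq_mul, Nat.cast_mul]

/-- A `p`-subgroup of `L` that is not Sylow is properly contained in its normalizer in any Sylow subgroup. -/
theorem exists_gt {L H : Subgroup G} (hH : IsPGroup p H) (hHL : H ≤ L) (hn : ¬ MaxP p L H) :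
    ∃ R : Subgroup G, IsPGroup p R ∧ H < R ∧ R ≤ L ⊓ normalizer (H : Set G) := by
  by_contra hc
  refine hn ⟨hH, hHL, fun R hR hle hRL => ?_⟩
  by_contra hne
  have hlt := Fusion.lt_inf_normalizer hR (lt_of_le_of_ne hle (Ne.symm hne))
  exact hc ⟨_, hR.to_le inf_le_left, hlt, le_inf (inf_le_left.trans hRL) inf_le_right⟩

section Moebius

variable [Fintype (Subgroup G)] [DecidableEq (Subgroup G)] [LocallyFiniteOrder (Subgroup G)]

local notation "μ" => IncidenceAlgebra.mu (α := Subgroup G) ℤ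

theorem sum_Ioc_mu {H T : Subgroup G} (h : H < T) : ∑ R ∈ Ioc H T, μ H R = -1 := by
  have h1 := IncidenceAlgebra.sum_Icc_mu_right (𝕜 := ℤ) H T
  rw [if_neg h.ne, ← Finset.add_sum_Ioc_eq_sum_Icc h.le, IncidenceAlgebra.mu_self] at h1
  linarith

open scoped Classical in
/-- The recursion satisfied by `rhs`. -/
theorem rhs_rec {L H : Subgroup G} (hH : IsPGroup p H) (hHL : H ≤ L) (hn : ¬ MaxP p L H) :
    ∑ R : Subgroup G, (if H < R ∧ R ≤ L ⊓ normalizer (H : Set G) ∧ IsPGroup p R then - μ H R * rhs p L R else 0) =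
      rhs p L H := by
  have h1 : ∀ R : Subgroup G,
      (if H < R ∧ R ≤ L ⊓ normalizer (H : Set G) ∧ IsPGroup p R then - μ H R * rhs p L R else 0) =
      ∑ Q : Subgroup G, (if (MaxP p L Q ∧ R ≤ Q) ∧ H < R ∧ R ≤ L ⊓ normalizer (H : Set G) ∧ IsPGroup p R then
        - μ H R * (Nat.card ↥(normalizer (Q : Set G) ⊓ L) : ℤ) else 0) := by
    intro R
    by_cases hR : H < R ∧ R ≤ L ⊓ normalizer (H : Set G) ∧ IsPGroup p R
    · rw [if_pos hR, rhs, mul_sum]
      refine sum_congr rfl fun Q _ => ?_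
      by_cases hQ : MaxP p L Q ∧ R ≤ Q
      · rw [if_pos hQ, if_pos ⟨hQ, hR⟩]
      · rw [if_neg hQ, if_neg fun h => hQ h.1, mul_zero]
    · rw [if_neg hR]
      exact (sum_eq_zero fun Q _ => if_neg fun h => hR h.2).symm
  rw [sum_congr rfl fun R _ => h1 R, sum_comm, rhs]
  refine sum_congr rfl fun Q _ => ?_
  by_cases hQ : MaxP p L Q ∧ H ≤ Q
  · rw [if_pos hQ]
    have hlt : H < Q ⊓ normalizer (H : Set G) :=
      Fusion.lt_inf_normalizer hQ.1.1 (lt_of_le_of_ne hQ.2 fun he => hn (he ▸ hQ.1))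
    have hset : (univ.filter fun R : Subgroup G =>
        (MaxP p L Q ∧ R ≤ Q) ∧ H < R ∧ R ≤ L ⊓ normalizer (H : Set G) ∧ IsPGroup p R) =
        Ioc H (Q ⊓ normalizer (H : Set G)) := by
      ext R
      simp only [mem_filter, mem_univ, true_and, Finset.mem_Ioc, le_inf_iff]
      constructor
      · rintro ⟨⟨-, hRQ⟩, hHR, ⟨-, hRN⟩, -⟩
        exact ⟨hHR, hRQ, hRN⟩
      · rintro ⟨hHR, hRQ, hRN⟩
        exact ⟨⟨hQ.1, hRQ⟩, hHR, ⟨hRQ.trans hQ.1.2.1, hRN⟩, hQ.1.1.to_le hRQ⟩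
    rw [← sum_filter, hset]
    simp only [neg_mul, sum_neg_distrib, ← sum_mul, sum_Ioc_mu hlt]
    ring
  · rw [if_neg hQ]
    refine sum_eq_zero fun R _ => if_neg fun h => hQ ⟨h.1.1, h.2.1.le.trans h.1.2⟩

open scoped Classical in
/-- The Euler characteristic of the subgroups that lie in an invariant `p`-subgroup. -/
theorem sum_good {L H : Subgroup G} {g : G} (hg : Good p L H g) (hgN : g ∉ normalizer (H : Set G)) :
    ∑ R : Subgroup G,
      (if (H < R ∧ R ≤ L ⊓ normalizer (H : Set G) ∧ IsPGroup p R) ∧ Good p L R g then - μ H R else 0) = 1 := by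
  set S := univ.filter fun R : Subgroup G => H ≤ R ∧ R ≤ normalizer (H : Set G) ∧ Good p L R g with hS
  let W : Subgroup G → Set (Subgroup G) := fun R =>
    {K | IsPGroup p K ∧ R ≤ K ∧ K ≤ L ∧ g ∈ normalizer (K : Set G)}
  let cl : Subgroup G → Subgroup G := fun R => sInf (W R) ⊓ normalizer (H : Set G)
  have hmem : ∀ R, Good p L R g → sInf (W R) ∈ W R := fun R ⟨K, hK⟩ =>
    ⟨hK.1.to_le (sInf_le hK), le_sInf fun K' h => h.2.1, (sInf_le hK : sInf (W R) ≤ K).trans hK.2.2.1,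
      mem_normalizer_iff.mpr fun x => by
        simp only [mem_sInf]
        exact forall₂_congr fun K' h => mem_normalizer_iff.mp h.2.2.2 x⟩
  have hle : ∀ R ∈ S, R ≤ cl R := fun R hR =>
    le_inf (hmem R (mem_filter.mp hR).2.2.2).2.1 (mem_filter.mp hR).2.2.1
  have hHS : H ∈ S := mem_filter.mpr ⟨mem_univ _, le_rfl, le_normalizer, hg⟩
  have hdown : ∀ R₀ ∈ S, ∀ R, H ≤ R → R ≤ cl R₀ → R ∈ S ∧ cl R ≤ cl R₀ := by
    intro R₀ hR₀ R hHR hR
    have hw := hmem R₀ (mem_filter.mp hR₀).2.2.2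
    have hK : sInf (W R₀) ∈ W R := ⟨hw.1, hR.trans inf_le_left, hw.2.2⟩
    exact ⟨mem_filter.mpr ⟨mem_univ _, hHR, hR.trans inf_le_right, _, hK⟩, inf_le_inf_right _ (sInf_le hK)⟩
  have hgt : ∀ R₀ ∈ S, H < cl R₀ := by
    intro R₀ hR₀
    obtain ⟨-, hHR₀, -, hgood⟩ := mem_filter.mp hR₀
    have hw := hmem R₀ hgood
    refine Fusion.lt_inf_normalizer hw.1 (lt_of_le_of_ne (hHR₀.trans hw.2.1) fun he => hgN ?_)
    rw [he]; exact hw.2.2.2
  have ha : ∀ V, V ∈ S.image cl → ∑ R ∈ S.filter (fun R => cl R = V), μ H R = 0 := by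
    intro V
    induction V using WellFoundedLT.induction with
    | _ V ih =>
    intro hV
    obtain ⟨R₀, hR₀, rfl⟩ := mem_image.mp hV
    have hIcc : S.filter (fun R => cl R ≤ cl R₀) = Icc H (cl R₀) := by
      ext R
      simp only [mem_filter, Finset.mem_Icc]
      constructor
      · rintro ⟨hR, hcl⟩
        exact ⟨(mem_filter.mp hR).2.1, (hle R hR).trans hcl⟩
      · rintro ⟨hHR, hR⟩
        exact hdown R₀ hR₀ R hHR hR
    have h1 := IncidenceAlgebra.sum_Icc_mu_right (𝕜 := ℤ) H (cl R₀)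
    rw [if_neg (hgt R₀ hR₀).ne, ← hIcc,
      ← sum_fiberwise_of_maps_to (t := (S.filter fun R => cl R ≤ cl R₀).image cl)
        (fun x hx => mem_image_of_mem _ hx)] at h1
    have hz : ∀ V ∈ (S.filter fun R => cl R ≤ cl R₀).image cl, V ≠ cl R₀ →
        ∑ R ∈ (S.filter fun R => cl R ≤ cl R₀).filter (fun R => cl R = V), μ H R = 0 := by
      intro V hV hne
      obtain ⟨R, hR, rfl⟩ := mem_image.mp hV
      rw [filter_filter]
      have he : S.filter (fun x => cl x ≤ cl R₀ ∧ cl x = cl R) = S.filter (fun x => cl x = cl R) :=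
        filter_congr fun x _ => ⟨fun h => h.2, fun h => ⟨h ▸ (mem_filter.mp hR).2, h⟩⟩
      rw [he]
      exact ih _ (lt_of_le_of_ne (mem_filter.mp hR).2 hne) (mem_image_of_mem _ (mem_filter.mp hR).1)
    have hm0 : R₀ ∈ S.filter (fun R => cl R ≤ cl R₀) := mem_filter.mpr ⟨hR₀, le_rfl⟩
    rw [sum_eq_single_of_mem (cl R₀) (mem_image_of_mem cl hm0) hz, filter_filter] at h1
    rw [← h1]
    exact sum_congr (filter_congr fun x _ => ⟨fun h => ⟨h.le, h⟩, fun h => h.2⟩) fun _ _ => rfl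
  have htot : ∑ R ∈ S, μ H R = 0 := by
    rw [← sum_fiberwise_of_maps_to (t := S.image cl) (fun x hx => mem_image_of_mem _ hx)]
    exact sum_eq_zero ha
  rw [← add_sum_erase S _ hHS, IncidenceAlgebra.mu_self] at htot
  have hset : (univ.filter fun R : Subgroup G =>
      (H < R ∧ R ≤ L ⊓ normalizer (H : Set G) ∧ IsPGroup p R) ∧ Good p L R g) = S.erase H := by
    ext R
    simp only [mem_filter, mem_univ, true_and, mem_erase, hS, le_inf_iff]
    constructor
    · rintro ⟨⟨hHR, ⟨-, hRN⟩, -⟩, hG⟩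
      exact ⟨hHR.ne', hHR.le, hRN, hG⟩
    · rintro ⟨hne, hHR, hRN, hG⟩
      obtain ⟨K, hK, hRK, hKL, hgK⟩ := hG
      exact ⟨⟨lt_of_le_of_ne hHR (Ne.symm hne), ⟨hRK.trans hKL, hRN⟩, hK.to_le hRK⟩, K, hK, hRK, hKL, hgK⟩
  rw [← sum_filter, hset, sum_neg_distrib]
  linarith

open scoped Classical in
theorem lhs_eq_rhs [Fintype G] : ∀ (H : Subgroup G), IsPGroup p H → ∀ L : Subgroup G, H ≤ L →
    lhs p L H = rhs p L H := by
  intro H
  induction H using WellFoundedGT.induction with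
  | _ H ih =>
  intro hH L hHL
  by_cases hmax : MaxP p L H
  · have h1 : ∀ g : G, (g ∈ L ∧ Good p L H g) ↔ g ∈ normalizer (H : Set G) ⊓ L := fun g =>
      ⟨fun ⟨hgL, K, hK, hHK, hKL, hgK⟩ => mem_inf.mpr ⟨hmax.2.2 K hK hHK hKL ▸ hgK, hgL⟩,
        fun h => ⟨(mem_inf.mp h).2, H, hH, le_rfl, hHL, (mem_inf.mp h).1⟩⟩
    rw [lhs, rhs, sum_eq_single H, if_pos ⟨hmax, le_rfl⟩]
    · simp only [h1]
      rw [← sum_filter, sum_const, nsmul_eq_mul, mul_one, Nat.card_eq_fintype_card, Fintype.card_subtype]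
    · exact fun Q _ hne => if_neg fun h => hne (hmax.2.2 Q h.1.1 h.2 h.1.2.1)
    · exact fun h => absurd (mem_univ H) h
  set N := normalizer (H : Set G) with hN
  have hHLN : H ≤ L ⊓ N := le_inf hHL le_normalizer
  have hmaxN : ¬ MaxP p (L ⊓ N) H := by
    intro h
    obtain ⟨R, hR, hlt, hle⟩ := exists_gt hH hHL hmax
    exact hlt.ne' (h.2.2 R hR hlt.le hle)
  -- the two recursions
  have hL := rhs_rec hH hHL hmax
  have hLN := rhs_rec hH hHLN hmaxN
  have hrepl : ∀ M : Subgroup G,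
      ∑ R : Subgroup G, (if H < R ∧ R ≤ L ⊓ N ∧ IsPGroup p R ∧ R ≤ M then - μ H R * rhs p M R else 0) =
      ∑ g : G, ∑ R : Subgroup G, (if (H < R ∧ R ≤ L ⊓ N ∧ IsPGroup p R ∧ R ≤ M) ∧ g ∈ M ∧ Good p M R g
        then - μ H R else 0) := by
    intro M
    rw [sum_comm]
    refine sum_congr rfl fun R _ => ?_
    by_cases hR : H < R ∧ R ≤ L ⊓ N ∧ IsPGroup p R ∧ R ≤ M
    · rw [if_pos hR, ← ih R hR.1 hR.2.2.1 M hR.2.2.2, lhs, mul_sum]
      refine sum_congr rfl fun g _ => ?_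
      by_cases hg : g ∈ M ∧ Good p M R g
      · rw [if_pos hg, if_pos ⟨hR, hg⟩, mul_one]
      · rw [if_neg hg, if_neg fun h => hg h.2, mul_zero]
    · rw [if_neg hR]
      exact (sum_eq_zero fun g _ => if_neg fun h => hR h.1).symm
  have e1 : ∀ R : Subgroup G, (H < R ∧ R ≤ L ⊓ N ∧ IsPGroup p R) ↔ (H < R ∧ R ≤ L ⊓ N ∧ IsPGroup p R ∧ R ≤ L) :=
    fun R => ⟨fun h => ⟨h.1, h.2.1, h.2.2, h.2.1.trans inf_le_left⟩, fun h => ⟨h.1, h.2.1, h.2.2.1⟩⟩
  have e2 : ∀ R : Subgroup G, (H < R ∧ R ≤ L ⊓ N ⊓ N ∧ IsPGroup p R) ↔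
      (H < R ∧ R ≤ L ⊓ N ∧ IsPGroup p R ∧ R ≤ L ⊓ N) :=
    fun R => ⟨fun h => ⟨h.1, h.2.1.trans inf_le_left, h.2.2, h.2.1.trans inf_le_left⟩,
      fun h => ⟨h.1, le_inf h.2.1 (h.2.1.trans inf_le_right), h.2.2.1⟩⟩
  rw [sum_congr rfl fun R _ => if_congr (e1 R) rfl rfl] at hL
  rw [sum_congr rfl fun R _ => if_congr (e2 R) rfl rfl] at hLN
  rw [hrepl] at hL hLN
  -- every Sylow subgroup of the normalizer contains `H`
  have hrN : rhs p (L ⊓ N) H = ∑ g : G, if g ∈ L ⊓ N then 1 else 0 := by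
    obtain ⟨P⟩ : Nonempty (Sylow p ↥(L ⊓ N)) := inferInstance
    rw [rhs_eq _ _ P]
    have hall : ∀ S : Sylow p ↥(L ⊓ N), H ≤ (S : Subgroup ↥(L ⊓ N)).map (L ⊓ N).subtype := fun S => by
      have hm := (maxP_iff (p := p) (L ⊓ N) _).mpr ⟨S, rfl⟩
      have h2 := hm.2.2 (H ⊔ (S : Subgroup ↥(L ⊓ N)).map (L ⊓ N).subtype)
        (hH.to_sup_of_normal_left' hm.1 (hm.2.1.trans inf_le_right)) le_sup_right (sup_le hHLN hm.2.1)
      exact h2 ▸ le_sup_left
    have hidx : Nat.card (Sylow p ↥(L ⊓ N)) * Nat.card ↥(normalizer ((P : Subgroup ↥(L ⊓ N)) : Set ↥(L ⊓ N))) =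
        Nat.card ↥(L ⊓ N) := by
      rw [show Nat.card (Sylow p ↥(L ⊓ N)) = (normalizer ((P : Subgroup ↥(L ⊓ N)) : Set ↥(L ⊓ N))).index from
        Sylow.card_eq_index_normalizer P]
      exact index_mul_card _
    rw [Nat.card_congr (Equiv.subtypeUnivEquiv hall), hidx, ← sum_filter, sum_const, nsmul_eq_mul, mul_one,
      Nat.card_eq_fintype_card, Fintype.card_subtype]
  rw [hrN] at hLN
  rw [← hL, lhs]
  have hsplit : ∀ g : G, (∑ R : Subgroup G,
      (if (H < R ∧ R ≤ L ⊓ N ∧ IsPGroup p R ∧ R ≤ L) ∧ g ∈ L ∧ Good p L R g then - μ H R else 0)) =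
      (if g ∈ L ∧ Good p L H g then 1 else 0) - (if g ∈ L ⊓ N then 1 else 0) +
      ∑ R : Subgroup G,
        (if (H < R ∧ R ≤ L ⊓ N ∧ IsPGroup p R ∧ R ≤ L ⊓ N) ∧ g ∈ L ⊓ N ∧ Good p (L ⊓ N) R g then - μ H R else 0) := by
    intro g
    by_cases hgN : g ∈ L ⊓ N
    · obtain ⟨hgL, hgN'⟩ := mem_inf.mp hgN
      rw [if_pos ⟨hgL, H, hH, le_rfl, hHL, hgN'⟩, if_pos hgN, sub_self, zero_add]
      refine sum_congr rfl fun R _ => if_congr ⟨?_, ?_⟩ rfl rfl
      · rintro ⟨⟨h1, h2, h3, -⟩, -, K, hK, hRK, hKL, hgK⟩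
        refine ⟨⟨h1, h2, h3, h2⟩, hgN, K ⊓ N, hK.to_le inf_le_left, le_inf hRK (h2.trans inf_le_right),
          inf_le_inf_right _ hKL, mem_normalizer_iff.mpr fun x => ?_⟩
        simp only [mem_inf]
        exact and_congr (mem_normalizer_iff.mp hgK x) (mem_normalizer_iff.mp (le_normalizer hgN') x)
      · rintro ⟨⟨h1, h2, h3, -⟩, -, K, hK, hRK, hKL, hgK⟩
        exact ⟨⟨h1, h2, h3, h2.trans inf_le_left⟩, hgL, K, hK, hRK, hKL.trans inf_le_left, hgK⟩
    · rw [if_neg hgN, sub_zero, sum_eq_zero fun R _ =>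
        if_neg fun h : (H < R ∧ R ≤ L ⊓ N ∧ IsPGroup p R ∧ R ≤ L ⊓ N) ∧ g ∈ L ⊓ N ∧ Good p (L ⊓ N) R g => hgN h.2.1,
        add_zero]
      by_cases hg : g ∈ L ∧ Good p L H g
      · rw [if_pos hg, ← sum_good hg.2 fun h => hgN (mem_inf.mpr ⟨hg.1, h⟩)]
        exact sum_congr rfl fun R _ => if_congr ⟨fun h => ⟨⟨h.1.1, h.1.2.1, h.1.2.2.1⟩, h.2.2⟩,
          fun h => ⟨⟨h.1.1, h.1.2.1, h.1.2.2, h.1.2.1.trans inf_le_left⟩, hg.1, h.2⟩⟩ rfl rfl
      · rw [if_neg hg]
        exact sum_eq_zero fun R _ => if_neg fun h => hg ⟨h.2.1, by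
          obtain ⟨K, hK, hRK, hKL, hgK⟩ := h.2.2
          exact ⟨K, hK, h.1.1.le.trans hRK, hKL, hgK⟩⟩
  rw [sum_congr rfl fun g _ => hsplit g, sum_add_distrib, sum_sub_distrib, hLN]
  ring

end Moebius

/-- Casolo's formula for the whole group. -/
theorem card_good {H : Subgroup G} (hH : IsPGroup p H) (P : Sylow p G) :
    Nat.card {g : G // Good p ⊤ H g} =
      Nat.card {Q : Sylow p G // H ≤ (Q : Subgroup G)} * Nat.card (normalizer ((P : Subgroup G) : Set G)) := by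
  classical
  haveI := Fintype.ofFinite G
  haveI := Fintype.ofFinite (Subgroup G)
  haveI : LocallyFiniteOrder (Subgroup G) := Fintype.toLocallyFiniteOrder
  haveI := Fintype.ofFinite (Sylow p G)
  have hmax : ∀ Q : Subgroup G, MaxP p ⊤ Q ↔ ∃ S : Sylow p G, (S : Subgroup G) = Q := fun Q =>
    ⟨fun h => ⟨⟨Q, h.1, fun {R} hR hle => h.2.2 R hR hle le_top⟩, rfl⟩,
      fun ⟨S, hS⟩ => hS ▸ ⟨S.isPGroup', le_top, fun R hR hle _ => S.is_maximal' hR hle⟩⟩
  have hset : (univ.filter fun Q : Subgroup G => MaxP p ⊤ Q ∧ H ≤ Q) =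
      (univ.filter fun Q : Sylow p G => H ≤ (Q : Subgroup G)).image (fun Q : Sylow p G => (Q : Subgroup G)) := by
    ext Q
    simp only [mem_filter, mem_univ, true_and, Finset.mem_image, hmax]
    constructor
    · rintro ⟨⟨S, rfl⟩, h⟩
      exact ⟨S, h, rfl⟩
    · rintro ⟨S, h, rfl⟩
      exact ⟨⟨S, rfl⟩, h⟩
  have hw : ∀ Q : Sylow p G, Nat.card ↥(normalizer ((Q : Subgroup G) : Set G) ⊓ ⊤) =
      Nat.card (normalizer ((P : Subgroup G) : Set G)) := by
    intro Q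
    rw [inf_top_eq]
    have hS := (normalizer ((Q : Subgroup G) : Set G)).card_mul_index
    have hP := (normalizer ((P : Subgroup G) : Set G)).card_mul_index
    rw [show (normalizer ((Q : Subgroup G) : Set G)).index = Nat.card (Sylow p G) from
      (Sylow.card_eq_index_normalizer Q).symm] at hS
    rw [show (normalizer ((P : Subgroup G) : Set G)).index = Nat.card (Sylow p G) from
      (Sylow.card_eq_index_normalizer P).symm] at hP
    exact Nat.eq_of_mul_eq_mul_right Nat.card_pos (hS.trans hP.symm)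
  have h := lhs_eq_rhs (p := p) H hH ⊤ le_top
  rw [lhs, rhs, ← sum_filter, ← sum_filter, hset, sum_image fun a _ b _ e => Sylow.ext e] at h
  simp only [hw, sum_const, nsmul_eq_mul, mul_one, mem_top, true_and] at h
  rw [Nat.card_eq_fintype_card, Fintype.card_subtype, Nat.card_eq_fintype_card (α := {Q : Sylow p G // _}),
    Fintype.card_subtype]
  exact_mod_cast h

end Cfsg.Lib.SubnormalizerCount
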