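import Cfsg.Agent.Lib.Fusion.SubnormalizerCount
import Mathlib.GroupTheory.Sylow
import Mathlib.GroupTheory.GroupAction.Quotient

/-!
The number of elements subnormalizing a `p`-subgroup, along a normal `p`- or `p'`-subgroup.
-/

set_option autoImplicit false
set_option linter.style.haveILetI false

namespace Cfsg.Lib.SubnormalizerCount

open Subgroup
open scoped Pointwise

universe u v

variable {G : Type u} [Group G] [Finite G] {G' : Type v} [Group G'] [Finite G'] {p : ℕ} [hp : Fact p.Prime]

theorem card_fiber (f : G →* G') (hf : Function.Surjective f) (P : G' → Prop) :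
    Nat.card {g : G // P (f g)} = Nat.card f.ker * Nat.card {y : G' // P y} := by
  classical
  haveI := Fintype.ofFinite {y : G' // P y}
  let F : {g : G // P (f g)} → {y : G' // P y} := fun g => ⟨f g.1, g.2⟩
  rw [Nat.card_congr (Equiv.sigmaFiberEquiv F).symm, Nat.card_sigma, Finset.sum_congr rfl (g := fun _ => Nat.card f.ker)
    (fun y _ => ?_), Finset.sum_const, Finset.card_univ, smul_eq_mul, mul_comm, ← Nat.card_eq_fintype_card]
  obtain ⟨g₀, hg₀⟩ := hf y.1
  exact Nat.card_congr
    { toFun := fun g => ⟨g₀⁻¹ * g.1.1, by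
        rw [MonoidHom.mem_ker, map_mul, map_inv, hg₀, show f g.1.1 = y.1 from congrArg Subtype.val g.2]
        exact inv_mul_cancel _⟩
      invFun := fun n => ⟨⟨g₀ * n.1, by rw [map_mul, hg₀, MonoidHom.mem_ker.mp n.2, mul_one]; exact y.2⟩,
        Subtype.ext (by show f (g₀ * n.1) = y.1; rw [map_mul, hg₀, MonoidHom.mem_ker.mp n.2, mul_one])⟩
      left_inv := fun g => Subtype.ext (Subtype.ext (mul_inv_cancel_left _ _))
      right_inv := fun n => Subtype.ext (inv_mul_cancel_left _ _) }

/-- Across a normal `p`-subgroup every element of a good coset is good. -/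
theorem card_good_of_pgroup_ker (f : G →* G') (hf : Function.Surjective f) (hker : IsPGroup p f.ker) {H : Subgroup G} :
    Nat.card {g : G // Good p ⊤ H g} = Nat.card f.ker * Nat.card {y : G' // Good p ⊤ (H.map f) y} := by
  rw [← card_fiber f hf fun y => Good p ⊤ (H.map f) y]
  refine Nat.card_congr (Equiv.subtypeEquivRight fun g => ⟨?_, ?_⟩)
  · rintro ⟨K, hK, hHK, -, hg⟩
    exact ⟨K.map f, hK.map f, map_mono hHK, le_top, le_normalizer_map f ⟨g, hg, rfl⟩⟩
  · rintro ⟨K, hK, hHK, -, hg⟩
    refine ⟨K.comap f, hK.comap_of_ker_isPGroup f hker, fun x hx => hHK (mem_map_of_mem f hx), le_top, ?_⟩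
    rw [← comap_normalizer_eq_of_surjective K hf]
    exact hg

/-- Across a normal `p'`-subgroup the count is multiplied by the order of the fixed points of `H`. -/
theorem card_good_of_coprime_ker (f : G →* G') (hf : Function.Surjective f) (hker : (Nat.card f.ker).Coprime p)
    {H : Subgroup G} (hH : IsPGroup p H) :
    Nat.card {g : G // Good p ⊤ H g} =
      Nat.card ↥(f.ker ⊓ centralizer (H : Set G)) * Nat.card {y : G' // Good p ⊤ (H.map f) y} := by
  classical
  haveI := Fintype.ofFinite (Sylow p G)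
  haveI := Fintype.ofFinite (Sylow p G')
  set N := f.ker with hN
  have hNQ : ∀ (Q : Sylow p G) (x : G), x ∈ (Q : Subgroup G) → x ∈ N → x = 1 := fun Q x hxQ hxN => by
    obtain ⟨j, hj⟩ := IsPGroup.iff_card.mp Q.isPGroup'
    have hd : (N ⊓ (Q : Subgroup G)) = ⊥ := disjoint_iff.mp (disjoint_of_coprime_natCard (by
      rw [hj]; exact hker.pow_right j))
    exact mem_bot.mp (hd ▸ mem_inf.mpr ⟨hxN, hxQ⟩)
  -- two Sylow subgroups over the same image and containing `H`
  have hconj : ∀ (X : Subgroup G) (Q Q' : Sylow p G), X ≤ (Q : Subgroup G) → X ≤ (Q' : Subgroup G) →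
      (Q : Subgroup G).map f = (Q' : Subgroup G).map f →
      ∃ n, n ∈ N ⊓ centralizer (X : Set G) ∧ n • Q = Q' := by
    intro X Q Q' hX hX' he
    set M := ((Q : Subgroup G).map f).comap f with hM
    have hQ : (Q : Subgroup G) ≤ M := le_comap_map f _
    have hQ' : (Q' : Subgroup G) ≤ M := (le_comap_map f _).trans_eq (by rw [hM, he])
    obtain ⟨⟨m, hm⟩, hmQ⟩ := MulAction.exists_smul_eq M (Q.subtype hQ) (Q'.subtype hQ')
    have hm' : m ∈ N ⊔ (Q : Subgroup G) := by
      rw [sup_comm]
      rwa [hM, comap_map_eq] at hm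
    obtain ⟨n, hn, q, hq, rfl⟩ := mem_sup_of_normal_left.mp hm'
    have hnQ : n • Q = Q' := by
      have h1 : (n * q) • Q = Q' := by
        refine Sylow.subtype_injective (N := M) (hP := ?_) (hQ := ?_) ?_
        · rw [Sylow.coe_subgroup_smul]; rintro _ ⟨x, hx, rfl⟩
          exact mul_mem (mul_mem hm (hQ hx)) (inv_mem hm)
        · exact hQ'
        · rw [← hmQ, Sylow.smul_subtype]; rfl
      rwa [mul_smul, show q • Q = Q from Sylow.smul_eq_iff_mem_normalizer.mpr (le_normalizer hq)] at h1
    refine ⟨n, mem_inf.mpr ⟨hn, mem_centralizer_iff.mpr fun x hx => ?_⟩, hnQ⟩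
    have hx' : x ∈ ((n • Q : Sylow p G) : Subgroup G) := hnQ ▸ hX' hx
    rw [Sylow.coe_subgroup_smul] at hx'
    obtain ⟨y, hy, hye⟩ := hx'
    have hye' : n * y * n⁻¹ = x := hye
    have h1 : x * y⁻¹ = 1 := hNQ Q _ (mul_mem (hX hx) (inv_mem hy)) (by
      rw [← hye', show n * y * n⁻¹ * y⁻¹ = n * (y * n⁻¹ * y⁻¹) by group]
      exact mul_mem hn ((inferInstance : N.Normal).conj_mem _ (inv_mem hn) y))
    rw [mul_inv_eq_one] at h1
    rw [← h1] at hye'
    exact (mul_inv_eq_iff_eq_mul.mp hye').symm
  -- normalizers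
  have hnorm : ∀ Q : Sylow p G, Nat.card ↥(normalizer ((Q : Subgroup G) : Set G)) =
      Nat.card ↥(N ⊓ normalizer ((Q : Subgroup G) : Set G)) *
        Nat.card ↥(normalizer (((Q.mapSurjective hf : Sylow p G') : Subgroup G') : Set G')) := by
    intro Q
    set A := normalizer ((Q : Subgroup G) : Set G)
    have himg : A.map f = normalizer (((Q.mapSurjective hf : Sylow p G') : Subgroup G') : Set G') := by
      refine le_antisymm (le_normalizer_map f) fun y hy => ?_
      obtain ⟨g, rfl⟩ := hf y
      obtain ⟨n, hn, hnQ⟩ := hconj ⊥ (g • Q) Q bot_le bot_le (by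
        rw [Sylow.coe_subgroup_smul]
        show ((Q : Subgroup G).map (MulAut.conj g).toMonoidHom).map f = _
        rw [map_map]
        have e : f.comp (MulAut.conj g).toMonoidHom = (MulAut.conj (f g)).toMonoidHom.comp f := by ext x; simp
        rw [e, ← map_map]
        exact mem_normalizer_iff_map_conj_eq.mp hy)
      have hng : n * g ∈ A := Sylow.smul_eq_iff_mem_normalizer.mp (by rw [mul_smul]; exact hnQ)
      exact ⟨n * g, hng, by rw [map_mul, MonoidHom.mem_ker.mp (mem_inf.mp hn).1, one_mul]⟩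
    rw [← himg, ← relIndex_ker, ← inf_relIndex_right, ← relIndex_bot_left, ← relIndex_bot_left]
    exact (relIndex_mul_relIndex ⊥ (N ⊓ A) A bot_le inf_le_right).symm
  -- each fiber
  have hfib : ∀ R : Sylow p G', H.map f ≤ (R : Subgroup G') →
      ∑ Q ∈ Finset.univ.filter (fun Q : Sylow p G => H ≤ (Q : Subgroup G) ∧ Q.mapSurjective hf = R),
        Nat.card ↥(normalizer ((Q : Subgroup G) : Set G)) =
      Nat.card ↥(N ⊓ centralizer (H : Set G)) * Nat.card ↥(normalizer ((R : Subgroup G') : Set G')) := by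
    intro R hR
    set S := Finset.univ.filter (fun Q : Sylow p G => H ≤ (Q : Subgroup G) ∧ Q.mapSurjective hf = R) with hS
    set C := N ⊓ centralizer (H : Set G) with hC
    obtain ⟨Q₀, hHQ₀, hQ₀R⟩ : ∃ Q : Sylow p G, H ≤ (Q : Subgroup G) ∧ Q.mapSurjective hf = R := by
      set M := (R : Subgroup G').comap f
      have hHM : H ≤ M := fun x hx => hR (mem_map_of_mem f hx)
      obtain ⟨S₀, hS₀⟩ := (hH.of_equiv (subgroupOfEquivOfLe hHM).symm).exists_le_sylow
      obtain ⟨Q, hQ⟩ := (S₀.isPGroup'.map M.subtype).exists_le_sylow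
      refine ⟨Q, fun x hx => hQ ⟨⟨x, hHM hx⟩, hS₀ (mem_subgroupOf.mpr hx), rfl⟩, ?_⟩
      have hle : ((S₀ : Subgroup M).map M.subtype).map f ≤ (R : Subgroup G') := by
        rintro _ ⟨_, ⟨x, -, rfl⟩, rfl⟩
        exact x.2
      have hidx : ¬ p ∣ ((S₀ : Subgroup M).map M.subtype).index := by
        rw [index_map_subtype, index_comap_of_surjective _ hf]
        exact fun h => (hp.out.dvd_mul.mp h).elim S₀.not_dvd_index R.not_dvd_index
      have hQe : ((S₀ : Subgroup M).map M.subtype) = (Q : Subgroup G) := by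
        obtain ⟨j, hj⟩ := IsPGroup.iff_card.mp Q.isPGroup'
        have h1 : ((S₀ : Subgroup M).map M.subtype).relIndex Q ∣ p ^ j := hj ▸ relIndex_dvd_card _ _
        obtain ⟨i, -, hi⟩ := (Nat.dvd_prime_pow hp.out).mp h1
        rcases i with _ | i
        · exact le_antisymm hQ (relIndex_eq_one.mp (by rw [hi, pow_zero]))
        · refine absurd ?_ hidx
          have := relIndex_dvd_index_of_le hQ
          rw [hi] at this
          exact (dvd_pow_self p (Nat.succ_ne_zero i)).trans this
      refine Sylow.ext ?_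
      show (Q : Subgroup G).map f = _
      exact ((Q.mapSurjective hf).is_maximal' R.isPGroup' (by show (Q : Subgroup G).map f ≤ _; rw [← hQe]; exact hle)).symm
    have horb : ∀ Q ∈ S, S.card * Nat.card ↥(N ⊓ normalizer ((Q : Subgroup G) : Set G)) = Nat.card C := by
      intro Q hQ
      obtain ⟨hHQ, hQR⟩ := (Finset.mem_filter.mp hQ).2
      have e1 : MulAction.orbit C Q = ↑S := by
        ext Q'
        simp only [hS, Finset.coe_filter, Finset.mem_univ, true_and, Set.mem_ofPred_eq]
        constructor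
        · rintro ⟨⟨c, hc⟩, rfl⟩
          obtain ⟨hcN, hcC⟩ := mem_inf.mp hc
          refine ⟨fun x hx => ?_, ?_⟩
          · show x ∈ ((c • Q : Sylow p G) : Subgroup G)
            rw [Sylow.coe_subgroup_smul]
            refine ⟨x, hHQ hx, ?_⟩
            show c * x * c⁻¹ = x
            rw [← mem_centralizer_iff.mp hcC x hx, mul_inv_cancel_right]
          · rw [← hQR]
            refine Sylow.ext ?_
            show ((c • Q : Sylow p G) : Subgroup G).map f = _
            rw [Sylow.coe_subgroup_smul]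
            show ((Q : Subgroup G).map (MulAut.conj c).toMonoidHom).map f = _
            rw [map_map]
            have e : f.comp (MulAut.conj c).toMonoidHom = f := by
              ext x; simp [MonoidHom.mem_ker.mp hcN]
            rw [e]; rfl
        · rintro ⟨hHQ', hQ'R⟩
          obtain ⟨n, hn, hnQ⟩ := hconj H Q Q' hHQ hHQ'
            (congrArg (fun R : Sylow p G' => (R : Subgroup G')) (hQR.trans hQ'R.symm))
          exact ⟨⟨n, hn⟩, hnQ⟩
      have e2 : (MulAction.stabilizer C Q).map C.subtype = N ⊓ normalizer ((Q : Subgroup G) : Set G) := by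
        ext g
        constructor
        · rintro ⟨⟨c, hc⟩, hcs, rfl⟩
          exact mem_inf.mpr ⟨(mem_inf.mp hc).1, Sylow.smul_eq_iff_mem_normalizer.mp hcs⟩
        · intro hg
          obtain ⟨hgN, hgQ⟩ := mem_inf.mp hg
          have hgC : g ∈ C := mem_inf.mpr ⟨hgN, mem_centralizer_iff.mpr fun x hx => ?_⟩
          · exact ⟨⟨g, hgC⟩, Sylow.smul_eq_iff_mem_normalizer.mpr hgQ, rfl⟩
          have h1 := hNQ Q (g * x * g⁻¹ * x⁻¹) (mul_mem ((mem_normalizer_iff.mp hgQ x).mp (hHQ hx)) (inv_mem (hHQ hx))) (by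
            rw [show g * x * g⁻¹ * x⁻¹ = g * (x * g⁻¹ * x⁻¹) by group]
            exact mul_mem hgN ((inferInstance : N.Normal).conj_mem _ (inv_mem hgN) x))
          rw [mul_inv_eq_one, mul_inv_eq_iff_eq_mul] at h1
          exact h1.symm
      rw [← e2, card_map_of_injective C.subtype_injective, ← Nat.card_eq_finsetCard S,
        show Nat.card ↥S = Nat.card (MulAction.orbit C Q) by rw [e1]; rfl,
        show Nat.card (MulAction.orbit C Q) = (MulAction.orbit C Q).ncard from Nat.card_coe_set_eq _,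
        ← MulAction.index_stabilizer]
      exact index_mul_card _
    have hne : 0 < S.card := Finset.card_pos.mpr ⟨Q₀, Finset.mem_filter.mpr ⟨Finset.mem_univ _, hHQ₀, hQ₀R⟩⟩
    refine Nat.eq_of_mul_eq_mul_left hne ?_
    rw [Finset.mul_sum, Finset.sum_congr rfl (g := fun _ => Nat.card C * Nat.card ↥(normalizer ((R : Subgroup G') : Set G')))
      (fun Q hQ => by rw [hnorm Q, (Finset.mem_filter.mp hQ).2.2, ← mul_assoc, horb Q hQ]),
      Finset.sum_const, smul_eq_mul]
  obtain ⟨P⟩ : Nonempty (Sylow p G) := inferInstance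
  have hsum : ∀ {A : Type u} [Group A] [Finite A] (X : Subgroup A) (P₀ : Sylow p A) [Fintype (Sylow p A)],
      Nat.card {Q : Sylow p A // X ≤ (Q : Subgroup A)} * Nat.card ↥(normalizer ((P₀ : Subgroup A) : Set A)) =
      ∑ Q ∈ Finset.univ.filter (fun Q : Sylow p A => X ≤ (Q : Subgroup A)),
        Nat.card ↥(normalizer ((Q : Subgroup A) : Set A)) := by
    intro A _ _ X P₀ _
    rw [Nat.card_eq_fintype_card, Fintype.card_subtype, ← smul_eq_mul, ← Finset.sum_const]
    refine Finset.sum_congr rfl fun Q _ => ?_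
    obtain ⟨g, rfl⟩ := MulAction.exists_smul_eq A P₀ Q
    rw [Sylow.coe_subgroup_smul]
    show _ = Nat.card ↥(normalizer (((P₀ : Subgroup A).map (MulAut.conj g).toMonoidHom : Subgroup A) : Set A))
    rw [← map_equiv_normalizer_eq _ (MulAut.conj g), card_map_of_injective (MulEquiv.injective _)]
  rw [card_good hH P, card_good (hH.map f) (P.mapSurjective hf), hsum H P,
    ← Finset.sum_fiberwise_of_maps_to (t := Finset.univ.filter (fun R : Sylow p G' => H.map f ≤ (R : Subgroup G')))
      (g := fun Q : Sylow p G => Q.mapSurjective hf) (fun Q hQ => Finset.mem_filter.mpr ⟨Finset.mem_univ _,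
        map_mono (Finset.mem_filter.mp hQ).2⟩)]
  simp only [Finset.filter_filter]
  rw [Finset.sum_congr rfl fun R hR => hfib R (Finset.mem_filter.mp hR).2, ← Finset.mul_sum]
  congr 1
  rw [Nat.card_eq_fintype_card (α := {Q : Sylow p G' // _}), Fintype.card_subtype, ← smul_eq_mul, ← Finset.sum_const]
  refine Finset.sum_congr rfl fun Q _ => ?_
  obtain ⟨g, rfl⟩ := MulAction.exists_smul_eq G' (P.mapSurjective hf) Q
  rw [Sylow.coe_subgroup_smul]
  show Nat.card ↥(normalizer ((((P.mapSurjective hf : Sylow p G') : Subgroup G').map (MulAut.conj g).toMonoidHom : Subgroup G') : Set G')) = _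
  rw [← map_equiv_normalizer_eq _ (MulAut.conj g), card_map_of_injective (MulEquiv.injective _)]

end Cfsg.Lib.SubnormalizerCount
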