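import Cfsg.Agent.S3867
import Cfsg.Agent.Lib.Coprime.Action
import Cfsg.Agent.Lib.Local.Sylow

/-!
Sylow numbers: the product formula over a normal subgroup and the factors of the Sylow number.
-/

set_option autoImplicit false
set_option linter.style.haveILetI false

namespace Cfsg.Lib.Fusion.SylowCount

open Subgroup

variable {G : Type*} [Group G] [Finite G] {p : ℕ} [hp : Fact p.Prime]

omit [Finite G] in
theorem card_sylow_equiv {H : Type*} [Group H] [Finite G] [Finite H] (e : G ≃* H) :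
    Nat.card (Sylow p G) = Nat.card (Sylow p H) :=
  le_antisymm
    (Nat.card_le_card_of_surjective _
      (Sylow.mapSurjective_surjective (f := e.symm.toMonoidHom) e.symm.surjective p))
    (Nat.card_le_card_of_surjective _
      (Sylow.mapSurjective_surjective (f := e.toMonoidHom) e.surjective p))

theorem relIndex_sup_of_normal (H K : Subgroup G) [K.Normal] :
    H.relIndex (H ⊔ K) = H.relIndex K := by
  have h2 := Cfsg.Agent.S3867.card_sup_mul H K
  have h3 : Nat.card H * H.relIndex (H ⊔ K) = Nat.card ↥(H ⊔ K) :=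
    Cfsg.Lib.Core.card_mul_relIndex le_sup_left
  have h4 : Nat.card ↥(H ⊓ K) * (H ⊓ K).relIndex K = Nat.card K :=
    Cfsg.Lib.Core.card_mul_relIndex inf_le_right
  rw [inf_relIndex_right] at h4
  refine Nat.eq_of_mul_eq_mul_left (Nat.mul_pos (Nat.card_pos (α := ↥(H ⊓ K))) (Nat.card_pos (α := H))) ?_
  calc Nat.card ↥(H ⊓ K) * Nat.card H * H.relIndex (H ⊔ K)
      = Nat.card ↥(H ⊔ K) * Nat.card ↥(H ⊓ K) := by rw [← h3]; ring
    _ = Nat.card ↥(H ⊓ K) * Nat.card H * H.relIndex K := by rw [h2, ← h4]; ring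

theorem index_eq_relIndex_of_sup_eq_top {H K : Subgroup G} [K.Normal] (h : H ⊔ K = ⊤) :
    H.index = H.relIndex K := by
  rw [← relIndex_sup_of_normal H K, h, relIndex_top_right]

/-- In a group `P ⊔ K` with `K` a normal `p'`-subgroup, `n_p = |K : C_K(P)|`. -/
theorem card_sylow_eq_relIndex (P : Sylow p G) (K : Subgroup G) [K.Normal]
    (htop : (P : Subgroup G) ⊔ K = ⊤) (hd : (P : Subgroup G) ⊓ K = ⊥) :
    Nat.card (Sylow p G) = (K ⊓ centralizer ((P : Subgroup G) : Set G)).relIndex K := by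
  set N := normalizer ((P : Subgroup G) : Set G) with hN
  rw [P.card_eq_index_normalizer, inf_relIndex_left]
  show N.index = _
  rw [index_eq_relIndex_of_sup_eq_top (K := K)
    (top_le_iff.1 (htop.ge.trans (sup_le_sup_right le_normalizer K)))]
  rw [← inf_relIndex_right N K, ← inf_relIndex_right (centralizer ((P : Subgroup G) : Set G)) K]
  congr 1
  refine le_antisymm (fun x hx => ⟨mem_centralizer_iff.2 fun y hy => ?_, hx.2⟩) fun x hx =>
    ⟨centralizer_le_normalizer _ hx.1, hx.2⟩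
  have h1 : x * y * x⁻¹ * y⁻¹ ∈ (P : Subgroup G) ⊓ K := by
    refine ⟨(P : Subgroup G).mul_mem ((mem_normalizer_iff.1 hx.1 y).1 hy)
      ((P : Subgroup G).inv_mem hy), ?_⟩
    have := K.mul_mem hx.2 (‹K.Normal›.conj_mem _ (K.inv_mem hx.2) y)
    show x * y * x⁻¹ * y⁻¹ ∈ K
    simpa [mul_assoc] using this
  rw [hd, mem_bot] at h1
  calc y * x = (x * y * x⁻¹ * y⁻¹) * (y * x) := by rw [h1, one_mul]
    _ = x * y := by group

/-- The prime parts of `|K : C_K(A)|` are congruent to `1` modulo `p`. -/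
theorem ordProj_modEq {A K : Subgroup G} (hA : IsPGroup p A) (hAK : A ≤ normalizer (K : Set G))
    (hcop : (Nat.card A).Coprime (Nat.card K)) (hpK : ¬ p ∣ Nat.card K) (q : ℕ) [hq : Fact q.Prime] :
    q ^ ((K ⊓ centralizer (A : Set G)).relIndex K).factorization q ≡ 1 [MOD p] := by
  classical
  set C := K ⊓ centralizer (A : Set G) with hC
  have hsol : Group.IsSolvable A ∨ Group.IsSolvable K :=
    Or.inl (by haveI := hA.isNilpotent; infer_instance)
  obtain ⟨U0⟩ : Nonempty (Sylow q C) := inferInstance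
  set U := (U0 : Subgroup C).map C.subtype with hU
  have hUC : U ≤ C := map_subtype_le _
  have hAU : A ≤ normalizer (U : Set G) :=
    (le_centralizer_iff.1 (hUC.trans inf_le_right)).trans (centralizer_le_normalizer _)
  obtain ⟨Q0, hUQ, hAQ⟩ := Cfsg.Lib.Coprime.exists_invariant_sylow_ge hAK hcop hsol
    (hUC.trans inf_le_left) (U0.2.map _) hAU
  set Q := (Q0 : Subgroup K).map K.subtype with hQ
  have hQK : Q ≤ K := map_subtype_le _
  have hQC : Q ⊓ centralizer (A : Set G) = U := by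
    refine le_antisymm ?_ (le_inf hUQ (hUC.trans inf_le_right))
    intro x hx
    have hxC : x ∈ C := ⟨hQK hx.1, hx.2⟩
    have hp' : IsPGroup q ((Q ⊓ centralizer (A : Set G)).subgroupOf C) :=
      ((Q0.2.map K.subtype).to_le inf_le_left).comap_subtype
    have hle : (U0 : Subgroup C) ≤ (Q ⊓ centralizer (A : Set G)).subgroupOf C := fun y hy =>
      ⟨hUQ (mem_map_of_mem _ hy), y.2.2⟩
    have heq := U0.is_maximal' hp' hle
    exact ⟨⟨x, hxC⟩, heq ▸ (show (⟨x, hxC⟩ : C) ∈ (Q ⊓ centralizer (A : Set G)).subgroupOf C from hx),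
      rfl⟩
  have hcU : Nat.card U = q ^ (Nat.card C).factorization q := by
    rw [hU, Cfsg.Lib.Core.card_map_subtype, U0.card_eq_multiplicity]
  have hcQ : Nat.card Q = q ^ (Nat.card K).factorization q := by
    rw [hQ, Cfsg.Lib.Core.card_map_subtype, Q0.card_eq_multiplicity]
  have hmul : Nat.card C * C.relIndex K = Nat.card K := Cfsg.Lib.Core.card_mul_relIndex inf_le_left
  have hne : C.relIndex K ≠ 0 := fun h => Nat.card_pos.ne' (by rw [← hmul, h, mul_zero])
  have hfac : Nat.card Q = Nat.card U * q ^ (C.relIndex K).factorization q := by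
    rw [hcQ, hcU, ← pow_add, ← hmul, Nat.factorization_mul Nat.card_pos.ne' hne, Finsupp.add_apply]
  letI act : MulAction A Q :=
    { smul := fun a x => ⟨(a : G) * x * (a : G)⁻¹, (mem_normalizer_iff.1 (hAQ a.2) x).1 x.2⟩
      one_smul := fun x => Subtype.ext (show ((1 : A) : G) * x * ((1 : A) : G)⁻¹ = x by simp)
      mul_smul := fun a b x => Subtype.ext (show ((a * b : A) : G) * x * ((a * b : A) : G)⁻¹ =
        (a : G) * ((b : G) * x * (b : G)⁻¹) * (a : G)⁻¹ by rw [Subgroup.coe_mul]; group) }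
  have hmod := hA.card_modEq_card_fixedPoints Q
  have hfix : Nat.card (MulAction.fixedPoints A Q) = Nat.card U := by
    rw [← hQC]
    refine Nat.card_congr
      { toFun := fun x => ⟨(x.1 : G), x.1.2, mem_centralizer_iff.2 fun a ha => ?_⟩
        invFun := fun x => ⟨⟨(x : G), x.2.1⟩, fun a => Subtype.ext ?_⟩
        left_inv := fun x => rfl
        right_inv := fun x => rfl }
    · have h : a * (x.1 : G) * a⁻¹ = x.1 := congrArg Subtype.val (x.2 ⟨a, ha⟩)
      calc a * (x.1 : G) = a * (x.1 : G) * a⁻¹ * a := by group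
        _ = x.1 * a := by rw [h]
    · show (a : G) * x * (a : G)⁻¹ = x
      rw [mem_centralizer_iff.1 x.2.2 a a.2]
      group
  rw [hfix, hfac] at hmod
  have hUp : Nat.gcd p (Nat.card U) = 1 :=
    (Nat.Prime.coprime_iff_not_dvd hp.out).2 fun h =>
      hpK (h.trans (card_dvd_of_le (hUC.trans inf_le_left)))
  exact Nat.ModEq.cancel_left_of_coprime hUp (by rwa [mul_one])

/-- The product formula over a normal subgroup. -/
theorem card_sylow_mul (P : Sylow p G) (K : Subgroup G) [K.Normal] (N : Subgroup G)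
    (hN : N = ((P : Subgroup G) ⊔ K) ⊓ normalizer (((P : Subgroup G) ⊓ K : Subgroup G) : Set G))
    [hn : (((P : Subgroup G) ⊓ K).subgroupOf N).Normal] :
    Nat.card (Sylow p G) =
      Nat.card (Sylow p (G ⧸ K)) * Nat.card (Sylow p K) *
        Nat.card (Sylow p (N ⧸ ((P : Subgroup G) ⊓ K).subgroupOf N)) := by
  set NP := normalizer ((P : Subgroup G) : Set G) with hNP
  set D := (P : Subgroup G) ⊓ K with hD
  set ND := normalizer (D : Set G) with hND
  have hle : NP ≤ ND :=
    (le_inf le_rfl (le_top.trans (normalizer_eq_top_iff.2 ‹K.Normal›).ge)).trans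
      inf_normalizer_le_normalizer_inf
  have hPN : (P : Subgroup G) ≤ N := hN ▸ le_inf le_sup_left (le_normalizer.trans hle)
  -- the Sylow number of `K`
  obtain ⟨S, hS⟩ := Cfsg.Lib.Local.exists_sylow_inf P K
  have hK : Nat.card (Sylow p K) = ND.relIndex K := by
    rw [S.card_eq_index_normalizer]
    show (normalizer ((S : Subgroup K) : Set K)).index = _
    rw [hS, ← inf_subgroupOf_right, ← subgroupOf_normalizer_eq inf_le_right]
    rfl
  -- the Sylow number of `N / D`
  have hM : K.subgroupOf N ⊔ normalizer (((P : Subgroup G).subgroupOf N) : Set N) = ⊤ := by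
    refine eq_top_iff.2 fun x _ => ?_
    have hx : (x : G) ∈ (P : Subgroup G) ⊔ K :=
      (hN.le.trans inf_le_left) x.2
    obtain ⟨a, ha, b, hb, hab⟩ := mem_sup_of_normal_right.1 hx
    have hbN : b ∈ N := by
      have := N.mul_mem (N.inv_mem (hPN ha)) x.2
      rwa [← hab, inv_mul_cancel_left] at this
    rw [sup_comm, show x = (⟨a, hPN ha⟩ : N) * ⟨b, hbN⟩ from Subtype.ext hab.symm]
    exact mul_mem_sup (le_normalizer (show (⟨a, hPN ha⟩ : N) ∈ (P : Subgroup G).subgroupOf N from ha))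
      hb
  have hQ : Nat.card (Sylow p (N ⧸ D.subgroupOf N)) = (NP.subgroupOf N).index := by
    have hS2 : IsPGroup p ((P : Subgroup G).subgroupOf N) := P.2.comap_subtype
    rw [Cfsg.Agent.S3867.card_quot (P.subtype hPN) (D.subgroupOf N), P.coe_subtype,
      sup_eq_left.2, ← subgroupOf_normalizer_eq hPN]
    intro x hx
    exact le_normalizer (show x ∈ (P : Subgroup G).subgroupOf N from hx.1)
  have hQ' : (NP.subgroupOf N).index = (NP.subgroupOf N).relIndex (K.subgroupOf N) :=
    index_eq_relIndex_of_sup_eq_top (by rw [subgroupOf_normalizer_eq hPN, sup_comm]; exact hM)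
  have hNK : K ⊓ N = ND ⊓ K := by
    rw [hN, ← inf_assoc, inf_eq_left.2 (le_sup_right : K ≤ (P : Subgroup G) ⊔ K), inf_comm]
  have hQ'' : (NP.subgroupOf N).relIndex (K.subgroupOf N) = NP.relIndex (ND ⊓ K) := by
    rw [← hNK, ← inf_subgroupOf_right K N, relIndex_subgroupOf inf_le_right]
  rw [P.card_eq_index_normalizer, Cfsg.Agent.S3867.card_quot P K, hK, hQ, hQ', hQ'']
  show NP.index = _
  rw [← hNP,
    ← relIndex_mul_index (le_sup_left : NP ≤ NP ⊔ K), relIndex_sup_of_normal,
    ← inf_relIndex_right NP K, ← inf_relIndex_right ND K,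
    ← relIndex_mul_relIndex (NP ⊓ K) (ND ⊓ K) K (inf_le_inf_right K hle) inf_le_right]
  have h5 : (NP ⊓ K).relIndex (ND ⊓ K) = NP.relIndex (ND ⊓ K) := by
    rw [← inf_relIndex_right NP (ND ⊓ K), ← inf_assoc,
      inf_eq_left.2 hle]
  rw [h5]
  ring

/-- Induction over the product formula. -/
theorem sylow_number_induction {Q : ℕ → Prop} (h1 : Q 1) (hmul : ∀ a b, Q a → Q b → Q (a * b))
    (hcop : ∀ n : ℕ, n ≠ 0 → (∀ q : ℕ, q.Prime → q ^ n.factorization q ≡ 1 [MOD p]) → Q n)
    {X : Type*} [Group X] [Finite X]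
    (hsimple : ∀ (H : Subgroup X) (N : Subgroup H) [N.Normal],
      IsSimpleGroup (H ⧸ N) → Q (Nat.card (Sylow p (H ⧸ N)))) :
    ∀ (n : ℕ) (H : Subgroup X) (N : Subgroup H) [N.Normal],
      Nat.card (H ⧸ N) = n → Q (Nat.card (Sylow p (H ⧸ N))) := by
  intro n
  induction n using Nat.strong_induction_on with
  | _ n ih =>
  intro H N _ hn
  subst hn
  set Y := ↥H ⧸ N
  by_cases htriv : Subsingleton Y
  · obtain ⟨S⟩ : Nonempty (Sylow p Y) := inferInstance
    have : Nat.card (Sylow p Y) = 1 := by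
      rw [S.card_eq_index_normalizer, index_eq_one]
      exact Subsingleton.elim _ _
    exact this ▸ h1
  haveI : Nontrivial Y := not_subsingleton_iff_nontrivial.1 htriv
  by_cases hs : IsSimpleGroup Y
  · exact hsimple H N hs
  obtain ⟨K, hKn, hKb, hKt⟩ : ∃ K : Subgroup Y, K.Normal ∧ K ≠ ⊥ ∧ K ≠ ⊤ := by
    by_contra hcon
    push Not at hcon
    exact hs ⟨fun K hK => (em (K = ⊥)).imp_right (hcon K hK)⟩
  obtain ⟨P⟩ : Nonempty (Sylow p Y) := inferInstance
  set D := (P : Subgroup Y) ⊓ K with hD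
  set M := ((P : Subgroup Y) ⊔ K) ⊓ normalizer (D : Set Y) with hM
  haveI : (D.subgroupOf M).Normal :=
    (normal_subgroupOf_iff_le_normalizer
      (le_inf (inf_le_left.trans le_sup_left) le_normalizer)).2 inf_le_right
  -- sections of `Y` are sections of `X`
  have sect : ∀ (U : Subgroup Y) (V : Subgroup U) [V.Normal], Nat.card (U ⧸ V) < Nat.card Y →
      Q (Nat.card (Sylow p (U ⧸ V))) := by
    intro U V hV hlt
    set H' : Subgroup X := (U.comap (QuotientGroup.mk' N)).map H.subtype with hH'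
    have hle : H' ≤ H := map_subtype_le _
    let ψ : H' →* U := ((QuotientGroup.mk' N).comp (inclusion hle)).codRestrict U fun z => by
      obtain ⟨w, hw, hwz⟩ := z.2
      have : inclusion hle z = w := Subtype.ext hwz.symm
      show QuotientGroup.mk' N (inclusion hle z) ∈ U
      rw [this]; exact hw
    have hψ : Function.Surjective ψ := fun u => by
      obtain ⟨w, hw⟩ := QuotientGroup.mk'_surjective N (u : Y)
      exact ⟨⟨w, w, show QuotientGroup.mk' N w ∈ U by rw [hw]; exact u.2, rfl⟩, Subtype.ext hw⟩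
    let χ : H' →* U ⧸ V := (QuotientGroup.mk' V).comp ψ
    have hχ : Function.Surjective χ := (QuotientGroup.mk'_surjective V).comp hψ
    let e := QuotientGroup.quotientKerEquivOfSurjective χ hχ
    have h := ih _ (hlt.trans_le' (Nat.card_congr e.toEquiv).le) H' χ.ker rfl
    have hsy : Nat.card (Sylow p (H' ⧸ χ.ker)) = Nat.card (Sylow p (U ⧸ V)) := by
      exact card_sylow_equiv e
    exact hsy ▸ h
  rw [card_sylow_mul P K M rfl]
  refine hmul _ _ (hmul _ _ ?_ ?_) ?_
  · have h := sect ⊤ (K.subgroupOf ⊤)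
    have e : (⊤ : Subgroup Y) ⧸ K.subgroupOf ⊤ ≃* Y ⧸ K :=
      QuotientGroup.congr _ K Subgroup.topEquiv (by
        ext x
        exact ⟨fun ⟨y, hy, h⟩ => h ▸ hy, fun hx => ⟨⟨x, mem_top x⟩, hx, rfl⟩⟩)
    have hsy : Nat.card (Sylow p ((⊤ : Subgroup Y) ⧸ K.subgroupOf ⊤)) = Nat.card (Sylow p (Y ⧸ K)) := card_sylow_equiv e
    exact hsy ▸ h (Nat.card_congr e.toEquiv ▸ Cfsg.Lib.Core.card_quotient_lt hKb)
  · have h := sect K ⊥
    let e : K ⧸ (⊥ : Subgroup K) ≃* K := QuotientGroup.quotientBot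
    have hsy : Nat.card (Sylow p (K ⧸ (⊥ : Subgroup K))) = Nat.card (Sylow p K) := card_sylow_equiv e
    exact hsy ▸ h (Nat.card_congr e.toEquiv ▸ Cfsg.Lib.Core.lt_card_of_ne_top hKt)
  · by_cases hlt : Nat.card (M ⧸ D.subgroupOf M) < Nat.card Y
    · exact sect M (D.subgroupOf M) hlt
    -- `Y = P K` with `K` a `p'`-group
    have hle1 : Nat.card (M ⧸ D.subgroupOf M) ≤ Nat.card M := card_quotient_dvd_card _ |> Nat.le_of_dvd Nat.card_pos
    have hMt : M = ⊤ := by
      by_contra h
      exact hlt (hle1.trans_lt (Cfsg.Lib.Core.lt_card_of_ne_top h))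
    have hDb : D = ⊥ := by
      by_contra h
      refine hlt ((Cfsg.Lib.Core.card_quotient_lt (N := D.subgroupOf M) fun h0 => h ?_).trans_le
        (Nat.card_le_card_of_injective _ M.subtype_injective))
      rw [eq_bot_iff]
      intro x hx
      have : (⟨x, hMt ▸ mem_top x⟩ : M) ∈ D.subgroupOf M := hx
      rw [h0, mem_bot] at this
      exact congrArg Subtype.val this
    have htop : (P : Subgroup Y) ⊔ K = ⊤ := top_le_iff.1 (hMt.ge.trans inf_le_left)
    have hpK : ¬ p ∣ Nat.card K := by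
      intro hd
      obtain ⟨S, hS⟩ := Cfsg.Lib.Local.exists_sylow_inf P K
      refine S.ne_bot_of_dvd_card hd ?_
      rw [hS, subgroupOf_eq_bot, disjoint_iff]
      exact hDb
    have hsylow : Nat.card (Sylow p (M ⧸ D.subgroupOf M)) = Nat.card (Sylow p Y) := by
      let e : M ⧸ D.subgroupOf M ≃* Y :=
        MulEquiv.ofBijective (QuotientGroup.lift _ M.subtype fun x hx => by
          have : (x : Y) ∈ D := hx
          rwa [hDb, mem_bot] at this) ⟨by
            rw [← MonoidHom.ker_eq_bot_iff, eq_bot_iff]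
            intro q hq
            obtain ⟨x, rfl⟩ := QuotientGroup.mk_surjective q
            exact mem_bot.2 ((QuotientGroup.eq_one_iff x).2
              (show (x : Y) ∈ D by rw [show (x : Y) = 1 from hq]; exact one_mem D)),
            fun y => ⟨QuotientGroup.mk ⟨y, hMt ▸ mem_top y⟩, rfl⟩⟩
      exact card_sylow_equiv e
    rw [hsylow]
    refine hcop _ Nat.card_pos.ne' fun q hq => ?_
    haveI : Fact q.Prime := ⟨hq⟩
    rw [card_sylow_eq_relIndex P K htop hDb]
    refine ordProj_modEq P.2 (le_top.trans (normalizer_eq_top_iff.2 hKn).ge) ?_ hpK q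
    obtain ⟨k, hk⟩ := IsPGroup.iff_card.1 P.2
    rw [hk]
    exact Nat.Coprime.pow_left k ((Nat.Prime.coprime_iff_not_dvd hp.out).2 hpK)

/-- The form of the induction for a group itself. -/
theorem sylow_number_induction_self {Q : ℕ → Prop} (h1 : Q 1) (hmul : ∀ a b, Q a → Q b → Q (a * b))
    (hcop : ∀ n : ℕ, n ≠ 0 → (∀ q : ℕ, q.Prime → q ^ n.factorization q ≡ 1 [MOD p]) → Q n)
    (hsimple : ∀ (H : Subgroup G) (N : Subgroup H) [N.Normal],
      IsSimpleGroup (H ⧸ N) → Q (Nat.card (Sylow p (H ⧸ N)))) :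
    Q (Nat.card (Sylow p G)) := by
  have h := sylow_number_induction h1 hmul hcop hsimple _ (⊤ : Subgroup G) ⊥ rfl
  let e : (⊤ : Subgroup G) ⧸ (⊥ : Subgroup (⊤ : Subgroup G)) ≃* G :=
    QuotientGroup.quotientBot.trans Subgroup.topEquiv
  have hsy : Nat.card (Sylow p ((⊤ : Subgroup G) ⧸ (⊥ : Subgroup (⊤ : Subgroup G)))) =
      Nat.card (Sylow p G) := card_sylow_equiv e
  exact hsy ▸ h

end Cfsg.Lib.Fusion.SylowCount
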