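import Cfsg.Agent.Lib.Small.SylowCount
import Cfsg.Agent.Lib.Fusion.SylowCount
import Cfsg.Agent.Lib.Core.PSolvable
import Cfsg.Agent.Lib.Dickson.Overgroups
import Cfsg.Agent.Lib.Local.AutomizerQ.Reduce
import Cfsg.Agent.Lib.FusionSys.TerminatingSeries
import Cfsg.Agent.S3933
import Cfsg.Agent.S4343
import Cfsg.Agent.S4700

/-!
# Fewer than `p ^ 2` Sylow `p`-subgroups

For a simple group with `1 + r p < p ^ 2` Sylow `p`-subgroups Brauer's parameters force `h = 1`, so
with `w = u + 1` and `p = w e + 1` the Sylow number is `((w - 1) e + 1) (p + w)`, which is never a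
prime power.
-/

set_option autoImplicit false
set_option linter.style.haveILetI false

namespace Cfsg.Lib.Fusion.SylowNumberSquare

open Cfsg

universe u

theorem param_arith {p r h u : ℕ} (hr : r < p) (hh : 0 < h) (hu : 0 < u)
    (he : r * (u + 1) = h * u * p + u ^ 2 + u + h) :
    ∃ w e : ℕ, 2 ≤ w ∧ w ≤ e ∧ p = w * e + 1 ∧ 1 + r * p = ((w - 1) * e + 1) * (p + w) := by
  obtain ⟨v, rfl⟩ : ∃ v, h = v + 1 := ⟨h - 1, by omega⟩
  have hv : v = 0 := by
    by_contra hv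
    nlinarith [Nat.mul_le_mul (Nat.pos_of_ne_zero hv) (Nat.mul_le_mul hu (le_refl p))]
  subst hv
  obtain ⟨e, hre⟩ : ∃ e, r + e = p + u := ⟨p + u - r, by omega⟩
  have h1 : (u + 1) * e + 1 = p := by nlinarith
  refine ⟨u + 1, e, by omega, ?_, h1.symm, ?_⟩
  · by_contra hlt
    have he1 : e ≤ u := by omega
    have := Nat.mul_le_mul (le_refl (u + 1)) he1
    nlinarith
  · rw [Nat.add_sub_cancel]
    zify at hre h1 ⊢
    have hr' : (r : ℤ) = p + u - e := by linarith
    rw [hr', ← h1]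
    ring

theorem param_not_pow {w e p q k : ℕ} (hw : 2 ≤ w) (hwe : w ≤ e) (hp : p = w * e + 1) (hq : q.Prime)
    (h : q ^ k = ((w - 1) * e + 1) * (p + w)) : False := by
  obtain ⟨v, rfl⟩ : ∃ v, w = v + 2 := ⟨w - 2, by omega⟩
  rw [show v + 2 - 1 = v + 1 from rfl] at h
  have hA1 : 1 < (v + 1) * e + 1 := by nlinarith
  have hAB : (v + 1) * e + 1 < p + (v + 2) := by rw [hp]; nlinarith
  obtain ⟨i, -, hi⟩ := (Nat.dvd_prime_pow hq).1 (h ▸ dvd_mul_right _ _ : (v + 1) * e + 1 ∣ q ^ k)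
  obtain ⟨j, -, hj⟩ := (Nat.dvd_prime_pow hq).1 (h ▸ dvd_mul_left _ _ : p + (v + 2) ∣ q ^ k)
  have hij : i < j := (Nat.pow_lt_pow_iff_right hq.one_lt).1 (hi ▸ hj ▸ hAB)
  obtain ⟨d, hd⟩ : ∃ d, j = i + 1 + d := ⟨j - (i + 1), by omega⟩
  set c := q ^ (1 + d) with hc
  have hB : p + (v + 2) = ((v + 1) * e + 1) * c := by rw [hj, hi, hc, hd, ← pow_add, add_assoc]
  have hc2 : 2 ≤ c := hq.two_le.trans (Nat.le_self_pow (by omega) q)
  have hle : ((v + 1) * e + 1) * 2 ≤ p + (v + 2) := hB ▸ Nat.mul_le_mul_left _ hc2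
  rcases Nat.eq_zero_or_pos v with rfl | hv
  · rcases lt_or_eq_of_le hc2 with h3 | h3
    · have h4 := Nat.mul_le_mul_left (e + 1) (show 3 ≤ c by omega)
      simp only [zero_add, one_mul] at hB
      nlinarith
    · rw [← h3] at hB
      simp only [zero_add, one_mul] at hB
      omega
  · nlinarith [Nat.mul_le_mul hv hwe]

theorem mersenne_of_add_one {p q k : ℕ} (hp : p.Prime) (h3 : 3 < p) (hq : q.Prime)
    (h : p + 1 = q ^ k) : ∃ k : ℕ, p + 1 = 2 ^ k := by
  have hodd := hp.eq_two_or_odd.resolve_left (by omega)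
  have hk : k ≠ 0 := by rintro rfl; rw [pow_zero] at h; omega
  have h2 : 2 ∣ q ^ k := h ▸ ⟨(p + 1) / 2, by omega⟩
  obtain rfl : (2 : ℕ) = q := (Nat.prime_dvd_prime_iff_eq Nat.prime_two hq).1
    (Nat.prime_two.dvd_of_dvd_pow h2)
  exact ⟨k, h⟩

/-- A prime power divisor of `d * (d + 1)` is at most `d + 1`. -/
theorem le_of_dvd_succ_mul {d q k : ℕ} (hd : 0 < d) (hq : q.Prime) (h : q ^ k ∣ d * (d + 1)) :
    q ^ k ≤ d + 1 := by
  by_cases hqd : q ∣ d
  · have hnq : ¬ q ∣ d + 1 := fun h1 => hq.not_dvd_one ((Nat.dvd_add_right hqd).1 h1)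
    exact (Nat.le_of_dvd hd ((Nat.Coprime.pow_left k (hq.coprime_iff_not_dvd.2 hnq)).dvd_of_dvd_mul_right h)).trans (Nat.le_succ d)
  · exact Nat.le_of_dvd (Nat.succ_pos d) ((Nat.Coprime.pow_left k (hq.coprime_iff_not_dvd.2 hqd)).dvd_of_dvd_mul_left h)

theorem eq_of_dvd_sq_sub_one {p q k : ℕ} (hp : p.Prime) (h3 : 3 < p) (hq : q.Prime)
    (hlt : p < q ^ k) (h : 2 * q ^ k ∣ (p + 1) * (p - 1)) : q ^ k = p + 1 := by
  obtain ⟨d, hd⟩ : ∃ d, p = 2 * d + 1 := ⟨p / 2, by
    have := hp.eq_two_or_odd.resolve_left (by omega); omega⟩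
  have h1 : q ^ k ∣ 2 * (d * (d + 1)) := by
    have h2 : (p + 1) * (p - 1) = 2 * (2 * (d * (d + 1))) := by
      rw [hd, Nat.add_sub_cancel]; ring
    rw [h2] at h
    exact Nat.dvd_of_mul_dvd_mul_left (by omega) h
  have hk : k ≠ 0 := by rintro rfl; rw [pow_zero] at hlt; omega
  obtain ⟨l, rfl⟩ : ∃ l, k = l + 1 := ⟨k - 1, by omega⟩
  rcases eq_or_ne q 2 with rfl | hq2
  · have h4 : 2 ^ l ∣ d * (d + 1) := by
      rw [pow_succ'] at h1
      exact Nat.dvd_of_mul_dvd_mul_left (by omega) h1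
    have h5 := le_of_dvd_succ_mul (by omega) Nat.prime_two h4
    rw [pow_succ'] at hlt ⊢
    omega
  · have h4 : q ^ (l + 1) ∣ d * (d + 1) :=
      (Nat.Coprime.pow_left _ ((Nat.coprime_primes hq Nat.prime_two).2 hq2)).dvd_of_dvd_mul_left h1
    have := le_of_dvd_succ_mul (by omega) hq h4
    omega

theorem card_sylow_mul_dvd {S : Type*} [Group S] [Finite S] {p : ℕ} [Fact p.Prime] (P : Sylow p S) :
    Nat.card P * Nat.card (Sylow p S) ∣ Nat.card S := by
  rw [← (P : Subgroup S).card_mul_index]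
  exact Nat.mul_dvd_mul_left _ P.card_dvd_index

theorem lt_card_sylow {S : Type*} [Group S] [Finite S] [IsSimpleGroup S] (hS : ¬ IsMulCommutative S)
    {p : ℕ} [Fact p.Prime] (hp : p ∣ Nat.card S) : p < Nat.card (Sylow p S) := by
  have hpp : p.Prime := Fact.out
  have hmod := card_sylow_modEq_one p S
  have hdm := Nat.div_add_mod (Nat.card (Sylow p S)) p
  rw [hmod, Nat.mod_eq_of_lt hpp.one_lt] at hdm
  rcases Nat.eq_zero_or_pos (Nat.card (Sylow p S) / p) with h0 | h0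
  · exfalso
    rw [h0, mul_zero, zero_add] at hdm
    have : Subsingleton (Sylow p S) := (Nat.card_eq_one_iff_unique.1 hdm.symm).1
    obtain ⟨P⟩ : Nonempty (Sylow p S) := inferInstance
    rcases (Sylow.normal_of_subsingleton P).eq_bot_or_eq_top with hb | hb
    · exact Sylow.ne_bot_of_dvd_card P hp hb
    · have h2 : IsPGroup p S := by
        have := P.2
        rw [hb] at this
        exact this.of_equiv Subgroup.topEquiv
      have := h2.isNilpotent
      exact hS ⟨⟨IsSimpleGroup.comm_iff_isSolvable.2 inferInstance⟩⟩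
  · have := Nat.le_mul_of_pos_right p h0
    omega

/-- The known groups or the parameters, for fewer than `p ^ 2` Sylow `p`-subgroups. -/
theorem simple_cases {S : Type*} [Group S] [Finite S] [IsSimpleGroup S] (hS : ¬ IsMulCommutative S)
    {p : ℕ} [Fact p.Prime] (hp : p ∣ Nat.card S) (hn : Nat.card (Sylow p S) < p ^ 2) :
    (∃ (F : Type) (_ : Field F) (_ : Fintype F), Fintype.card F = p ∧ 3 < p ∧
      Nonempty (S ≃* Matrix.ProjectiveSpecialLinearGroup (Fin 2) F)) ∨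
    (∃ (m : ℕ) (F : Type) (_ : Field F) (_ : Fintype F), Fintype.card F = 2 ^ m ∧ p = 2 ^ m + 1 ∧
      3 < p ∧ Nonempty (S ≃* Matrix.SpecialLinearGroup (Fin 2) F)) ∨
    ∃ w e : ℕ, 2 ≤ w ∧ w ≤ e ∧ p = w * e + 1 ∧
      Nat.card (Sylow p S) = ((w - 1) * e + 1) * (p + w) := by
  have hpp : p.Prime := Fact.out
  obtain ⟨P⟩ : Nonempty (Sylow p S) := inferInstance
  have hP := Cfsg.Agent.S4343.result hS p hp hn P
  have hperf : commutator S = ⊤ :=
    (inferInstance : (commutator S).Normal).eq_bot_or_eq_top.resolve_left fun h =>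
      hS ⟨⟨fun a b => (Subgroup.commutator_eq_bot_iff_le_centralizer.1 h (Subgroup.mem_top b) a
        (Subgroup.mem_top a))⟩⟩
  have hdm := Nat.div_add_mod (Nat.card (Sylow p S)) p
  rw [card_sylow_modEq_one p S, Nat.mod_eq_of_lt hpp.one_lt] at hdm
  set r := Nat.card (Sylow p S) / p with hr
  have hn' : Nat.card (Sylow p S) = 1 + r * p := by rw [← hdm]; ring
  have hO : pPrimeCore p S = ⊥ := by
    refine (inferInstance : (pPrimeCore p S).Normal).eq_bot_or_eq_top.resolve_right fun h => ?_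
    have h2 := Cfsg.Lib.Core.pPrimeCore_coprime p S
    rw [h, Subgroup.card_top] at h2
    exact (hpp.coprime_iff_not_dvd.1 h2.symm) hp
  let E : S ⧸ pPrimeCore p S ≃* S := (QuotientGroup.quotientMulEquivOfEq hO).trans QuotientGroup.quotientBot
  rcases Cfsg.Agent.S4700.result hperf p P hP r hn' with
    ⟨F, iF, iFF, hF, h3, ⟨i⟩⟩ | ⟨m, F, iF, iFF, hF, hpm, h3, ⟨i⟩⟩ | ⟨h, u, hh, hu, he⟩
  · exact Or.inl ⟨F, iF, iFF, hF, h3, ⟨E.symm.trans i⟩⟩
  · exact Or.inr (Or.inl ⟨m, F, iF, iFF, hF, hpm, h3, ⟨E.symm.trans i⟩⟩)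
  · have hrp : r < p := by
      by_contra hle
      have := Nat.mul_le_mul_right p (not_lt.1 hle)
      rw [pow_two] at hn
      omega
    obtain ⟨w, e, h1, h2, h4, h5⟩ := param_arith hrp hh hu he
    exact Or.inr (Or.inr ⟨w, e, h1, h2, h4, hn'.trans h5⟩)

/-- A simple group whose Sylow number is a prime power below `p ^ 2` has a Mersenne prime `p`. -/
theorem mersenne_of_simple {S : Type*} [Group S] [Finite S] [IsSimpleGroup S]
    (hS : ¬ IsMulCommutative S) {p : ℕ} [Fact p.Prime] (hp : p ∣ Nat.card S)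
    (hn : Nat.card (Sylow p S) < p ^ 2) {q k : ℕ} (hq : q.Prime)
    (hnq : Nat.card (Sylow p S) = q ^ k) : 3 < p ∧ ∃ k : ℕ, p + 1 = 2 ^ k := by
  have hpp : p.Prime := Fact.out
  obtain ⟨P⟩ : Nonempty (Sylow p S) := inferInstance
  have hlt := lt_card_sylow hS hp
  have hdvd := card_sylow_mul_dvd P
  rw [Cfsg.Agent.S4343.result hS p hp hn P, hnq] at hdvd
  rw [hnq] at hlt
  rcases simple_cases hS hp hn with ⟨F, iF, iFF, hF, h3, ⟨i⟩⟩ | ⟨m, F, iF, iFF, hF, hpm, h3, ⟨i⟩⟩ |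
    ⟨w, e, h1, h2, h4, h5⟩
  · refine ⟨h3, mersenne_of_add_one hpp h3 hq (eq_of_dvd_sq_sub_one hpp h3 hq hlt ?_).symm⟩
    have hcard := Cfsg.Lib.Dickson.card_psl_mul (K := F)
      (hF ▸ hpp.eq_two_or_odd.resolve_left (by omega))
    rw [← Nat.card_congr i.toEquiv, hF] at hcard
    rw [show p ^ 2 - 1 = (p + 1) * (p - 1) by rw [← Nat.sq_sub_sq, one_pow]] at hcard
    have h6 := Nat.mul_dvd_mul_left 2 hdvd
    rw [hcard, mul_left_comm] at h6
    exact Nat.dvd_of_mul_dvd_mul_left hpp.pos h6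
  · exfalso
    rw [Nat.card_congr i.toEquiv, Cfsg.Lib.Linear.Two.card_SL_two, hF,
      show (2 ^ m) ^ 2 - 1 = (2 ^ m + 1) * (2 ^ m - 1) by rw [← Nat.sq_sub_sq, one_pow],
      ← hpm, mul_left_comm] at hdvd
    have hm1 : 2 ≤ 2 ^ m := by omega
    have hd : q ^ k ∣ (2 ^ m - 1) * (2 ^ m - 1 + 1) := by
      rw [show 2 ^ m - 1 + 1 = 2 ^ m by omega, mul_comm]
      exact Nat.dvd_of_mul_dvd_mul_left hpp.pos hdvd
    have := le_of_dvd_succ_mul (by omega) hq hd
    omega
  · exact absurd (hnq.symm.trans h5) fun h => param_not_pow h1 h2 h4 hq h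

theorem isPSolvable_of_primePow {p : ℕ} [Fact p.Prime] (hp : ¬ (3 < p ∧ ∃ k : ℕ, p + 1 = 2 ^ k)) :
    ∀ (n : ℕ) (G : Type u) [Group G] [Finite G], Nat.card G = n → Nat.card (Sylow p G) < p ^ 2 →
      (∃ q k : ℕ, q.Prime ∧ Nat.card (Sylow p G) = q ^ k) → IsPSolvable p G := by
  intro n
  induction n using Nat.strong_induction_on with
  | _ n ih =>
  intro G _ _ hn hlt ⟨q, k, hq, hqk⟩
  have key : ∀ (H : Type u) [Group H] [Finite H], Nat.card H < n →
      Nat.card (Sylow p H) ∣ Nat.card (Sylow p G) → IsPSolvable p H := by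
    intro H _ _ hH hd
    obtain ⟨i, -, hi⟩ := (Nat.dvd_prime_pow hq).1 (hqk ▸ hd)
    exact ih _ hH H rfl (lt_of_le_of_lt (Nat.le_of_dvd Nat.card_pos hd) hlt) ⟨q, i, hq, hi⟩
  rcases subsingleton_or_nontrivial G with h1 | h1
  · exact Cfsg.Lib.Core.isPSolvable_of_isPGroup fun g => ⟨0, Subsingleton.elim _ _⟩
  by_cases hs : IsSimpleGroup G
  · by_cases hc : IsMulCommutative G
    · haveI : Group.IsSolvable G := IsSimpleGroup.comm_iff_isSolvable.1 hc.1.1
      exact Cfsg.Lib.Core.isPSolvable_of_isSolvable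
    by_cases hpd : p ∣ Nat.card G
    · exact absurd (mersenne_of_simple hc hpd hlt hq hqk) hp
    · exact Cfsg.Lib.Local.AutQ.isPSolvable_of_coprime
        (Nat.Prime.coprime_iff_not_dvd Fact.out |>.2 hpd).symm
  · obtain ⟨N, hN, hNb, hNt⟩ : ∃ N : Subgroup G, N.Normal ∧ N ≠ ⊥ ∧ N ≠ ⊤ := by
      by_contra hcon
      push Not at hcon
      exact hs ⟨fun N hN => or_iff_not_imp_left.2 (hcon N hN)⟩
    have hcard := N.card_mul_index
    have h2 : 1 < Nat.card N := (Subgroup.one_lt_card_iff_ne_bot N).2 hNb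
    have h3 : 1 < N.index := by
      have := Nat.pos_of_ne_zero (Subgroup.index_ne_zero_of_finite (H := N))
      have : N.index ≠ 1 := fun h => hNt (Subgroup.index_eq_one.1 h)
      omega
    refine Cfsg.Lib.FusionSys.isPSolvable_ext (Nat.card G) G N rfl
      (key N ?_ (Cfsg.Agent.S3933.card_sylow_normal_dvd N)) (key (G ⧸ N) ?_ ?_)
    · rw [← hn, ← hcard]; exact lt_mul_of_one_lt_right Nat.card_pos h3
    · rw [← hn, ← Subgroup.index_eq_card, ← hcard]
      exact lt_mul_of_one_lt_left (by omega) h2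
    · obtain ⟨P⟩ : Nonempty (Sylow p G) := inferInstance
      rw [Cfsg.Agent.S3867.card_quot P N, P.card_eq_index_normalizer]
      exact Subgroup.index_dvd_of_le le_sup_left

theorem primePow_of_isPSolvable {G : Type u} [Group G] [Finite G] {p : ℕ} [Fact p.Prime]
    (h : IsPSolvable p G) (hlt : Nat.card (Sylow p G) < p ^ 2) :
    ∃ q k : ℕ, q.Prime ∧ Nat.card (Sylow p G) = q ^ k := by
  have hpp : p.Prime := Fact.out
  have hQ : Nat.card (Sylow p G) ≠ 0 ∧
      ∀ l : ℕ, l.Prime → l ^ (Nat.card (Sylow p G)).factorization l ≡ 1 [MOD p] := by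
    refine SylowCount.sylow_number_induction_self (p := p)
      (Q := fun n => n ≠ 0 ∧ ∀ l : ℕ, l.Prime → l ^ n.factorization l ≡ 1 [MOD p])
      ⟨one_ne_zero, fun l _ => by simp [Nat.ModEq.refl]⟩
      (fun a b ha hb => ⟨mul_ne_zero ha.1 hb.1, fun l hl => ?_⟩) (fun n hn h => ⟨hn, h⟩)
      (fun H N _ hs => ?_)
    · rw [Nat.factorization_mul ha.1 hb.1, Finsupp.add_apply, pow_add]
      simpa using (ha.2 l hl).mul (hb.2 l hl)
    · have hHN := Cfsg.Lib.Core.isPSolvable_quotient (Cfsg.Lib.Core.isPSolvable_subgroup h H) N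
      have h1 : Nat.card (Sylow p (H ⧸ N)) = 1 := by
        obtain ⟨S⟩ : Nonempty (Sylow p (H ⧸ N)) := inferInstance
        have hmin : Cfsg.Lib.Core.IsMinNormal (⊤ : Subgroup (H ⧸ N)) :=
          ⟨inferInstance, top_ne_bot, fun K hK _ => hK.eq_bot_or_eq_top⟩
        rw [S.card_eq_index_normalizer, Subgroup.index_eq_one]
        refine Subgroup.normalizer_eq_top_iff.2 ?_
        rcases Cfsg.Lib.Core.minimal_normal_of_isPSolvable hHN hmin with hg | hg
        · have : (S : Subgroup (H ⧸ N)) = ⊤ := (S.3 hg le_top).symm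
          rw [this]; infer_instance
        · rw [Subgroup.card_top] at hg
          have : (S : Subgroup (H ⧸ N)) = ⊥ := by
            by_contra hne
            obtain ⟨j, hj⟩ := S.2.exists_card_eq
            have hj0 : j ≠ 0 := by
              rintro rfl
              exact hne (Subgroup.eq_bot_of_card_eq _ (by rw [hj, pow_zero]))
            exact hpp.coprime_iff_not_dvd.1 hg.symm
              ((hj ▸ dvd_pow_self p hj0).trans (Subgroup.card_subgroup_dvd_card _))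
          rw [this]; infer_instance
      exact ⟨h1 ▸ one_ne_zero, fun l _ => by simp [h1, Nat.ModEq.refl]⟩
  set n := Nat.card (Sylow p G) with hn
  rcases eq_or_ne n 1 with h1 | h1
  · exact ⟨2, 0, Nat.prime_two, by rw [h1, pow_zero]⟩
  obtain ⟨q, hq, hqd⟩ := Nat.exists_prime_and_dvd h1
  refine ⟨q, n.factorization q, hq, ?_⟩
  have big : ∀ l : ℕ, l.Prime → l ∣ n → p < l ^ n.factorization l := by
    intro l hl hld
    have hpos := hl.factorization_pos_of_dvd hQ.1 hld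
    have hone : 1 < l ^ n.factorization l := Nat.one_lt_pow hpos.ne' hl.one_lt
    by_contra hle
    have h2 := hQ.2 l hl
    rcases lt_or_eq_of_le (not_lt.1 hle) with h3 | h3
    · rw [Nat.ModEq, Nat.mod_eq_of_lt h3, Nat.mod_eq_of_lt hpp.one_lt] at h2
      omega
    · rw [h3, Nat.ModEq, Nat.mod_self, Nat.mod_eq_of_lt hpp.one_lt] at h2
      omega
  have hmul := Nat.ordProj_mul_ordCompl_eq_self n q
  by_contra hne
  have hc : n / q ^ n.factorization q ≠ 1 := fun h => hne (by rw [h, mul_one] at hmul; exact hmul.symm)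
  obtain ⟨l, hl, hld⟩ := Nat.exists_prime_and_dvd hc
  have hlq : l ≠ q := fun h => Nat.not_dvd_ordCompl hq hQ.1 (h ▸ hld)
  have h5 : l ^ n.factorization l * q ^ n.factorization q ≤ n :=
    Nat.le_of_dvd (Nat.pos_of_ne_zero hQ.1) (Nat.Coprime.mul_dvd_of_dvd_of_dvd
      (Nat.coprime_pow_primes _ _ hl hq hlq) (Nat.ordProj_dvd n l) (Nat.ordProj_dvd n q))
  have h6 := Nat.mul_lt_mul'' (big l hl (hld.trans (Nat.ordCompl_dvd n q))) (big q hq hqd)
  rw [pow_two] at hlt
  omega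

end Cfsg.Lib.Fusion.SylowNumberSquare
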