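import Cfsg.Agent.S4134
import Cfsg.Agent.Lib.PGroup.Basic

/-!
# An abelian normal section with few fixed points in the normalizer of a centralizer
-/

set_option linter.style.haveILetI false
set_option autoImplicit false

namespace Cfsg.Lib.Fusion.TwoIndices

open Subgroup
open scoped commutatorElement IsMulCommutative
open Cfsg.Agent.S4134 (pow_prime_mem pow_card_complement_mem mem_of_pow_mem commute_of_central_commutator)

/-- No group `K` has a normal subgroup `C` and an abelian normal subgroup `D ≤ C` centralized by `C`, with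
only elements of `Z` centralized from outside `C`, two primes in `[K : C]` and in `D`, one of them having
an element fixed modulo `Z` by a Sylow subgroup. -/
theorem no_configuration {K : Type*} [Group K] [Finite K] (Z C D : Subgroup K) [C.Normal] [D.Normal]
    [IsMulCommutative D] (hCD : ∀ c ∈ C, ∀ d ∈ D, c * d = d * c)
    (hZ : Z ≤ center K) (hCA : ∀ t ∉ C, ∀ w ∈ D, t * w = w * t → w ∈ Z)
    {p q : ℕ} [hp : Fact p.Prime] [hq : Fact q.Prime] (hqp : q ≠ p) (P : Sylow p K) {x y : K}
    (hxD : x ∈ D) (hxZ : x ∉ Z) {k : ℕ} (hxk : x ^ p ^ k = 1) (hxp : x ^ p ∈ Z)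
    (hx : ∀ g ∈ (P : Subgroup K), ⁅g, x⁆ ∈ Z)
    (hyD : y ∈ D) (hyZ : y ∉ Z) {l : ℕ} (hyl : y ^ q ^ l = 1)
    (hpC : p ∣ C.index) (hqC : q ∣ C.index) : False := by
  classical
  haveI hZn : Z.Normal := ⟨fun n hn g => by
    rw [mem_center_iff.mp (hZ hn) g, mul_inv_cancel_right]; exact hn⟩
  let φ : K ⧸ C →* MulAut D := QuotientGroup.lift C MulAut.conjNormal fun a ha => by
    rw [MonoidHom.mem_ker]
    refine MulEquiv.ext fun v => Subtype.ext ?_
    rw [MulAut.conjNormal_apply]
    show a * v * a⁻¹ = v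
    rw [hCD a ha v v.2, mul_inv_cancel_right]
  set W := Z.subgroupOf D with hW
  have hfix : ∀ h : K ⧸ C, h ≠ 1 → ∀ v, φ h v = v → v ∈ W := by
    intro h h1 v hv
    obtain ⟨t, rfl⟩ := QuotientGroup.mk_surjective h
    have hv' : t * (v : K) * t⁻¹ = v := by
      have := congrArg Subtype.val hv
      simpa [φ, MulAut.conjNormal_apply] using this
    exact mem_subgroupOf.mpr (hCA t (fun ht => h1 ((QuotientGroup.eq_one_iff t).mpr ht)) v v.2
      (mul_inv_eq_iff_eq_mul.mp hv'))
  set π := QuotientGroup.mk' C with hπ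
  have hπs : Function.Surjective π := QuotientGroup.mk'_surjective C
  -- the image of `P` has exponent `p`
  have hexp : ∀ g ∈ (P : Subgroup K), g ^ p ∈ C := by
    intro g hg
    have hc : Commute (QuotientGroup.mk' Z g) (QuotientGroup.mk' Z x) := by
      rw [commute_iff_eq, ← commutatorElement_eq_one_iff_mul_comm, ← map_commutatorElement]
      exact (QuotientGroup.eq_one_iff _).mpr (hx g hg)
    have h1 : (g ^ p)⁻¹ * (g * x) ^ p ∈ Z := by
      rw [← QuotientGroup.eq_one_iff, ← QuotientGroup.mk'_apply, map_mul, map_inv, map_pow, map_pow,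
        map_mul, hc.mul_pow, inv_mul_cancel_left, ← map_pow]
      exact (QuotientGroup.eq_one_iff _).mpr hxp
    obtain ⟨z, hz, hzeq⟩ : ∃ z ∈ Z, (g * x) ^ p = g ^ p * z := ⟨_, h1, by group⟩
    have h2 : Commute (g * x) (g ^ p) := by
      have h3 : g ^ p = (g * x) ^ p * z⁻¹ := by rw [hzeq, mul_inv_cancel_right]
      rw [h3]
      exact (Commute.self_pow _ p).mul_right (mem_center_iff.mp (inv_mem (hZ hz)) _)
    have h4 : Commute x (g ^ p) := by
      have := (Commute.self_pow g p).inv_left.mul_left h2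
      rwa [inv_mul_cancel_left] at this
    by_contra hgA
    exact hxZ (hCA _ hgA x hxD h4.eq.symm)
  set PH : Sylow p (K ⧸ C) := P.mapSurjective hπs with hPH
  have hPHcoe : (PH : Subgroup (K ⧸ C)) = (P : Subgroup K).map π := by rw [hPH]; rfl
  have hPHexp : ∀ a ∈ (PH : Subgroup (K ⧸ C)), a ^ p = 1 := by
    intro a ha
    rw [hPHcoe] at ha
    obtain ⟨g, hg, rfl⟩ := ha
    rw [← map_pow]
    exact (QuotientGroup.eq_one_iff _).mpr (hexp g hg)
  have hcardH : Nat.card (K ⧸ C) = C.index := C.index_eq_card.symm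
  haveI : Nontrivial (PH : Subgroup (K ⧸ C)) := by
    rw [Subgroup.nontrivial_iff_ne_bot]
    intro h
    have h1 : p ∣ Nat.card (PH : Subgroup (K ⧸ C)) := PH.dvd_card_of_dvd_card (hcardH ▸ hpC)
    rw [h, card_bot] at h1
    exact hp.out.one_lt.ne' (Nat.dvd_one.mp h1)
  haveI := PH.2.center_nontrivial
  obtain ⟨⟨a₀, ha₀c⟩, ha₀1⟩ := exists_ne (1 : center (PH : Subgroup (K ⧸ C)))
  set a := (a₀ : K ⧸ C) with hadef
  have haP : a ∈ (PH : Subgroup (K ⧸ C)) := a₀.2
  have ha1 : a ≠ 1 := fun h => ha₀1 (Subtype.ext (Subtype.ext h))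
  have hord : ∀ b ∈ (PH : Subgroup (K ⧸ C)), b ≠ 1 → orderOf b = p := fun b hb hb1 =>
    orderOf_eq_prime (hPHexp b hb) hb1
  have hqp' : p.Coprime q := (Nat.coprime_primes hp.out hq.out).mpr hqp.symm
  have hPHz : (PH : Subgroup (K ⧸ C)) = zpowers a := by
    refine le_antisymm (fun b hb => ?_) (zpowers_le.mpr haP)
    by_contra hba
    have hb1 : b ≠ 1 := fun h => hba (h ▸ one_mem _)
    have hab : Commute a b :=
      (congrArg Subtype.val (mem_center_iff.mp ha₀c ⟨b, hb⟩)).symm
    have h1 := pow_prime_mem hfix (hord a haP ha1) (hord b hb hb1) hab hba (⟨y, hyD⟩ : D)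
    exact hyZ (mem_of_pow_mem (W := Z) hyl (mem_subgroupOf.mp h1) (hqp'.pow_right l))
  have hcardP : Nat.card (PH : Subgroup (K ⧸ C)) = p := by
    rw [hPHz, Nat.card_zpowers]; exact hord a haP ha1
  -- nothing of order prime to `p` commutes with `a`
  have hC : ∀ (m : K ⧸ C) (d : ℕ), m ^ d = 1 → ¬ p ∣ d → Commute m a → m = 1 := by
    intro m d hmd hd hma
    by_contra hm1
    obtain ⟨t, ht⟩ := hπs (m * a)
    obtain ⟨j, r, hr, hrt⟩ := Nat.exists_eq_pow_mul_and_not_dvd (orderOf_pos t).ne' p hp.out.ne_one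
    set g' := t ^ d with hg'
    set h' := t ^ p ^ j with hh'
    have hg'π : π g' = a ^ d := by rw [hg', map_pow, ht, hma.mul_pow, hmd, one_mul]
    have hg'A : g' ∉ C := fun h => by
      have h1 : π g' = 1 := (QuotientGroup.eq_one_iff _).mpr h
      rw [hg'π] at h1
      exact hd (hord a haP ha1 ▸ orderOf_dvd_of_pow_eq_one h1)
    have hcop : ∀ i, (p ^ i).Coprime d := fun i =>
      ((Nat.Prime.coprime_iff_not_dvd hp.out).mpr hd).pow_left i
    have hh'A : h' ∉ C := fun h => by
      have h1 : π h' = 1 := (QuotientGroup.eq_one_iff _).mpr h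
      rw [hh', map_pow, ht, hma.mul_pow] at h1
      have hap : (a ^ p ^ j) ^ p = 1 := hPHexp _ (pow_mem haP _)
      have h2 : (m ^ p ^ j) ^ p = 1 := by
        rw [eq_inv_of_mul_eq_one_left h1, inv_pow, hap, inv_one]
      rw [← pow_mul, ← pow_succ] at h2
      exact hm1 (orderOf_eq_one_iff.mp (Nat.eq_one_of_dvd_coprimes (hcop (j + 1))
        (orderOf_dvd_of_pow_eq_one h2) (orderOf_dvd_of_pow_eq_one hmd)))
    obtain ⟨g, hg, hgeq⟩ : ∃ g ∈ (P : Subgroup K), π g = π g' := by
      have h1 : π g' ∈ (PH : Subgroup (K ⧸ C)) := hg'π ▸ pow_mem haP _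
      rw [hPHcoe] at h1
      exact h1
    set c := g⁻¹ * g' with hc
    have hcA : c ∈ C := (QuotientGroup.eq).mp hgeq
    have hcx : c * x = x * c := hCD c hcA x hxD
    have hgx : g' * x * g'⁻¹ = ⁅g, x⁆ * x := by
      calc g' * x * g'⁻¹ = g * (c * x * c⁻¹) * g⁻¹ := by rw [hc]; group
        _ = g * x * g⁻¹ := by rw [hcx, mul_inv_cancel_right]
        _ = _ := by rw [commutatorElement_def]; group
    have hw : ⁅x, h'⁆ ∈ D := by
      rw [commutatorElement_def, mul_assoc, mul_assoc, ← mul_assoc h']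
      exact D.mul_mem hxD (Subgroup.Normal.conj_mem inferInstance _ (D.inv_mem hxD) h')
    have hgh : g' * h' * g'⁻¹ = h' := by
      rw [((Commute.refl t).pow_pow d (p ^ j)).eq, mul_inv_cancel_right]
    set z := ⁅g, x⁆ with hzdef
    have hzc : ∀ u, u * z = z * u := mem_center_iff.mp (hZ (hx g hg))
    have hfixw : g' * ⁅x, h'⁆ * g'⁻¹ = ⁅x, h'⁆ := by
      calc g' * ⁅x, h'⁆ * g'⁻¹
          = (g' * x * g'⁻¹) * (g' * h' * g'⁻¹) * (g' * x * g'⁻¹)⁻¹ * (g' * h' * g'⁻¹)⁻¹ := by
            rw [commutatorElement_def]; group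
        _ = z * (x * h' * x⁻¹) * z⁻¹ * h'⁻¹ := by rw [hgx, hgh]; group
        _ = (x * h' * x⁻¹) * h'⁻¹ := by rw [← hzc, mul_inv_cancel_right]
        _ = _ := by rw [commutatorElement_def]
    have hwZ := hCA g' hg'A _ hw (mul_inv_eq_iff_eq_mul.mp hfixw)
    have hcomm := commute_of_central_commutator (hZ hwZ) hxk
      (show h' ^ r = 1 by rw [hh', ← pow_mul, ← hrt, pow_orderOf_eq_one])
      (((Nat.Prime.coprime_iff_not_dvd hp.out).mpr hr).pow_left k)
    exact hxZ (hCA h' hh'A x hxD hcomm.symm)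
  -- the normalizer of `⟨a⟩` centralizes it
  have hNC : normalizer ((PH : Subgroup (K ⧸ C)) : Set (K ⧸ C)) ≤
      centralizer ((PH : Subgroup (K ⧸ C)) : Set (K ⧸ C)) := by
    set N := normalizer ((PH : Subgroup (K ⧸ C)) : Set (K ⧸ C)) with hN
    by_cases hprimes : ∃ b ∈ N, (orderOf b).Prime ∧ orderOf b ≠ p
    · exfalso
      obtain ⟨b, hbN, hbp, hbne⟩ := hprimes
      haveI : Fact (orderOf b).Prime := ⟨hbp⟩
      haveI hnorm : ((PH : Subgroup (K ⧸ C)).subgroupOf N).Normal := normal_in_normalizer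
      have hfixN : ∀ h : N, h ≠ 1 → ∀ v, (φ.comp N.subtype) h v = v → v ∈ W := fun h h1 v hv =>
        hfix (h : K ⧸ C) (fun e => h1 (Subtype.ext e)) v hv
      have h1 := pow_card_complement_mem (p := orderOf b) hfixN (a := (⟨b, hbN⟩ : N))
        (Subgroup.orderOf_mk b hbN) (M := (PH : Subgroup (K ⧸ C)).subgroupOf N)
        (fun h => by
          rw [subgroupOf_eq_bot, disjoint_iff, inf_eq_left.mpr le_normalizer] at h
          exact ha1 (mem_bot.mp (h ▸ haP)))
        (fun m hm hmb => by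
          rw [mem_subgroupOf] at hm
          by_contra hm1
          have hm1' : (m : K ⧸ C) ≠ 1 := fun e => hm1 (Subtype.ext e)
          have hza : a ∈ zpowers (m : K ⧸ C) := by
            have : zpowers (m : K ⧸ C) = zpowers a := eq_of_le_of_card_ge
              (zpowers_le.mpr (hPHz ▸ hm)) (by
                rw [Nat.card_zpowers, Nat.card_zpowers, hord _ hm hm1', hord a haP ha1])
            exact this ▸ mem_zpowers a
          obtain ⟨i, hi⟩ := mem_zpowers_iff.mp hza
          have hbm : Commute b (m : K ⧸ C) := (congrArg Subtype.val hmb.eq).symm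
          have hba : Commute b a := hi ▸ hbm.zpow_right i
          have := hC b (orderOf b) (pow_orderOf_eq_one b)
            (fun hd => hbne ((Nat.prime_dvd_prime_iff_eq hp.out hbp).mp hd).symm) hba
          rw [this, orderOf_one] at hbp
          exact Nat.not_prime_one hbp) (⟨y, hyD⟩ : D)
      rw [Nat.card_congr (subgroupOfEquivOfLe le_normalizer).toEquiv, hcardP] at h1
      exact hyZ (mem_of_pow_mem (W := Z) hyl (mem_subgroupOf.mp h1) (hqp'.pow_right l))
    push Not at hprimes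
    have hNp : IsPGroup p N := by
      refine IsPGroup.of_card (n := (Nat.card N).primeFactorsList.length) ?_
      refine Nat.eq_prime_pow_of_unique_prime_dvd Nat.card_pos.ne' fun {l} hl hld => ?_
      haveI : Fact l.Prime := ⟨hl⟩
      obtain ⟨b, hb⟩ := exists_prime_orderOf_dvd_card' (G := N) l hld
      have := hprimes (b : K ⧸ C) b.2 (by rw [Subgroup.orderOf_coe, hb]; exact hl)
      rwa [Subgroup.orderOf_coe, hb] at this
    intro b hb
    have hNeq : N = (PH : Subgroup (K ⧸ C)) := PH.is_maximal' hNp le_normalizer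
    rw [mem_centralizer_iff]
    intro u hu
    rw [SetLike.mem_coe, hPHz] at hu
    rw [hNeq, hPHz] at hb
    obtain ⟨i, rfl⟩ := mem_zpowers_iff.mp hu
    obtain ⟨i', rfl⟩ := mem_zpowers_iff.mp hb
    exact (Commute.zpow_zpow (Commute.refl a) i i').eq
  have hcompl := MonoidHom.ker_transferSylow_isComplement' PH hNC
  set M := (MonoidHom.transferSylow PH hNC).ker with hMdef
  haveI : M.Normal := MonoidHom.normal_ker _
  have hMidx : (PH : Subgroup (K ⧸ C)).index = Nat.card M := hcompl.index_eq_card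
  have hMp : ¬ p ∣ Nat.card M := hMidx ▸ PH.not_dvd_index
  have hM : M ≠ ⊥ := by
    intro h
    have h1 := hcompl.card_mul
    rw [h, card_bot, one_mul, hcardP, hcardH] at h1
    rw [← h1] at hqC
    exact hqp ((Nat.prime_dvd_prime_iff_eq hq.out hp.out).mp hqC)
  have h1 := pow_card_complement_mem hfix (hord a haP ha1) hM (fun m hm hma =>
    hC m (Nat.card M) (congrArg Subtype.val (pow_card_eq_one' (x := (⟨m, hm⟩ : M)))) hMp hma)
    (⟨x, hxD⟩ : D)
  exact hxZ (mem_of_pow_mem (W := Z) hxk (mem_subgroupOf.mp h1)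
    (((Nat.Prime.coprime_iff_not_dvd hp.out).mpr hMp).symm.pow_right k))

end Cfsg.Lib.Fusion.TwoIndices
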